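import Cfsg.Agent.Nodes.RGDFoldSL
import Cfsg.Agent.Nodes.FreeTorus
import Cfsg.Agent.Nodes.OppDec
import Cfsg.Agent.KFacts.RgdDiag

/-!
# Nodes parametrised by `SL₂(F)`: the rank one torus is cyclic and inverted by the reflection
-/

set_option autoImplicit false
set_option linter.unusedSectionVars false

namespace Cfsg.Agent.ParSys.Fam.SLNode

open CoxeterSystem Cfsg.Agent.ChevalleyStructure.CoxeterGeom Cfsg.Agent.Tits.Roots Cfsg.Agent.Tits.Core
  Cfsg.Agent.Tits.RootComb Cfsg.Agent.Nodes.Comb Cfsg.Agent.Nodes.Reps Cfsg.Agent.Nodes.BNOf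
  Cfsg.Agent.Nodes.BNOf.RGD Cfsg.Agent.Nodes.FreeTorus Cfsg.Agent.Nodes.OppDec
  Cfsg.Agent.KFacts.RgdDiag
open Cfsg.Agent.ChevalleyStructure.SL2Hom (up lo mem_closure_SL2)
open Cfsg.Agent.Nodes.RGDFoldSL (wS hS coe_wS coe_hS lo_eq)

section SL2

variable {F : Type*} [Field F]

theorem hS_mul {s t : F} (hs : s ≠ 0) (ht : t ≠ 0) : hS s * hS t = hS (s * t) := by
  apply Subtype.ext
  rw [Matrix.SpecialLinearGroup.coe_mul, coe_hS hs, coe_hS ht, coe_hS (mul_ne_zero hs ht)]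
  ext i j
  fin_cases i <;> fin_cases j <;> simp [Matrix.mul_apply, Fin.sum_univ_two, mul_comm]

theorem hS_one : hS (1 : F) = 1 := by
  apply Subtype.ext
  rw [coe_hS one_ne_zero, inv_one, Matrix.SpecialLinearGroup.coe_one, Matrix.one_fin_two]

theorem hS_inv {t : F} (ht : t ≠ 0) : (hS t)⁻¹ = hS t⁻¹ := by
  rw [inv_eq_iff_mul_eq_one, hS_mul ht (inv_ne_zero ht), mul_inv_cancel₀ ht, hS_one]

theorem wS_hS {t : F} (ht : t ≠ 0) : wS 1 * hS t = (hS t)⁻¹ * wS 1 := by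
  rw [hS_inv ht]
  apply Subtype.ext
  rw [Matrix.SpecialLinearGroup.coe_mul, Matrix.SpecialLinearGroup.coe_mul, coe_hS ht, coe_hS (inv_ne_zero ht),
    coe_wS one_ne_zero]
  ext i j
  fin_cases i <;> fin_cases j <;> simp [Matrix.mul_apply, Fin.sum_univ_two]

theorem hS_up {t : F} (ht : t ≠ 0) (a : F) : hS t * up a * (hS t)⁻¹ = up (t * t * a) := by
  rw [mul_inv_eq_iff_eq_mul]
  apply Subtype.ext
  rw [Matrix.SpecialLinearGroup.coe_mul, Matrix.SpecialLinearGroup.coe_mul, coe_hS ht]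
  show _ * (!![1, a; 0, 1] : Matrix (Fin 2) (Fin 2) F) = !![1, t * t * a; 0, 1] * _
  ext i j
  fin_cases i <;> fin_cases j <;> simp [Matrix.mul_apply, Fin.sum_univ_two]
  field_simp

theorem up_mul (a b : F) : up a * up b = up (a + b) := by
  apply Subtype.ext
  show (!![1, a; 0, 1] : Matrix (Fin 2) (Fin 2) F) * !![1, b; 0, 1] = !![1, a + b; 0, 1]
  ext i j
  fin_cases i <;> fin_cases j <;> simp [Matrix.mul_apply, Fin.sum_univ_two, add_comm]

theorem up_zero : up (0 : F) = 1 := by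
  apply Subtype.ext
  show (!![1, 0; 0, 1] : Matrix (Fin 2) (Fin 2) F) = 1
  rw [Matrix.one_fin_two]

theorem hS_zpow {t : F} (ht : t ≠ 0) (k : ℤ) : hS (t ^ k) = hS t ^ k := by
  have key : ∀ m : ℕ, hS (t ^ m) = hS t ^ m := by
    intro m
    induction m with
    | zero => rw [pow_zero, pow_zero, hS_one]
    | succ m ih => rw [pow_succ, pow_succ, ← hS_mul (pow_ne_zero m ht) ht, ih]
  rcases k with m | m
  · rw [Int.ofNat_eq_natCast, zpow_natCast, zpow_natCast, key]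
  · rw [zpow_negSucc, zpow_negSucc, ← hS_inv (pow_ne_zero _ ht), key]

theorem dec_zero {A : Matrix.SpecialLinearGroup (Fin 2) F} (hA : A.1 1 0 = 0) :
    A.1 0 0 ≠ 0 ∧ A = hS (A.1 0 0) * up (A.1 0 1 / A.1 0 0) := by
  have hd := A.2
  rw [Matrix.det_fin_two, hA, mul_zero, sub_zero] at hd
  have h0 : A.1 0 0 ≠ 0 := left_ne_zero_of_mul_eq_one hd
  have h1 : A.1 1 1 = (A.1 0 0)⁻¹ := eq_inv_of_mul_eq_one_right hd
  refine ⟨h0, ?_⟩
  apply Subtype.ext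
  rw [Matrix.SpecialLinearGroup.coe_mul, coe_hS h0]
  show A.1 = !![A.1 0 0, 0; 0, (A.1 0 0)⁻¹] * !![1, A.1 0 1 / A.1 0 0; 0, 1]
  ext i j
  fin_cases i <;> fin_cases j
  · simp [Matrix.mul_apply, Fin.sum_univ_two]
  · simp only [Matrix.mul_apply, Fin.sum_univ_two]
    simp
    field_simp
  · simpa [Matrix.mul_apply, Fin.sum_univ_two] using hA
  · simpa [Matrix.mul_apply, Fin.sum_univ_two] using h1

theorem dec_ne {A : Matrix.SpecialLinearGroup (Fin 2) F} (hA : A.1 1 0 ≠ 0) :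
    A = up (A.1 0 0 / A.1 1 0) * (hS (-(A.1 1 0)⁻¹) * wS 1) * up (A.1 1 1 / A.1 1 0) := by
  have hd := A.2
  rw [Matrix.det_fin_two] at hd
  have hg : -(A.1 1 0)⁻¹ ≠ 0 := neg_ne_zero.2 (inv_ne_zero hA)
  have e1 : (hS (-(A.1 1 0)⁻¹) * wS 1 : Matrix.SpecialLinearGroup (Fin 2) F).1 = !![0, -(A.1 1 0)⁻¹; A.1 1 0, 0] := by
    rw [Matrix.SpecialLinearGroup.coe_mul, coe_hS hg, coe_wS one_ne_zero]
    ext i j
    fin_cases i <;> fin_cases j <;> simp [Matrix.mul_apply, Fin.sum_univ_two]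
  apply Subtype.ext
  rw [Matrix.SpecialLinearGroup.coe_mul, Matrix.SpecialLinearGroup.coe_mul, e1]
  show A.1 = !![1, A.1 0 0 / A.1 1 0; 0, 1] * !![0, -(A.1 1 0)⁻¹; A.1 1 0, 0] * !![1, A.1 1 1 / A.1 1 0; 0, 1]
  have hb : A.1 0 1 = (A.1 0 0 * A.1 1 1 - 1) / A.1 1 0 := by
    rw [eq_div_iff hA]
    linear_combination (-1 : F) * hd
  ext i j
  fin_cases i <;> fin_cases j
  · simp only [Matrix.mul_apply, Fin.sum_univ_two]
    simp
    field_simp
  · simp only [Matrix.mul_apply, Fin.sum_univ_two]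
    simp
    rw [hb]
    field_simp
    ring
  · simp [Matrix.mul_apply, Fin.sum_univ_two]
  · simp only [Matrix.mul_apply, Fin.sum_univ_two]
    simp
    field_simp

end SL2

variable {I W Y : Type*} [Fintype I] [DecidableEq I] [Group W] [Group Y] {M : CoxeterMatrix I}
variable {cs : CoxeterSystem M W} {A : I → I → ℤ} {h : IsCartan M A} {p : ℕ} {T : Subgroup Y} {n : I → Y}
  {X : (I → ℤ) → Subgroup Y} [Finite W]

variable (R : RGD cs h p T n X) (i : I) {F : Type*} [Field F] (Φ : Matrix.SpecialLinearGroup (Fin 2) F →* Y)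
  (hup : ∀ g, g ∈ X (sr i) ↔ ∃ a, g = Φ (up a)) (hw : Φ (wS 1) = n i) (hT : ∀ d : F, d ≠ 0 → Φ (hS d) ∈ T)

include R hup hw

theorem LL_le : LL X (sr i) ≤ Φ.range := by
  have h1 : X (sr i) ≤ Φ.range := by
    intro g hg
    obtain ⟨a, rfl⟩ := (hup g).1 hg
    exact ⟨_, rfl⟩
  refine sup_le h1 ?_
  have h2 := R.conj i _ (isRoot_sr cs h i)
  rw [rep_simple_sr] at h2
  rw [← h2]
  intro g hg
  rw [mem_cj] at hg
  have h3 : g = n i * ((n i)⁻¹ * g * n i) * (n i)⁻¹ := by group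
  rw [h3, ← hw] at *
  exact mul_mem (mul_mem ⟨_, rfl⟩ (h1 hg)) (inv_mem ⟨_, rfl⟩)

include hT

/-- **The rank one torus.** -/
theorem exists_hS {t : Y} (ht : t ∈ T) (ht' : t ∈ LL X (sr i)) : ∃ d : F, d ≠ 0 ∧ t = Φ (hS d) := by
  obtain ⟨A, rfl⟩ := LL_le R i Φ hup hw ht'
  have hX : ∀ b : F, Φ (up b) ∈ X (sr i) := fun b => (hup _).2 ⟨b, rfl⟩
  by_cases h0 : A.1 1 0 = 0
  · obtain ⟨ha, e⟩ := dec_zero h0
    refine ⟨_, ha, ?_⟩
    have h3 : Φ (up (A.1 0 1 / A.1 0 0)) ∈ T := by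
      have h4 : Φ (up (A.1 0 1 / A.1 0 0)) = (Φ (hS (A.1 0 0)))⁻¹ * Φ A := by
        conv_rhs => rw [e, map_mul]
        rw [← e, inv_mul_cancel_left]
      rw [h4]
      exact mul_mem (inv_mem (hT _ ha)) ht
    have h5 : Φ (up (A.1 0 1 / A.1 0 0)) = 1 := by
      have h6 := X_inf_T R (isRoot_sr cs h i)
      rw [Subgroup.eq_bot_iff_forall] at h6
      exact h6 _ ⟨hX _, h3⟩
    conv_lhs => rw [e, map_mul, h5, mul_one]
  · exfalso
    have e := dec_ne h0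
    have hXB : ∀ b : F, Φ (up b) ∈ RGD.B cs h T X := fun b => RGD.X_le_B (isRoot_sr cs h i) (sr_nonneg i) (hX b)
    have hg : -(A.1 1 0)⁻¹ ≠ 0 := neg_ne_zero.2 (inv_ne_zero h0)
    have h3 : n i ∈ RGD.B cs h T X := by
      have h4 : n i = (Φ (hS (-(A.1 1 0)⁻¹)))⁻¹ *
          ((Φ (up (A.1 0 0 / A.1 1 0)))⁻¹ * Φ A * (Φ (up (A.1 1 1 / A.1 1 0)))⁻¹) := by
        conv_rhs => rw [e, map_mul, map_mul, map_mul, hw]
        rw [← e]
        group
      rw [h4]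
      exact mul_mem (inv_mem (RGD.T_le_B (hT _ hg)))
        (mul_mem (mul_mem (inv_mem (hXB _)) (RGD.T_le_B ht)) (inv_mem (hXB _)))
    exact simple_ne_one i (R.eq_one_of_mem_B (rp_simple cs R.nsys i) h3)

/-- **The rank one torus is cyclic.** -/
theorem isCyclic [Finite F] : IsCyclic ↥(T ⊓ LL X (sr i)) := by
  obtain ⟨g, hg⟩ := IsCyclic.exists_generator (α := Fˣ)
  have hX : X (sr i) ≤ LL X (sr i) := le_sup_left
  have h1 : Φ.range ≤ LL X (sr i) := by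
    have hup' : ∀ a : F, Φ (up a) ∈ LL X (sr i) := fun a => hX ((hup _).2 ⟨a, rfl⟩)
    have hlo' : ∀ a : F, Φ (lo a) ∈ LL X (sr i) := by
      intro a
      rw [lo_eq, map_mul, map_mul, map_inv, hw]
      have h2 := R.conj i _ (isRoot_sr cs h i)
      rw [rep_simple_sr] at h2
      have h3 : X (-sr i) ≤ LL X (sr i) := le_sup_right
      apply h3
      rw [← h2]
      exact conj_mem_cj.2 ((hup _).2 ⟨-a, rfl⟩)
    rintro _ ⟨A, rfl⟩
    have h2 : Subgroup.closure (Set.range (up (F := F)) ∪ Set.range (lo (F := F))) ≤ (LL X (sr i)).comap Φ := by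
      rw [Subgroup.closure_le]
      rintro _ (⟨a, rfl⟩ | ⟨a, rfl⟩)
      · exact hup' a
      · exact hlo' a
    exact h2 (mem_closure_SL2 A)
  refine ⟨⟨⟨Φ (hS (g : F)), hT _ g.ne_zero, h1 ⟨_, rfl⟩⟩, ?_⟩⟩
  rintro ⟨t, ht, ht'⟩
  obtain ⟨d, hd, rfl⟩ := exists_hS R i Φ hup hw hT ht ht'
  obtain ⟨k, hk⟩ := hg (Units.mk0 d hd)
  refine ⟨k, Subtype.ext ?_⟩
  have e1 : (g : F) ^ k = d := by
    have := congrArg Units.val hk
    rwa [Units.val_zpow_eq_zpow_val, Units.val_mk0] at this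
  show (Φ (hS (g : F))) ^ k = Φ (hS d)
  rw [← map_zpow, ← hS_zpow g.ne_zero, e1]

/-- **The rank one torus is inverted by the reflection.** -/
theorem inverted : ∀ t ∈ T, t ∈ LL X (sr i) → n i * t * (n i)⁻¹ * t = 1 := by
  intro t ht ht'
  obtain ⟨d, hd, rfl⟩ := exists_hS R i Φ hup hw hT ht ht'
  rw [← hw, ← map_inv, ← map_mul, ← map_mul, ← map_mul, wS_hS hd, mul_inv_cancel_right, inv_mul_cancel, map_one]

end Cfsg.Agent.ParSys.Fam.SLNode
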