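import Cfsg.Agent.ParSys.Fam.G2
import Cfsg.Agent.ParSys.Fam.SLNode
import Cfsg.Agent.ChevalleyStructure.D4H1
import Cfsg.Agent.Nodes.RGDTwNode
import Cfsg.Agent.Hexagon.TwD4Par
import Cfsg.Agent.S1071

/-!
# THEOREM PAR: the facts on `³D₄(q)`, `q ≥ 4` even
-/

set_option autoImplicit false
set_option linter.unusedSectionVars false

namespace Cfsg.Agent.ParSys.Fam.D4

open CoxeterSystem Cfsg.Agent.ChevalleyStructure.CoxeterGeom Cfsg.Agent.Tits.Roots Cfsg.Agent.Tits.Core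
  Cfsg.Agent.Tits.RootComb Cfsg.Agent.Nodes.Comb Cfsg.Agent.Nodes.Reps Cfsg.Agent.Nodes.BNOf
  Cfsg.Agent.Nodes.BNOf.RGD Cfsg.Agent.Nodes.RGDChev Cfsg.Agent.Nodes.RGDFold
open Cfsg.Lie Cfsg.Agent.ChevalleyStructure
open Cfsg.Agent.ChevalleyStructure.D4U (RS)
open Cfsg.Agent.SplitTwo (kk HexPar HexRel trc crs shp nrm)
open Cfsg.Agent.Hexagon
open scoped commutatorElement

universe u

/-- the Coxeter system -/
abbrev cs : CoxeterSystem CoxeterMatrix.G₂ CoxeterMatrix.G₂.Group := CoxeterMatrix.G₂.toCoxeterSystem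

theorem cls2 : ∀ k < chevD4.nroots, (V chevD4 Nodes.RGDTwD4.J k = V chevD4 Nodes.RGDTwD4.J 22 ↔ k ∈ [22]) := by
  decide +kernel
theorem cls3 : ∀ k < chevD4.nroots, (V chevD4 Nodes.RGDTwD4.J k = V chevD4 Nodes.RGDTwD4.J 17 ↔ k ∈ [20, 21, 17]) := by
  decide +kernel
theorem cls4 : ∀ k < chevD4.nroots, (V chevD4 Nodes.RGDTwD4.J k = V chevD4 Nodes.RGDTwD4.J 23 ↔ k ∈ [23]) := by
  decide +kernel
theorem cls5 : ∀ k < chevD4.nroots, (V chevD4 Nodes.RGDTwD4.J k = V chevD4 Nodes.RGDTwD4.J 19 ↔ k ∈ [19, 16, 15]) := by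
  decide +kernel

theorem pos_cases : ∀ k < chevD4.nroots, (∀ i : Fin 2, 0 ≤ V chevD4 Nodes.RGDTwD4.J k i) →
    V chevD4 Nodes.RGDTwD4.J k = sr 0 ∨ V chevD4 Nodes.RGDTwD4.J k = sr 1 ∨
    V chevD4 Nodes.RGDTwD4.J k = V chevD4 Nodes.RGDTwD4.J 22 ∨ V chevD4 Nodes.RGDTwD4.J k = V chevD4 Nodes.RGDTwD4.J 17 ∨
    V chevD4 Nodes.RGDTwD4.J k = V chevD4 Nodes.RGDTwD4.J 23 ∨ V chevD4 Nodes.RGDTwD4.J k = V chevD4 Nodes.RGDTwD4.J 19 := by
  decide +kernel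

variable {K : Type u} [Field K] {q : ℕ} {φ : K →+* K}

theorem mem_iff (hle : twistedD4 K q ≤ D4Fixed.fix φ) {z : Fin 2 → ℤ} {o : List ℕ} {k : ZMod (2 * 6)}
    (ho : ∀ k < chevD4.nroots, (V chevD4 Nodes.RGDTwD4.J k = z ↔ k ∈ o)) (ho' : ∀ k ∈ o, k < chevD4.nroots)
    (hL : TwD4RGD.L k = o) (g : ↥(twistedD4 K q)) : g ∈ Nodes.RGDTwD4.X φ q z ↔ g ∈ TwD4RGD.X K q k := by
  rw [Nodes.RGDTwD4.X, Subgroup.mem_subgroupOf, R_eq ho ho', Nodes.RGDTwD4.xG_eq, Nodes.RGDTwD4.fixS_eq, TwD4RGD.mem_X,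
    hL]
  exact ⟨fun h => h.1, fun h => ⟨h, hle g.2⟩⟩

/-! ### The commutator subgroup of `U` -/

theorem kk_mem {G : Type*} [Group G] {U : Subgroup G} {a b : G} (ha : a ∈ U) (hb : b ∈ U) : kk a b ∈ ⁅U, U⁆ := by
  have h := Subgroup.commutator_mem_commutator (inv_mem ha) (inv_mem hb)
  have e : ⁅a⁻¹, b⁻¹⁆ = kk a b := by rw [commutatorElement_def, inv_inv, inv_inv, kk]
  rwa [e] at h

theorem hex_comm {E : Type*} [Field E] [CharP E 2] {σ : E ≃+* E} (hne : ∃ d, σ d ≠ d) {G : Type*} [Group G]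
    {x1 x2 x3 x4 x5 x6 : E → G} (R : HexRel σ x1 x2 x3 x4 x5 x6) {D : Subgroup G}
    (h13 : ∀ a b, kk (x1 a) (x3 b) ∈ D) (h15 : ∀ a b, kk (x1 a) (x5 b) ∈ D)
    (h16 : ∀ a t, σ t = t → kk (x1 a) (x6 t) ∈ D) (h26 : ∀ t u, σ t = t → σ u = u → kk (x2 t) (x6 u) ∈ D) :
    (∀ t, σ t = t → x2 t ∈ D) ∧ (∀ a, x3 a ∈ D) ∧ (∀ t, σ t = t → x4 t ∈ D) ∧ ∀ a, x5 a ∈ D := by
  have e2 : (2 : E) = 0 := by exact_mod_cast CharP.cast_eq_zero E 2
  have hc := R.cube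
  have ft : ∀ a b : E, σ (trc σ a b) = trc σ a b := fun a b => by
    simp only [trc, map_add, hc]; ring
  have fn : ∀ a : E, σ (nrm σ a) = nrm σ a := fun a => by
    simp only [nrm, map_mul, hc]; ring
  have m2 : ∀ t, σ t = t → x2 t ∈ D := by
    intro t ht
    have h1 := h13 1 t
    have e : trc σ 1 t = t := by
      simp only [trc, one_mul, ht]
      linear_combination t * e2
    rw [R.c13, e] at h1
    exact h1
  have m4 : ∀ t, σ t = t → x4 t ∈ D := by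
    intro t ht
    have h1 := h26 t 1 ht (map_one σ)
    rw [R.c26 t 1 ht (map_one σ), mul_one] at h1
    exact h1
  have m3' : ∀ a b, x3 (crs σ a b) ∈ D := by
    intro a b
    have h1 := h15 a b
    rw [R.c15, mul_assoc] at h1
    have h2 := mul_mem (inv_mem (m2 (-(trc σ (shp σ a) b)) (by rw [map_neg, ft]))) h1
    rw [inv_mul_cancel_left] at h2
    have h3 := mul_mem h2 (inv_mem (m4 (trc σ a (shp σ b)) (ft _ _)))
    rwa [mul_inv_cancel_right] at h3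
  have m3 : ∀ a, x3 a ∈ D := by
    intro y
    by_cases hy : y = 0
    · have h1 := R.add3 0 0
      rw [add_zero] at h1
      have h2 : x3 0 = 1 := by
        have := h1
        nth_rewrite 1 [← mul_one (x3 0)] at this
        exact (mul_left_cancel this).symm
      rw [hy, h2]
      exact one_mem _
    · obtain ⟨d, hd⟩ := hne
      have hw : σ (σ d) + σ d ≠ 0 := by
        intro h0
        apply hd
        have h1 : σ (σ d) = σ d := by linear_combination h0 - σ d * e2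
        exact σ.injective h1
      have hx : y / (σ (σ d) + σ d) ≠ 0 := div_ne_zero hy hw
      have h1 := m3' (y / (σ (σ d) + σ d))⁻¹ (σ (y / (σ (σ d) + σ d)) * σ (σ (y / (σ (σ d) + σ d))) * d)
      have e : crs σ (y / (σ (σ d) + σ d))⁻¹ (σ (y / (σ (σ d) + σ d)) * σ (σ (y / (σ (σ d) + σ d))) * d) = y := by
        have h4 : y = y / (σ (σ d) + σ d) * (σ (σ d) + σ d) := (div_mul_cancel₀ y hw).symm
        generalize y / (σ (σ d) + σ d) = x at *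
        have hx1 : σ x ≠ 0 := (map_ne_zero σ).2 hx
        have hx2 : σ (σ x) ≠ 0 := (map_ne_zero σ).2 hx1
        rw [h4]
        simp only [crs, map_mul, map_inv₀, hc]
        field_simp
      rwa [e] at h1
  refine ⟨m2, m3, m4, fun y => ?_⟩
  have h1 := h16 (-y) 1 (map_one σ)
  rw [R.c16 _ _ (map_one σ), one_mul, one_mul, one_mul, neg_neg] at h1
  have h2 := mul_mem (inv_mem (mul_mem (mul_mem (m2 (-(nrm σ (-y))) (by rw [map_neg, fn])) (m3 (shp σ (-y))))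
    (m4 (1 ^ 2 * nrm σ (-y)) (by rw [one_pow, one_mul, fn])))) h1
  rwa [inv_mul_cancel_left] at h2

/-- the unipotent group -/
noncomputable abbrev UU (φ : K →+* K) (q : ℕ) : Subgroup ↥(twistedD4 K q) :=
  Sup (Nodes.RGDTwD4.X φ q) (Pos cs Nodes.RGDTwD4.isCartan)

theorem isRoot_iff' (z : Fin 2 → ℤ) : IsRoot cs Nodes.RGDTwD4.isCartan z ↔ ∃ r < chevD4.nroots, V chevD4 Nodes.RGDTwD4.J r = z :=
  Nodes.RGDTwD4.foldData.isRoot_iff Nodes.RGDTwD4.hp.checked (fun _ _ hr => wp_lt Nodes.RGDTwD4.hp _ hr) z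

theorem X_le_UU {z : Fin 2 → ℤ} (hz : IsRoot cs Nodes.RGDTwD4.isCartan z) (h0 : 0 ≤ z) :
    Nodes.RGDTwD4.X φ q z ≤ UU φ q := le_Sup (S := Pos cs Nodes.RGDTwD4.isCartan) ⟨hz, h0⟩

theorem L_eqs : TwD4RGD.L 1 = [18, 13, 12] ∧ TwD4RGD.L 2 = [22] ∧ TwD4RGD.L 3 = [20, 21, 17] ∧ TwD4RGD.L 4 = [23] ∧
    TwD4RGD.L 5 = [19, 16, 15] ∧ TwD4RGD.L 6 = [14] := by decide +kernel

section

variable (hφ : ∀ x, φ x = x ^ q) (hle : twistedD4 K q ≤ D4Fixed.fix φ)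

theorem pos_V (k : ℕ) (hk : k < chevD4.nroots) (h : ∀ i : Fin 2, 0 ≤ V chevD4 Nodes.RGDTwD4.J k i) :
    Nodes.RGDTwD4.X φ q (V chevD4 Nodes.RGDTwD4.J k) ≤ UU φ q :=
  X_le_UU ((isRoot_iff' _).2 ⟨k, hk, rfl⟩) h

include hle in
theorem hX [CharP K 2] {σ : K ≃+* K} (hφ : ∀ x, φ x = x ^ q) (hσ : ∀ x, σ x = φ x) (h3 : ∀ a, σ (σ (σ a)) = a)
    (hne : ∃ d, σ d ≠ d) (z : Fin 2 → ℤ) (hz : IsRoot cs Nodes.RGDTwD4.isCartan z) (h0 : 0 ≤ z) (hz1 : z ≠ sr 1)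
    (hz0 : z ≠ sr 0) : Nodes.RGDTwD4.X φ q z ≤ ⁅UU φ q, UU φ q⁆ := by
  have H := TwD4Par.hexPar hφ hle hσ h3
  have R := H.rel
  have c2 := mem_iff (q := q) hle (k := 2) cls2 (by decide +kernel) L_eqs.2.1
  have c3 := mem_iff (q := q) hle (k := 3) cls3 (by decide +kernel) L_eqs.2.2.1
  have c4 := mem_iff (q := q) hle (k := 4) cls4 (by decide +kernel) L_eqs.2.2.2.1
  have c5 := mem_iff (q := q) hle (k := 5) cls5 (by decide +kernel) L_eqs.2.2.2.2.1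
  have c1 := mem_iff (q := q) hle (k := 1) Nodes.RGDTwD4.cls1 (by decide +kernel) L_eqs.1
  have c6 := mem_iff (q := q) hle (k := 6) Nodes.RGDTwD4.cls0 (by decide +kernel) L_eqs.2.2.2.2.2
  have u1 : ∀ a, TwD4Par.ev (TwD4Rel.X1 σ) a ∈ UU φ q := fun a =>
    X_le_UU (isRoot_sr cs Nodes.RGDTwD4.isCartan 1) (sr_nonneg 1) ((c1 _).2 ((H.mem1 _).2 ⟨a, rfl⟩))
  have u2 : ∀ t, σ t = t → TwD4Par.ev TwD4Rel.X2 t ∈ UU φ q := fun t ht =>
    pos_V 22 (by decide +kernel) (by decide +kernel) ((c2 _).2 ((H.mem2 _).2 ⟨t, ht, rfl⟩))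
  have u3 : ∀ a, TwD4Par.ev (TwD4Rel.X3 σ) a ∈ UU φ q := fun a =>
    pos_V 17 (by decide +kernel) (by decide +kernel) ((c3 _).2 ((H.mem3 _).2 ⟨a, rfl⟩))
  have u5 : ∀ a, TwD4Par.ev (TwD4Rel.X5 σ) a ∈ UU φ q := fun a =>
    pos_V 19 (by decide +kernel) (by decide +kernel) ((c5 _).2 ((H.mem5 _).2 ⟨a, rfl⟩))
  have u6 : ∀ t, σ t = t → TwD4Par.ev TwD4Rel.X6 t ∈ UU φ q := fun t ht =>
    X_le_UU (isRoot_sr cs Nodes.RGDTwD4.isCartan 0) (sr_nonneg 0) ((c6 _).2 ((H.mem6 _).2 ⟨t, ht, rfl⟩))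
  obtain ⟨m2, m3, m4, m5⟩ := hex_comm hne R (D := ⁅UU φ q, UU φ q⁆) (fun a b => kk_mem (u1 a) (u3 b))
    (fun a b => kk_mem (u1 a) (u5 b)) (fun a t ht => kk_mem (u1 a) (u6 t ht)) (fun t u ht hu => kk_mem (u2 t ht) (u6 u hu))
  obtain ⟨k, hk, rfl⟩ := (isRoot_iff' z).1 hz
  intro g hg
  rcases pos_cases k hk h0 with e | e | e | e | e | e
  · exact absurd e hz0
  · exact absurd e hz1
  · rw [e, c2] at hg
    obtain ⟨t, ht, rfl⟩ := (H.mem2 g).1 hg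
    exact m2 t ht
  · rw [e, c3] at hg
    obtain ⟨t, rfl⟩ := (H.mem3 g).1 hg
    exact m3 t
  · rw [e, c4] at hg
    obtain ⟨t, ht, rfl⟩ := (H.mem4 g).1 hg
    exact m4 t ht
  · rw [e, c5] at hg
    obtain ⟨t, rfl⟩ := (H.mem5 g).1 hg
    exact m5 t

end

/-! ### The torus -/

/-- `g` acts on the root subgroup `s` as multiplication by `c` -/
def Sc (g : GL chevD4.Idx K) (s : ℕ) (c : K) : Prop :=
  ∀ t : K, g * Elts.xG Nodes.RGDTwD4.hp.inList s t * g⁻¹ = Elts.xG Nodes.RGDTwD4.hp.inList s (c * t)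

theorem Sc.mul {g g' : GL chevD4.Idx K} {s : ℕ} {c c' : K} (h : Sc g s c) (h' : Sc g' s c') :
    Sc (g * g') s (c * c') := by
  intro t
  have e : g * g' * Elts.xG Nodes.RGDTwD4.hp.inList s t * (g * g')⁻¹ =
      g * (g' * Elts.xG Nodes.RGDTwD4.hp.inList s t * g'⁻¹) * g⁻¹ := by group
  rw [e, h' t, h, mul_assoc]

theorem Sc.one (s : ℕ) : Sc (1 : GL chevD4.Idx K) s 1 := by
  intro t
  rw [one_mul, inv_one, mul_one, one_mul]

theorem sc_hG {j s : ℕ} (hj : j < chevD4.rank) (hs : s < chevD4.nroots) {c : K} (hc : c ≠ 0) :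
    Sc (Elts.hG Nodes.RGDTwD4.hp.inList (chevD4.simple j) c) s (c ^ chevD4.cartan j s) := by
  intro t
  rw [mul_inv_eq_iff_eq_mul]
  apply Units.ext
  have h1 := Cfsg.Agent.S1032.result chevD4 Nodes.RGDTwD4.hp.inList j s hj hs c hc t
  simpa only [Units.val_mul, Elts.coe_hG, Elts.coe_xG] using h1

theorem rank4 : chevD4.rank = 4 := by decide +kernel

theorem nroots24 : chevD4.nroots = 24 := by decide +kernel

theorem simples : chevD4.simple 0 = 18 ∧ chevD4.simple 1 = 14 ∧ chevD4.simple 2 = 13 ∧ chevD4.simple 3 = 12 := by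
  decide +kernel

theorem carts :
    (chevD4.cartan 0 18 = 2 ∧ chevD4.cartan 1 18 = -1 ∧ chevD4.cartan 2 18 = 0 ∧ chevD4.cartan 3 18 = 0) ∧
    (chevD4.cartan 0 14 = -1 ∧ chevD4.cartan 1 14 = 2 ∧ chevD4.cartan 2 14 = -1 ∧ chevD4.cartan 3 14 = -1) ∧
    (chevD4.cartan 0 13 = 0 ∧ chevD4.cartan 1 13 = -1 ∧ chevD4.cartan 2 13 = 2 ∧ chevD4.cartan 3 13 = 0) ∧
    (chevD4.cartan 0 12 = 0 ∧ chevD4.cartan 1 12 = -1 ∧ chevD4.cartan 2 12 = 0 ∧ chevD4.cartan 3 12 = 2) := by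
  decide +kernel

/-- the long coroot -/
theorem sc14 {d : K} (hd : d ≠ 0) : Sc (Elts.hG Nodes.RGDTwD4.hp.inList 14 d) 14 (d * d) ∧
    ∀ s ∈ [18, 13, 12], Sc (Elts.hG Nodes.RGDTwD4.hp.inList 14 d) s d⁻¹ := by
  have h1 : ∀ s < 24, Sc (Elts.hG Nodes.RGDTwD4.hp.inList 14 d) s (d ^ chevD4.cartan 1 s) := by
    intro s hs
    have := sc_hG (K := K) (j := 1) (s := s) (by rw [rank4]; norm_num) (by rw [nroots24]; exact hs) hd
    rwa [simples.2.1] at this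
  refine ⟨?_, ?_⟩
  · have := h1 14 (by norm_num)
    rwa [carts.2.1.2.1, zpow_two] at this
  · intro s hs
    simp only [List.mem_cons, List.not_mem_nil, or_false] at hs
    rcases hs with rfl | rfl | rfl
    · have := h1 18 (by norm_num)
      rwa [carts.1.2.1, zpow_neg_one] at this
    · have := h1 13 (by norm_num)
      rwa [carts.2.2.1.2.1, zpow_neg_one] at this
    · have := h1 12 (by norm_num)
      rwa [carts.2.2.2.2.1, zpow_neg_one] at this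

/-- the short coroot, at an element of the small field -/
theorem sc18 {d : K} (hd : d ≠ 0) :
    Sc (Elts.hG Nodes.RGDTwD4.hp.inList 18 d * (Elts.hG Nodes.RGDTwD4.hp.inList 13 d *
      (Elts.hG Nodes.RGDTwD4.hp.inList 12 d * 1))) 14 (d⁻¹ * (d⁻¹ * (d⁻¹ * 1))) ∧
    ∀ s ∈ [18, 13, 12], Sc (Elts.hG Nodes.RGDTwD4.hp.inList 18 d * (Elts.hG Nodes.RGDTwD4.hp.inList 13 d *
      (Elts.hG Nodes.RGDTwD4.hp.inList 12 d * 1))) s (d * d) := by
  have h0 : ∀ s < 24, Sc (Elts.hG Nodes.RGDTwD4.hp.inList 18 d) s (d ^ chevD4.cartan 0 s) := by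
    intro s hs
    have := sc_hG (K := K) (j := 0) (s := s) (by rw [rank4]; norm_num) (by rw [nroots24]; exact hs) hd
    rwa [simples.1] at this
  have h2 : ∀ s < 24, Sc (Elts.hG Nodes.RGDTwD4.hp.inList 13 d) s (d ^ chevD4.cartan 2 s) := by
    intro s hs
    have := sc_hG (K := K) (j := 2) (s := s) (by rw [rank4]; norm_num) (by rw [nroots24]; exact hs) hd
    rwa [simples.2.2.1] at this
  have h3 : ∀ s < 24, Sc (Elts.hG Nodes.RGDTwD4.hp.inList 12 d) s (d ^ chevD4.cartan 3 s) := by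
    intro s hs
    have := sc_hG (K := K) (j := 3) (s := s) (by rw [rank4]; norm_num) (by rw [nroots24]; exact hs) hd
    rwa [simples.2.2.2] at this
  refine ⟨?_, ?_⟩
  · have := (h0 14 (by norm_num)).mul ((h2 14 (by norm_num)).mul ((h3 14 (by norm_num)).mul (Sc.one 14)))
    rwa [carts.2.1.1, carts.2.1.2.2.1, carts.2.1.2.2.2, zpow_neg_one] at this
  · intro s hs
    simp only [List.mem_cons, List.not_mem_nil, or_false] at hs
    rcases hs with rfl | rfl | rfl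
    · have := (h0 18 (by norm_num)).mul ((h2 18 (by norm_num)).mul ((h3 18 (by norm_num)).mul (Sc.one 18)))
      have e : d ^ chevD4.cartan 0 18 * (d ^ chevD4.cartan 2 18 * (d ^ chevD4.cartan 3 18 * 1)) = d * d := by
        rw [carts.1.1, carts.1.2.2.1, carts.1.2.2.2, zpow_zero, one_mul, one_mul, mul_one, zpow_two]
      rwa [e] at this
    · have := (h0 13 (by norm_num)).mul ((h2 13 (by norm_num)).mul ((h3 13 (by norm_num)).mul (Sc.one 13)))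
      have e : d ^ chevD4.cartan 0 13 * (d ^ chevD4.cartan 2 13 * (d ^ chevD4.cartan 3 13 * 1)) = d * d := by
        rw [carts.2.2.1.1, carts.2.2.1.2.2.1, carts.2.2.1.2.2.2, zpow_zero, one_mul, one_mul, mul_one, zpow_two]
      rwa [e] at this
    · have := (h0 12 (by norm_num)).mul ((h2 12 (by norm_num)).mul ((h3 12 (by norm_num)).mul (Sc.one 12)))
      have e : d ^ chevD4.cartan 0 12 * (d ^ chevD4.cartan 2 12 * (d ^ chevD4.cartan 3 12 * 1)) = d * d := by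
        rw [carts.2.2.2.1, carts.2.2.2.2.2.1, carts.2.2.2.2.2.2, zpow_zero, one_mul, one_mul, mul_one, zpow_two]
      rwa [e] at this

/-- the action on twisted products -/
theorem conj_yv {Γ : Type*} [Group Γ] {x : ℕ → K → Γ} (φ : K →+* K) {c : K} (hc : φ c = c) {g : Γ} {o : List ℕ}
    (h : ∀ s ∈ o, ∀ t, g * x s t * g⁻¹ = x s (c * t)) (a : K) :
    g * Nodes.RGDFoldSL.yv x φ o a * g⁻¹ = Nodes.RGDFoldSL.yv x φ o (c * a) := by
  induction o generalizing a with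
  | nil =>
    show g * 1 * g⁻¹ = 1
    rw [mul_one, mul_inv_cancel]
  | cons s o ih =>
    show g * (x s a * Nodes.RGDFoldSL.yv x φ o (φ a)) * g⁻¹ = x s (c * a) * Nodes.RGDFoldSL.yv x φ o (φ (c * a))
    rw [map_mul, hc, ← ih (fun s' hs' => h s' (List.mem_cons_of_mem _ hs')), ← h s List.mem_cons_self]
    group

/-! ### The nodes -/

open Cfsg.Agent.Nodes.RGDFoldSL Cfsg.Agent.Nodes.RGDTwNode.D4
open Cfsg.Agent.ChevalleyStructure.SL2Hom (up lo)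

section Nodes

variable (hφ : ∀ x, φ x = x ^ q) (hle : twistedD4 K q ≤ D4Fixed.fix φ)

theorem hf (φ : K →+* K) (i : Fin 2) : ∀ s ∈ rep i :: rest i, ∀ t, ((Nodes.RGDTwD4.eps s : ℤ) : K) * φ t = φ t :=
  fun s hs t => by rw [eps_one i s hs, Int.cast_one, one_mul]

/-- the homomorphism of the node `i` -/
noncomputable def Ph (i : Fin 2) : Matrix.SpecialLinearGroup (Fin 2) (Fx φ ((rest i).length + 1)) →* ↥(twistedD4 K q) :=
  Phi (Nodes.RGDTwD4.foldGrp hφ hle) (nodeOK i) (hf φ i)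

theorem mem_X (i : Fin 2) (g : ↥(twistedD4 K q)) : g ∈ Nodes.RGDTwD4.X φ q (sr i) ↔ ∃ a, g = Ph hφ hle i (up a) :=
  mem_X_iff (Nodes.RGDTwD4.foldGrp hφ hle) (nodeOK i) (hf φ i) g

theorem Ph_inj (i : Fin 2) {a b : Fx φ ((rest i).length + 1)} (h : Ph hφ hle i (up a) = Ph hφ hle i (up b)) : a = b :=
  Phi_up_injective (Nodes.RGDTwD4.foldGrp hφ hle) (nodeOK i) (hf φ i) h

theorem Ph_wS (i : Fin 2) : Ph hφ hle i (wS 1) = Nodes.RGDTwD4.n hφ i :=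
  Phi_wS (Nodes.RGDTwD4.foldGrp hφ hle) (nodeOK i) (hf φ i)

theorem Ph_hS (i : Fin 2) {d : Fx φ ((rest i).length + 1)} (hd : d ≠ 0) : Ph hφ hle i (hS d) ∈ Nodes.RGDTwD4.T K q :=
  Phi_hS (Nodes.RGDTwD4.foldGrp hφ hle) (nodeOK i) (hf φ i) hd

theorem coe_up (i : Fin 2) (a : Fx φ ((rest i).length + 1)) : ((Ph hφ hle i (up a) : ↥(twistedD4 K q)) : GL chevD4.Idx K) =
    yv (Elts.xG Nodes.RGDTwD4.hp.inList) φ (rep i :: rest i) (a : K) :=
  coe_Phi_up (Nodes.RGDTwD4.foldGrp hφ hle) (nodeOK i) (hf φ i) a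

theorem coe_hS0 (d : Fx φ ((rest 0).length + 1)) : ((Ph hφ hle 0 (hS d) : ↥(twistedD4 K q)) : GL chevD4.Idx K) =
    Elts.hG Nodes.RGDTwD4.hp.inList 14 (d : K) := by
  show hv (psi Nodes.RGDTwD4.hp.inList K) φ [14] (Matrix.SpecialLinearGroup.map (Fx φ _).subtype (hS d)) = _
  rw [map_hS]
  show psi Nodes.RGDTwD4.hp.inList K 14 (hS (d : K)) * 1 = _
  rw [mul_one, psi_hS _ (by rw [nroots24]; norm_num)]

theorem coe_hS1 (d : Fx φ ((rest 1).length + 1)) (hd : φ (d : K) = (d : K)) :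
    ((Ph hφ hle 1 (hS d) : ↥(twistedD4 K q)) : GL chevD4.Idx K) =
    Elts.hG Nodes.RGDTwD4.hp.inList 18 (d : K) * (Elts.hG Nodes.RGDTwD4.hp.inList 13 (d : K) *
      (Elts.hG Nodes.RGDTwD4.hp.inList 12 (d : K) * 1)) := by
  show hv (psi Nodes.RGDTwD4.hp.inList K) φ [18, 13, 12] (Matrix.SpecialLinearGroup.map (Fx φ _).subtype (hS d)) = _
  rw [map_hS]
  show psi Nodes.RGDTwD4.hp.inList K 18 (hS (d : K)) * (psi Nodes.RGDTwD4.hp.inList K 13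
    (Matrix.SpecialLinearGroup.map φ (hS (d : K))) * (psi Nodes.RGDTwD4.hp.inList K 12
      (Matrix.SpecialLinearGroup.map φ (Matrix.SpecialLinearGroup.map φ (hS (d : K)))) * 1)) = _
  rw [map_hS, map_hS, hd, hd, psi_hS _ (by rw [nroots24]; norm_num), psi_hS _ (by rw [nroots24]; norm_num),
    psi_hS _ (by rw [nroots24]; norm_num)]

theorem T_comm (x : ↥(twistedD4 K q)) (hx : x ∈ Nodes.RGDTwD4.T K q) (y : ↥(twistedD4 K q))
    (hy : y ∈ Nodes.RGDTwD4.T K q) : x * y = y * x := by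
  have hx' : (x : GL chevD4.Idx K) ∈ chevD4.diagonalSubgroup K := (Subgroup.mem_inf.1 (Subgroup.mem_subgroupOf.1 hx)).1
  have hy' : (y : GL chevD4.Idx K) ∈ chevD4.diagonalSubgroup K := (Subgroup.mem_inf.1 (Subgroup.mem_subgroupOf.1 hy)).1
  obtain ⟨χ, hχ⟩ := HMatDiagAll.mem_torus.1 (HMatDiagAll.diagonalSubgroup_le_torus Nodes.RGDTwD4.hp.inList hx')
  obtain ⟨ψ, hψ⟩ := HMatDiagAll.mem_torus.1 (HMatDiagAll.diagonalSubgroup_le_torus Nodes.RGDTwD4.hp.inList hy')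
  apply Subtype.ext
  apply Units.ext
  rw [Subgroup.coe_mul, Subgroup.coe_mul, Units.val_mul, Units.val_mul, hχ, hψ, Matrix.diagonal_mul_diagonal,
    Matrix.diagonal_mul_diagonal]
  congr 1
  funext i
  exact mul_comm _ _

theorem mem_Fx' {d : K} (hd : φ d = d) (k : ℕ) : d ∈ Fx φ k := mem_Fx.2 (Function.iterate_fixed hd k)

include hφ hle in
/-- a torus element which is fixed-point-free on the short simple root group -/
theorem tor1 {d : K} (hd : φ d = d) (h0 : d ≠ 0) (h1 : d ≠ 1) :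
    ∃ a ∈ Nodes.RGDTwD4.T K q, ∀ x ∈ Nodes.RGDTwD4.X φ q (sr 1), a * x * a⁻¹ = x → x = 1 := by
  have h0' : (⟨d, mem_Fx' hd _⟩ : Fx φ ((rest 0).length + 1)) ≠ 0 := fun h => h0 (congrArg Subtype.val h)
  refine ⟨Ph hφ hle 0 (hS ⟨d, mem_Fx' hd _⟩), Ph_hS hφ hle 0 h0', ?_⟩
  intro x hx e
  obtain ⟨a, rfl⟩ := (mem_X hφ hle 1 x).1 hx
  have hdi : φ d⁻¹ = d⁻¹ := by rw [map_inv₀, hd]
  have e1 : ((Ph hφ hle 0 (hS ⟨d, mem_Fx' hd _⟩) * Ph hφ hle 1 (up a) * (Ph hφ hle 0 (hS ⟨d, mem_Fx' hd _⟩))⁻¹ :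
      ↥(twistedD4 K q)) : GL chevD4.Idx K) = ((Ph hφ hle 1 (up (⟨d⁻¹, mem_Fx' hdi _⟩ * a)) : ↥(twistedD4 K q)) :
        GL chevD4.Idx K) := by
    rw [Subgroup.coe_mul, Subgroup.coe_mul, Subgroup.coe_inv, coe_hS0, coe_up, coe_up]
    exact conj_yv φ hdi (fun s hs => (sc14 h0).2 s hs) _
  rw [e] at e1
  have e2 := Ph_inj hφ hle 1 (Subtype.ext e1)
  have e3 : a = 0 := by
    by_contra ha
    have h4 : (1 : Fx φ ((rest 1).length + 1)) = ⟨d⁻¹, mem_Fx' hdi _⟩ := mul_right_cancel₀ ha (by rw [one_mul]; exact e2)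
    have h5 : (1 : K) = d⁻¹ := congrArg Subtype.val h4
    exact h1 (inv_eq_one.1 h5.symm)
  rw [e3, SLNode.up_zero, map_one]

include hφ hle in
/-- a torus element which centralises the short simple root group and is fixed-point-free on the long one -/
theorem tor10 {d : K} (hd : φ d = d) (h0 : d ≠ 0) (h1 : d ≠ 1) :
    ∃ a ∈ Nodes.RGDTwD4.T K q, (∀ x ∈ Nodes.RGDTwD4.X φ q (sr 1), a * x * a⁻¹ = x) ∧
      ∀ x ∈ Nodes.RGDTwD4.X φ q (sr 0), a * x * a⁻¹ = x → x = 1 := by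
  have hdd : φ (d * d) = d * d := by rw [map_mul, hd]
  have h0' : (⟨d * d, mem_Fx' hdd _⟩ : Fx φ ((rest 0).length + 1)) ≠ 0 :=
    fun h => mul_ne_zero h0 h0 (congrArg Subtype.val h)
  have h0'' : (⟨d, mem_Fx' hd _⟩ : Fx φ ((rest 1).length + 1)) ≠ 0 := fun h => h0 (congrArg Subtype.val h)
  refine ⟨Ph hφ hle 0 (hS ⟨d * d, mem_Fx' hdd _⟩) * Ph hφ hle 1 (hS ⟨d, mem_Fx' hd _⟩),
    mul_mem (Ph_hS hφ hle 0 h0') (Ph_hS hφ hle 1 h0''), ?_, ?_⟩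
  · intro x hx
    obtain ⟨a, rfl⟩ := (mem_X hφ hle 1 x).1 hx
    apply Subtype.ext
    rw [Subgroup.coe_mul, Subgroup.coe_mul, Subgroup.coe_inv, Subgroup.coe_mul, coe_hS0, coe_hS1 hφ hle _ hd, coe_up]
    have h3 : ∀ s ∈ [18, 13, 12], Sc (Elts.hG Nodes.RGDTwD4.hp.inList 14 (d * d) *
        (Elts.hG Nodes.RGDTwD4.hp.inList 18 d * (Elts.hG Nodes.RGDTwD4.hp.inList 13 d *
          (Elts.hG Nodes.RGDTwD4.hp.inList 12 d * 1)))) s 1 := by
      intro s hs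
      have := ((sc14 (mul_ne_zero h0 h0)).2 s hs).mul ((sc18 h0).2 s hs)
      rwa [inv_mul_cancel₀ (mul_ne_zero h0 h0)] at this
    have h4 := conj_yv φ (map_one φ) h3 (a : K)
    rw [one_mul] at h4
    exact h4
  · intro x hx e
    obtain ⟨a, rfl⟩ := (mem_X hφ hle 0 x).1 hx
    have h3 : ∀ s ∈ [14], Sc (Elts.hG Nodes.RGDTwD4.hp.inList 14 (d * d) *
        (Elts.hG Nodes.RGDTwD4.hp.inList 18 d * (Elts.hG Nodes.RGDTwD4.hp.inList 13 d *
          (Elts.hG Nodes.RGDTwD4.hp.inList 12 d * 1)))) s d := by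
      intro s hs
      rw [List.mem_singleton] at hs
      subst hs
      have := (sc14 (mul_ne_zero h0 h0)).1.mul (sc18 h0).1
      have e5 : d * d * (d * d) * (d⁻¹ * (d⁻¹ * (d⁻¹ * 1))) = d := by field_simp
      rwa [e5] at this
    have e1 : ((Ph hφ hle 0 (hS ⟨d * d, mem_Fx' hdd _⟩) * Ph hφ hle 1 (hS ⟨d, mem_Fx' hd _⟩) * Ph hφ hle 0 (up a) *
        (Ph hφ hle 0 (hS ⟨d * d, mem_Fx' hdd _⟩) * Ph hφ hle 1 (hS ⟨d, mem_Fx' hd _⟩))⁻¹ :
        ↥(twistedD4 K q)) : GL chevD4.Idx K) = ((Ph hφ hle 0 (up (⟨d, mem_Fx' hd _⟩ * a)) : ↥(twistedD4 K q)) :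
          GL chevD4.Idx K) := by
      rw [Subgroup.coe_mul, Subgroup.coe_mul, Subgroup.coe_inv, Subgroup.coe_mul, coe_hS0, coe_hS1 hφ hle _ hd, coe_up,
        coe_up]
      exact conj_yv φ hd h3 _
    rw [e] at e1
    have e2 := Ph_inj hφ hle 0 (Subtype.ext e1)
    have e3 : a = 0 := by
      by_contra ha
      have h4 : (1 : Fx φ ((rest 0).length + 1)) = ⟨d, mem_Fx' hd _⟩ := mul_right_cancel₀ ha (by rw [one_mul]; exact e2)
      exact h1 (congrArg Subtype.val h4).symm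
    rw [e3, SLNode.up_zero, map_one]

end Nodes

end Cfsg.Agent.ParSys.Fam.D4

namespace Cfsg.Agent.ParSys.Fam

open Cfsg.Lie Cfsg.Agent.Nodes.RGDChev Cfsg.Agent.Nodes.FreeTorus Cfsg.Agent.KFacts.RgdChevCoord
open Cfsg.Agent.Tits.Roots Cfsg.Agent.Tits.Core Cfsg.Agent.Tits.RootComb
open Cfsg.Agent.ChevalleyStructure
open Cfsg.Agent.Nodes.RGDFoldSL Cfsg.Agent.Nodes.RGDTwNode.D4

/-- **`³D₄(q)`, `q ≥ 4` even.** -/
theorem hasKPairSep_D4 {K : Type*} [Field K] [Fintype K] [CharP K 2] {q : ℕ} (hq : IsPrimePow q)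
    (hK : Fintype.card K = q ^ 3) (h4 : 4 ≤ q) : HasKPairSep 2 ↥(twistedD4 K q) := by
  have : Fact (Nat.Prime 2) := ⟨Nat.prime_two⟩
  have : IsSimpleGroup ↥(twistedD4 K q) := (Cfsg.Agent.S1071.result hq hK).1
  obtain ⟨φ, hφ⟩ := D4Fixed.exists_frob hq hK
  have hle := D4Fixed.twisted_le_fix hK hφ
  have hcard := D4H1.card_fixed (by omega : 1 < q) hK hφ
  -- the automorphism
  have hbij : Function.Bijective φ := Finite.injective_iff_bijective.1 φ.injective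
  have h3 : ∀ a, φ (φ (φ a)) = a := by
    intro t
    rw [hφ, hφ, hφ, ← pow_mul, ← pow_mul]
    have : q * (q * q) = q ^ 3 := by ring
    rw [this, ← hK]
    exact FiniteField.pow_card t
  have hne : ∃ d, φ d ≠ d := by
    by_contra hcon
    push Not at hcon
    have h5 : Nat.card {b : Kˣ // φ b = b} = Nat.card Kˣ :=
      Nat.card_congr (Equiv.subtypeUnivEquiv fun b : Kˣ => hcon b)
    rw [hcard, Nat.card_units, Nat.card_eq_fintype_card, hK] at h5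
    have h6 : q < q ^ 3 := by nlinarith [Nat.pow_le_pow_left h4 2, h4]
    omega
  obtain ⟨d, hd, hd0, hd1⟩ : ∃ d : K, φ d = d ∧ d ≠ 0 ∧ d ≠ 1 := by
    by_contra hcon
    push Not at hcon
    have h5 : Nat.card {b : Kˣ // φ b = b} ≤ 1 := by
      rw [Finite.card_le_one_iff_subsingleton]
      refine ⟨fun a b => Subtype.ext (Units.ext ?_)⟩
      rw [hcon _ a.2 (Units.ne_zero _), hcon _ b.2 (Units.ne_zero _)]
    omega
  have hfin := Nodes.RGDChev.finite_W G2.hp D4.cs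
  have R := Nodes.RGDTwD4.rgd (K := K) D4.cs hK hφ 2
  refine hasKPairSep_of_rgd R (Nodes.RGDTwD4.G1_eq_top D4.cs hK hφ) (i := 1) (j := 0) (by decide)
    (fun k => ?_) ?_
    (fun z hz h0 hz1 hz0 => D4.hX hle (σ := RingEquiv.ofBijective φ hbij) hφ (fun _ => rfl) h3 hne z hz h0 hz1 hz0)
    D4.T_comm
    (SLNode.isCyclic R 1 (D4.Ph hφ hle 1) (D4.mem_X hφ hle 1) (D4.Ph_wS hφ hle 1) fun _ hd => D4.Ph_hS hφ hle 1 hd)
    (SLNode.isCyclic R 0 (D4.Ph hφ hle 0) (D4.mem_X hφ hle 0) (D4.Ph_wS hφ hle 0) fun _ hd => D4.Ph_hS hφ hle 0 hd)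
    (Or.inl (SLNode.inverted R 1 (D4.Ph hφ hle 1) (D4.mem_X hφ hle 1) (D4.Ph_wS hφ hle 1)
      fun _ hd => D4.Ph_hS hφ hle 1 hd))
    (D4.tor1 hφ hle hd hd0 hd1) (D4.tor10 hφ hle hd hd0 hd1)
  · fin_cases k
    · exact Or.inr rfl
    · exact Or.inl rfl
  · decide

end Cfsg.Agent.ParSys.Fam
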