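import Cfsg.Agent.Octagon.Pkg
import Cfsg.Agent.Lib.FrattiniPGroup

/-!
# The relations of the Moufang octagon: the middle root groups lie in `U'`
-/

set_option autoImplicit false

namespace Cfsg.Agent.ParSys.Fam.OctPerf

open Cfsg.Agent.Octagon.Pkg

/-- the Frattini argument -/
theorem le_of_sup {Y : Type*} [Group Y] [Finite Y] {p : ℕ} [Fact p.Prime] {U T : Subgroup Y}
    (hU : IsPGroup p U) (hT : T ≤ U) (h : U ≤ T ⊔ ⁅U, U⁆) : U ≤ T := by
  have h1 : T.subgroupOf U ⊔ frattini U = ⊤ := by
    rw [eq_top_iff]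
    have h2 : T.subgroupOf U ⊔ commutator U = ⊤ := by
      apply Subgroup.map_injective U.subtype_injective
      rw [Subgroup.map_sup, Subgroup.map_subtype_commutator, Subgroup.subgroupOf_map_subtype,
        ← MonoidHom.range_eq_map, Subgroup.range_subtype, inf_eq_left.2 hT]
      exact le_antisymm (sup_le hT (Subgroup.commutator_le_self U)) h
    rw [← h2]
    exact sup_le_sup_left (Lib.FrattiniPGroup.commutator_le_frattini hU) _
  have h2 := frattini_nongenerating h1
  rwa [Subgroup.subgroupOf_eq_top] at h2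

variable {F : Type*} [Field F] {σ : F →+* F} {H : Type*} [Group H] {x1 x3 x5 x7 : F → H} {x2 x4 x6 x8 : F → F → H}
  {A : Type*} [CommGroup A]

theorem cancel1 {a b c : A} (h : a * b = b * a * c) : c = 1 := by
  rw [mul_comm a b] at h
  exact (mul_eq_left.1 h.symm)

theorem ab_all (R : OctRel σ x1 x3 x5 x7 x2 x4 x6 x8) (hσ : Function.Surjective σ) {c : F} (hc0 : c ≠ 0)
    (hc1 : c ≠ 1) (π : H →* A) :
    (∀ p u, π (x2 p u) = 1) ∧ (∀ t, π (x3 t) = 1) ∧ (∀ p u, π (x4 p u) = 1) ∧ (∀ t, π (x5 t) = 1) ∧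
      (∀ p u, π (x6 p u) = 1) ∧ (∀ t, π (x7 t) = 1) := by
  have h3 : ∀ t, π (x3 t) = 1 := fun t => by
    have h := congrArg π (R.r24 t 0 1 0)
    simp only [map_mul, mul_one] at h
    exact cancel1 h
  have h5 : ∀ t, π (x5 t) = 1 := fun t => by
    have h := congrArg π (R.r46 t 0 1 0)
    simp only [map_mul, mul_one] at h
    exact cancel1 h
  have h7 : ∀ t, π (x7 t) = 1 := fun t => by
    have h := congrArg π (R.r68 t 0 1 0)
    simp only [map_mul, mul_one] at h
    exact cancel1 h
  have h20 : ∀ t, π (x2 0 t) = 1 := fun t => by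
    have h := congrArg π (R.r14 t 1 0)
    simp only [map_mul, mul_one] at h
    exact cancel1 h
  have h40 : ∀ t, π (x4 0 t) = 1 := fun t => by
    have h := congrArg π (R.r25 t 0 1)
    simp only [map_mul, mul_one] at h
    exact cancel1 h
  have h60 : ∀ t, π (x6 0 t) = 1 := fun t => by
    have h := congrArg π (R.r47 t 0 1)
    simp only [map_mul, mul_one] at h
    exact cancel1 h
  have s2 : ∀ p u, π (x2 p u) = π (x2 p 0) := fun p u => by
    have h := congrArg π (R.m2 p 0 0 u)
    simp only [map_mul, map_zero, mul_zero, add_zero, zero_add, h20, mul_one] at h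
    exact h.symm
  have s4 : ∀ p u, π (x4 p u) = π (x4 p 0) := fun p u => by
    have h := congrArg π (R.m4 p 0 0 u)
    simp only [map_mul, map_zero, mul_zero, add_zero, zero_add, h40, mul_one] at h
    exact h.symm
  have s6 : ∀ p u, π (x6 p u) = π (x6 p 0) := fun p u => by
    have h := congrArg π (R.m6 p 0 0 u)
    simp only [map_mul, map_zero, mul_zero, add_zero, zero_add, h60, mul_one] at h
    exact h.symm
  have a4 : ∀ p q, π (x4 (p + q) 0) = π (x4 p 0) * π (x4 q 0) := fun p q => by
    have h := congrArg π (R.m4 p 0 q 0)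
    rw [map_mul, s4 (p + q) (0 + 0 + p * σ q)] at h
    exact h.symm
  have key : ∀ t q v, π (x2 (t * q) 0) * π (x4 (σ t * q * σ q + σ t * v) 0) * π (x6 (t * v) 0) = 1 := by
    intro t q v
    have h := congrArg π (R.r18 t q v)
    simp only [map_mul, h3, h5, h7, mul_one] at h
    rw [s2, s4, s6] at h
    have h' := cancel1 (c := π (x2 (t * q) 0) * π (x4 (σ t * q * σ q + σ t * v) 0) * π (x6 (t * v) 0)) (by
      rw [h]
      simp only [mul_assoc])
    exact h'
  have k1 : ∀ t q, π (x2 (t * q) 0) * π (x4 (σ t * q * σ q) 0) = 1 := fun t q => by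
    have h := key t q 0
    simp only [mul_zero, add_zero, h60, mul_one] at h
    exact h
  have k2 : ∀ t v, π (x4 (σ t * v) 0) * π (x6 (t * v) 0) = 1 := fun t v => by
    have h := key t 0 v
    simp only [mul_zero, zero_mul, zero_add, h20, one_mul] at h
    exact h
  have b4 : ∀ s q : F, q ≠ 0 → π (x2 s 0) * π (x4 (σ s * q) 0) = 1 := fun s q hq => by
    have h := k1 (s / q) q
    have e1 : s / q * q = s := div_mul_cancel₀ s hq
    have e2 : σ (s / q) * q * σ q = σ s * q := by
      have hσq : σ q ≠ 0 := (map_ne_zero σ).2 hq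
      rw [map_div₀]
      field_simp
    rwa [e1, e2] at h
  have h4 : ∀ z, π (x4 z 0) = 1 := fun z => by
    have hc : 1 - c ≠ 0 := sub_ne_zero.2 hc1.symm
    obtain ⟨s, hs⟩ := hσ (z / (1 - c))
    have e1 := b4 s 1 one_ne_zero
    have e2 := b4 s c hc0
    have e3 : π (x4 (σ s * 1) 0) = π (x4 (σ s * c) 0) := mul_left_cancel (e1.trans e2.symm)
    have e4 := a4 z (σ s * c)
    have e5 : z + σ s * c = σ s * 1 := by
      rw [hs]
      field_simp
      ring
    rw [e5, e3] at e4
    exact mul_eq_right.1 e4.symm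
  refine ⟨fun p u => ?_, h3, fun p u => ?_, h5, fun p u => ?_, h7⟩
  · rw [s2]
    have h := b4 p 1 one_ne_zero
    rwa [h4, mul_one] at h
  · rw [s4, h4]
  · rw [s6]
    have h := k2 1 p
    rw [h4, one_mul, one_mul] at h
    exact h

end Cfsg.Agent.ParSys.Fam.OctPerf
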