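import Cfsg.Agent.ParSys.KFact
import Cfsg.Agent.FixBN.Transport

/-!
# Transport of `HasKPair`, `HasKPairSep` along isomorphisms
-/

set_option autoImplicit false

namespace Cfsg.Agent.ParSys.Fam

open Cfsg.Agent.FixBN.Transport Subgroup

variable {F L : Type*} [Group F] [Group L] (e : F ≃* L) {p : ℕ} {Q : Cfsg.BNPair F} {UE : Subgroup F} {s t : F}

theorem mem_mapB {x : F} : e x ∈ (mapBN e Q).B ↔ x ∈ Q.B := by
  show e x ∈ Q.B.map e.toMonoidHom ↔ _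
  rw [Subgroup.mem_map_equiv, e.symm_apply_apply]

theorem mem_mapN {x : F} : e x ∈ (mapBN e Q).N ↔ x ∈ Q.N := by
  show e x ∈ Q.N.map e.toMonoidHom ↔ _
  rw [Subgroup.mem_map_equiv, e.symm_apply_apply]

theorem mem_mapU {x : F} : e x ∈ UE.map e.toMonoidHom ↔ x ∈ UE := by
  rw [Subgroup.mem_map_equiv, e.symm_apply_apply]

theorem fpfE_map (h : FpfE Q UE s) : FpfE (mapBN e Q) (UE.map e.toMonoidHom) (e s) := by
  obtain ⟨b, hb, h1⟩ := h
  rw [mem_inf] at hb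
  refine ⟨e b, mem_inf.2 ⟨(mem_mapB e).2 hb.1, (mem_mapN e).2 hb.2⟩, ?_⟩
  rintro _ ⟨u, hu, rfl⟩ h2
  have e1 : (e s)⁻¹ * (e b * e u * (e b)⁻¹ * (e u)⁻¹) * e s = e (s⁻¹ * (b * u * b⁻¹ * u⁻¹) * s) := by
    simp only [map_mul, map_inv]
  have e2 : (e s)⁻¹ * e u * e s = e (s⁻¹ * u * s) := by simp only [map_mul, map_inv]
  have h2' : (e s)⁻¹ * (e b * e u * (e b)⁻¹ * (e u)⁻¹) * e s ∈ (mapBN e Q).B := h2
  show (e s)⁻¹ * e u * e s ∈ (mapBN e Q).B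
  rw [e1, mem_mapB] at h2'
  rw [e2, mem_mapB]
  exact h1 u hu h2'

theorem sepE_map (h : SepE Q UE s t) : SepE (mapBN e Q) (UE.map e.toMonoidHom) (e s) (e t) := by
  obtain ⟨b, hb, h1, h2⟩ := h
  rw [mem_inf] at hb
  refine ⟨e b, mem_inf.2 ⟨(mem_mapB e).2 hb.1, (mem_mapN e).2 hb.2⟩, ?_, ?_⟩
  · rintro _ ⟨u, hu, rfl⟩
    have e1 : (e s)⁻¹ * (e b * e u * (e b)⁻¹ * (e u)⁻¹) * e s = e (s⁻¹ * (b * u * b⁻¹ * u⁻¹) * s) := by
      simp only [map_mul, map_inv]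
    show (e s)⁻¹ * (e b * e u * (e b)⁻¹ * (e u)⁻¹) * e s ∈ (mapBN e Q).B
    rw [e1, mem_mapB]
    exact h1 u hu
  · rintro _ ⟨u, hu, rfl⟩ h3
    have e1 : (e t)⁻¹ * (e b * e u * (e b)⁻¹ * (e u)⁻¹) * e t = e (t⁻¹ * (b * u * b⁻¹ * u⁻¹) * t) := by
      simp only [map_mul, map_inv]
    have e2 : (e t)⁻¹ * e u * e t = e (t⁻¹ * u * t) := by simp only [map_mul, map_inv]
    have h3' : (e t)⁻¹ * (e b * e u * (e b)⁻¹ * (e u)⁻¹) * e t ∈ (mapBN e Q).B := h3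
    show (e t)⁻¹ * e u * e t ∈ (mapBN e Q).B
    rw [e1, mem_mapB] at h3'
    rw [e2, mem_mapB]
    exact h2 u hu h3'

theorem fOne_map (h : FOne Q UE s t) : FOne (mapBN e Q) (UE.map e.toMonoidHom) (e s) (e t) := by
  intro T hT hcov
  rw [Subgroup.map_le_iff_le_comap]
  refine h (T.comap e.toMonoidHom) ?_ ?_
  · intro x hx
    have h1 : e x ∈ T := hx
    exact (mem_mapU e).1 (hT h1)
  · intro u hu
    obtain ⟨x, hx, h1, h2⟩ := hcov (e u) ⟨u, hu, rfl⟩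
    obtain ⟨x, rfl⟩ := e.surjective x
    refine ⟨x, hx, ?_, ?_⟩
    · rw [← mem_mapB e (Q := Q)]
      simpa only [map_mul, map_inv] using h1
    · rw [← mem_mapB e (Q := Q)]
      simpa only [map_mul, map_inv] using h2

theorem map_Rone (s : F) : Rone (UE.map e.toMonoidHom) (e s) = (Rone UE s).map e.toMonoidHom := by
  unfold Rone
  rw [Subgroup.map_sup, Subgroup.map_map, Subgroup.map_map]
  congr 2
  ext x
  show e s * e x * (e s)⁻¹ = e (s * x * s⁻¹)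
  simp only [map_mul, map_inv]

theorem mem_map_Rone {s x : F} : e x ∈ Rone (UE.map e.toMonoidHom) (e s) ↔ x ∈ Rone UE s := by
  rw [map_Rone, Subgroup.mem_map_equiv, e.symm_apply_apply]

theorem kPair_map (h : KPair p Q UE s t) : KPair p (mapBN e Q) (UE.map e.toMonoidHom) (e s) (e t) where
  split := split e Q h.split
  S := by
    show e '' Q.S = _
    rw [h.S, Set.image_pair]
  ne := fun h1 => h.ne (e.injective h1)
  irr := by
    intro h1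
    apply h.irr
    rw [← mem_mapB e (Q := Q)]
    simpa only [map_mul, map_inv] using h1
  one := fOne_map e h.one
  gen := by
    have h1 := Subgroup.map_mono (f := e.toMonoidHom) h.gen
    rw [Subgroup.map_sup, Subgroup.map_inf _ _ _ e.injective, Subgroup.map_inf _ _ _ e.injective, ← map_Rone,
      ← map_Rone] at h1
    exact h1
  fpfs := fpfE_map e h.fpfs
  fpft := fpfE_map e h.fpft
  comm := by
    rintro _ ⟨x, hx, rfl⟩ _ ⟨y, hy, rfl⟩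
    exact ⟨x * y * x⁻¹ * y⁻¹, h.comm x hx y hy, by
      show e (x * y * x⁻¹ * y⁻¹) = e x * e y * (e x)⁻¹ * (e y)⁻¹
      simp only [map_mul, map_inv]⟩

theorem kCyc_map (h : ∃ c ∈ Rone UE s, c ∈ Q.B ∧ ∀ x ∈ Rone UE s, x ∈ Q.B → ∃ k : ℤ, x * c ^ k ∈ UE) :
    ∃ c ∈ Rone (UE.map e.toMonoidHom) (e s), c ∈ (mapBN e Q).B ∧
      ∀ x ∈ Rone (UE.map e.toMonoidHom) (e s), x ∈ (mapBN e Q).B → ∃ k : ℤ, x * c ^ k ∈ UE.map e.toMonoidHom := by
  obtain ⟨c, hc, hcB, h1⟩ := h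
  refine ⟨e c, (mem_map_Rone e).2 hc, (mem_mapB e).2 hcB, fun x hx hxB => ?_⟩
  obtain ⟨x, rfl⟩ := e.surjective x
  obtain ⟨k, hk⟩ := h1 x ((mem_map_Rone e).1 hx) ((mem_mapB e).1 hxB)
  exact ⟨k, by rw [← map_zpow, ← map_mul]; exact (mem_mapU e).2 hk⟩

theorem kInv_map (h : ∀ x ∈ Rone UE s, x ∈ Q.B → x ∈ Q.N → s * x * s⁻¹ * x = 1) :
    ∀ x ∈ Rone (UE.map e.toMonoidHom) (e s), x ∈ (mapBN e Q).B → x ∈ (mapBN e Q).N → e s * x * (e s)⁻¹ * x = 1 := by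
  intro x hx hxB hxN
  obtain ⟨x, rfl⟩ := e.surjective x
  rw [← map_inv, ← map_mul, ← map_mul, ← map_mul,
    h x ((mem_map_Rone e).1 hx) ((mem_mapB e).1 hxB) ((mem_mapN e).1 hxN), map_one]

theorem kTor_map (h : KTor Q UE s t) : KTor (mapBN e Q) (UE.map e.toMonoidHom) (e s) (e t) where
  cycs := kCyc_map e h.cycs
  cyct := kCyc_map e h.cyct
  inv := h.inv.imp (kInv_map e) (kInv_map e)

/-- **Transport.** -/
theorem hasKPair_congr (e : F ≃* L) (h : HasKPair p F) : HasKPair p L := by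
  obtain ⟨Q, UE, s, t, h1, h2⟩ := h
  exact ⟨_, _, _, _, kPair_map e h1, kTor_map e h2⟩

/-- **Transport.** -/
theorem hasKPairSep_congr (e : F ≃* L) (h : HasKPairSep p F) : HasKPairSep p L := by
  obtain ⟨Q, UE, s, t, h1, h2, h3⟩ := h
  exact ⟨_, _, _, _, kPair_map e h1, kTor_map e h2, h3.imp (sepE_map e) (sepE_map e)⟩

theorem HasKPairSep.hasKPair (h : HasKPairSep p F) : HasKPair p F := by
  obtain ⟨Q, UE, s, t, h1, h2, -⟩ := h
  exact ⟨Q, UE, s, t, h1, h2⟩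

end Cfsg.Agent.ParSys.Fam
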