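import Cfsg.Agent.KFacts.RgdChevCoord

/-!
# The rank one tori of the Chevalley groups: cyclic, inverted by the reflection
-/

set_option autoImplicit false
set_option linter.unusedSectionVars false

namespace Cfsg.Agent.ParSys.Fam.ChevTor

open CoxeterSystem Cfsg.Agent.ChevalleyStructure.CoxeterGeom Cfsg.Agent.Tits.Roots Cfsg.Agent.Tits.Core
  Cfsg.Agent.Tits.RootComb Cfsg.Agent.Nodes.Comb Cfsg.Agent.Nodes.Reps Cfsg.Agent.Nodes.BNOf
  Cfsg.Agent.Nodes.RGDChev Cfsg.Agent.KFacts.RgdChevCoord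
open Cfsg.Lie Cfsg.Agent.ChevalleyStructure Cfsg.Agent.ChevalleyStructure.Elts
  Cfsg.Agent.ChevalleyStructure.NPerm Cfsg.Agent.ChevalleyStructure.CoxeterGeomTypes
open scoped commutatorElement

universe u

section SL2

variable {K : Type u} [Field K]

/-- diagonal -/
def sd (t : Kˣ) : Matrix.SpecialLinearGroup (Fin 2) K :=
  ⟨!![(t : K), 0; 0, ((t⁻¹ : Kˣ) : K)], by simp [Matrix.det_fin_two]⟩

/-- monomial -/
def sw (t : Kˣ) : Matrix.SpecialLinearGroup (Fin 2) K :=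
  ⟨!![0, (t : K); -((t⁻¹ : Kˣ) : K), 0], by simp [Matrix.det_fin_two]⟩

theorem sw_eq (t : Kˣ) : sx (t : K) * (sy (-((t : K))⁻¹) * sx (t : K)) = sw t := by
  apply Subtype.ext
  show (!![1, (t : K); 0, 1] * (!![1, 0; -((t : K))⁻¹, 1] * !![1, (t : K); 0, 1]) : Matrix (Fin 2) (Fin 2) K) =
    !![0, (t : K); -((t⁻¹ : Kˣ) : K), 0]
  rw [Units.val_inv_eq_inv_val]
  ext i j
  fin_cases i <;> fin_cases j <;> simp

theorem sd_eq (t : Kˣ) : sw t * sw (-1) = sd t := by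
  apply Subtype.ext
  show (!![0, (t : K); -((t⁻¹ : Kˣ) : K), 0] * !![0, ((-1 : Kˣ) : K); -(((-1)⁻¹ : Kˣ) : K), 0] :
    Matrix (Fin 2) (Fin 2) K) = !![(t : K), 0; 0, ((t⁻¹ : Kˣ) : K)]
  ext i j
  fin_cases i <;> fin_cases j <;> simp

theorem sd_mul (s t : Kˣ) : sd s * sd t = sd (s * t) := by
  apply Subtype.ext
  show (!![(s : K), 0; 0, ((s⁻¹ : Kˣ) : K)] * !![(t : K), 0; 0, ((t⁻¹ : Kˣ) : K)] : Matrix (Fin 2) (Fin 2) K) =
    !![((s * t : Kˣ) : K), 0; 0, (((s * t)⁻¹ : Kˣ) : K)]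
  ext i j
  fin_cases i <;> fin_cases j <;> simp [mul_comm]

theorem sd_one : sd (1 : Kˣ) = 1 := by
  apply Subtype.ext
  show (!![((1 : Kˣ) : K), 0; 0, ((1⁻¹ : Kˣ) : K)] : Matrix (Fin 2) (Fin 2) K) = 1
  rw [Matrix.one_fin_two]
  simp

theorem sw_sd (t : Kˣ) : sw 1 * sd t = sd t⁻¹ * sw 1 := by
  apply Subtype.ext
  show (!![0, ((1 : Kˣ) : K); -((1⁻¹ : Kˣ) : K), 0] * !![(t : K), 0; 0, ((t⁻¹ : Kˣ) : K)] : Matrix (Fin 2) (Fin 2) K) =
    !![((t⁻¹ : Kˣ) : K), 0; 0, ((t⁻¹⁻¹ : Kˣ) : K)] * !![0, ((1 : Kˣ) : K); -((1⁻¹ : Kˣ) : K), 0]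
  ext i j
  fin_cases i <;> fin_cases j <;> simp

end SL2

variable {D : ChevalleyDatum} {l : ℕ} {M : CoxeterMatrix (Fin l)} (hp : IsType D l M) {K : Type u} [Field K]

theorem exists_hom (j : Fin l) : ∃ φ : Matrix.SpecialLinearGroup (Fin 2) K →* GL D.Idx K,
    (∀ t : Kˣ, φ (sd t) = hG hp.inList (D.simple j) (t : K)) ∧ φ (sw 1) = nn hp K j := by
  have hj := simple_lt hp.inList (lt_rank hp j)
  obtain ⟨φ, hφ, hxy⟩ := Cfsg.Agent.S1030.result (F := K) D hp.inList (D.simple j) hj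
  have hsx : ∀ u : K, φ (sx u) = xG hp.inList (D.simple j) u := fun u =>
    Units.ext (by rw [(hxy (sx u) u).1 rfl, coe_xG])
  have hsy : ∀ u : K, φ (sy u) = xG hp.inList (D.neg (D.simple j)) u := fun u =>
    Units.ext (by rw [(hxy (sy u) u).2 rfl, coe_xG])
  have hsw : ∀ t : Kˣ, φ (sw t) = nG hp.inList (D.simple j) (t : K) := by
    intro t
    rw [← sw_eq, map_mul, map_mul, hsx, hsy, nG_def]
    try rw [mul_assoc]
  refine ⟨φ, fun t => ?_, ?_⟩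
  · rw [← sd_eq, map_mul, hsw, hsw, hG_def]
    rfl
  · rw [hsw]
    rfl

theorem hc_mul (j : Fin l) {a b : K} (ha : a ≠ 0) (hb : b ≠ 0) : hc hp j (a * b) = hc hp j a * hc hp j b := by
  obtain ⟨φ, h1, -⟩ := exists_hom (K := K) hp j
  apply Subtype.ext
  have e1 := h1 (Units.mk0 a ha)
  have e2 := h1 (Units.mk0 b hb)
  have e3 := h1 (Units.mk0 a ha * Units.mk0 b hb)
  rw [← sd_mul, map_mul, e1, e2, Units.val_mul, Units.val_mk0, Units.val_mk0] at e3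
  exact e3.symm

theorem hc_one (j : Fin l) : hc hp j (1 : K) = 1 := by
  obtain ⟨φ, h1, -⟩ := exists_hom (K := K) hp j
  apply Subtype.ext
  have e1 := h1 1
  rw [sd_one, map_one, Units.val_one] at e1
  exact e1.symm

theorem hc_zpow (j : Fin l) {a : K} (ha : a ≠ 0) (k : ℤ) : hc hp j (a ^ k) = hc hp j a ^ k := by
  have key : ∀ m : ℕ, hc hp j (a ^ m) = hc hp j a ^ m := by
    intro m
    induction m with
    | zero => rw [pow_zero, pow_zero, hc_one]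
    | succ m ih => rw [pow_succ, pow_succ, hc_mul hp j (pow_ne_zero m ha) ha, ih]
  have hinv : ∀ b : K, b ≠ 0 → hc hp j b⁻¹ = (hc hp j b)⁻¹ := by
    intro b hb
    rw [eq_inv_iff_mul_eq_one, ← hc_mul hp j (inv_ne_zero hb) hb, inv_mul_cancel₀ hb, hc_one]
  rcases k with m | m
  · rw [Int.ofNat_eq_natCast, zpow_natCast, zpow_natCast, key]
  · rw [zpow_negSucc, zpow_negSucc, hinv _ (pow_ne_zero _ ha), key]

/-- the reflection inverts the rank one torus -/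
theorem nc_hc (j : Fin l) {a : K} (ha : a ≠ 0) : nc hp K j * hc hp j a * (nc hp K j)⁻¹ * hc hp j a = 1 := by
  obtain ⟨φ, h1, h2⟩ := exists_hom (K := K) hp j
  apply Subtype.ext
  have e1 := h1 (Units.mk0 a ha)
  rw [Units.val_mk0] at e1
  show nn hp K j * hG hp.inList (D.simple j) a * (nn hp K j)⁻¹ * hG hp.inList (D.simple j) a = 1
  rw [← e1, ← h2, ← map_inv, ← map_mul, ← map_mul, ← map_mul, sw_sd, mul_inv_cancel_right, sd_mul, inv_mul_cancel,
    sd_one, map_one]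

variable {W : Type*} [Group W] (cs : CoxeterSystem M W)

include hp cs in
/-- **The rank one torus is cyclic.** -/
theorem cyc [Finite K] (p : ℕ) [Fact p.Prime] [CharP K p] (j : Fin l) :
    ∃ c ∈ TT D K ⊓ (XX D l K (sr j) ⊔ XX D l K (-sr j)), ∀ x ∈ TT D K ⊓ (XX D l K (sr j) ⊔ XX D l K (-sr j)),
      ∃ k : ℤ, x * c ^ k = 1 := by
  obtain ⟨g, hg⟩ := IsCyclic.exists_generator (α := Kˣ)
  refine ⟨hc hp j (g : K), (coroot_mem hp cs p j _).2 ⟨_, g.ne_zero, rfl⟩, fun x hx => ?_⟩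
  obtain ⟨a, ha, rfl⟩ := (coroot_mem hp cs p j x).1 hx
  obtain ⟨k, hk⟩ := hg (Units.mk0 a ha)
  refine ⟨-k, ?_⟩
  have e1 : (g : K) ^ k = a := by
    have := congrArg Units.val hk
    rwa [Units.val_zpow_eq_zpow_val, Units.val_mk0] at this
  rw [← hc_zpow hp j g.ne_zero, ← hc_mul hp j ha (zpow_ne_zero _ g.ne_zero), zpow_neg, e1, mul_inv_cancel₀ ha, hc_one]

include hp cs in
/-- **The rank one torus is inverted by the reflection.** -/
theorem inv [Finite K] (p : ℕ) [Fact p.Prime] [CharP K p] (j : Fin l) :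
    ∀ x ∈ TT D K ⊓ (XX D l K (sr j) ⊔ XX D l K (-sr j)), nc hp K j * x * (nc hp K j)⁻¹ * x = 1 := by
  intro x hx
  obtain ⟨a, ha, rfl⟩ := (coroot_mem hp cs p j x).1 hx
  exact nc_hc hp j ha

include hp in
/-- **The torus is abelian.** -/
theorem TT_comm (x : ↥(D.group K)) (hx : x ∈ TT D K) (y : ↥(D.group K)) (hy : y ∈ TT D K) : x * y = y * x := by
  obtain ⟨χ, hχ⟩ := HMatDiagAll.mem_torus.1 (HMatDiagAll.diagonalSubgroup_le_torus hp.inList hx)
  obtain ⟨ψ, hψ⟩ := HMatDiagAll.mem_torus.1 (HMatDiagAll.diagonalSubgroup_le_torus hp.inList hy)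
  rw [Subgroup.coe_subtype] at hχ hψ
  apply Subtype.ext
  apply Units.ext
  rw [Subgroup.coe_mul, Subgroup.coe_mul, Units.val_mul, Units.val_mul, hχ, hψ, Matrix.diagonal_mul_diagonal,
    Matrix.diagonal_mul_diagonal]
  congr 1
  funext i
  exact mul_comm _ _

end Cfsg.Agent.ParSys.Fam.ChevTor
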