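import Cfsg.Agent.ParSys.KFact
import Cfsg.Agent.FixBN.OfRGD
import Cfsg.Agent.Nodes.CommonNorm
import Cfsg.Agent.Nodes.RGDLib
import Cfsg.Agent.Lib.FrattiniPGroup

/-!
# THEOREM PAR: the facts on the groups of Lie type of rank two, from root group data

`fOne_of_rgd`: the fact (F1), if the root groups of the non-simple positive roots lie in the commutator subgroup of `U`.
-/

set_option autoImplicit false
set_option linter.unusedSectionVars false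
set_option linter.style.haveILetI false

namespace Cfsg.Agent.ParSys.Fam

open CoxeterSystem Cfsg.Agent.ChevalleyStructure.CoxeterGeom Cfsg.Agent.Tits.Roots Cfsg.Agent.Tits.Core
  Cfsg.Agent.Tits.RootComb Cfsg.Agent.Nodes.Comb Cfsg.Agent.Nodes.Reps Cfsg.Agent.Nodes.BNOf Cfsg.Agent.Nodes.BNOf.RGD
  Cfsg.Agent.Schreier.BNSch Cfsg.Agent.FixBN Cfsg.Agent.Nodes.FreeTorus Cfsg.Agent.Nodes.CommonNorm
  Cfsg.Agent.Nodes.Bruhat Cfsg.Agent.Nodes.RGDLib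
open scoped commutatorElement

/-- In a finite `p`-group the commutator subgroup consists of non-generators. -/
theorem le_of_sup_commutator {Y : Type*} [Group Y] [Finite Y] {p : ℕ} [Fact p.Prime] {U T : Subgroup Y}
    (hU : IsPGroup p U) (hT : T ≤ U) (h : U ≤ T ⊔ ⁅U, U⁆) : U ≤ T := by
  have h1 : T.subgroupOf U ⊔ frattini U = ⊤ := by
    rw [eq_top_iff]
    have h2 : T.subgroupOf U ⊔ commutator U = ⊤ := by
      apply Subgroup.map_injective U.subtype_injective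
      rw [Subgroup.map_sup, Subgroup.map_subtype_commutator, Subgroup.subgroupOf_map_subtype,
        ← MonoidHom.range_eq_map, Subgroup.range_subtype, inf_eq_left.2 hT]
      exact le_antisymm (sup_le hT (Subgroup.commutator_le_self U)) h
    rw [← h2]
    exact sup_le_sup_left (Lib.FrattiniPGroup.commutator_le_frattini hU) _
  have h2 := frattini_nongenerating h1
  rwa [Subgroup.subgroupOf_eq_top] at h2

variable {I W Y : Type*} [Fintype I] [DecidableEq I] [Group W] [Group Y] {M : CoxeterMatrix I}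
variable {cs : CoxeterSystem M W} {A : I → I → ℤ} {h : IsCartan M A} {p : ℕ} {T : Subgroup Y} {n : I → Y}
  {X : (I → ℤ) → Subgroup Y} [Finite W]

/-- The positive roots other than `α_i` and `α_j`. -/
def PosNN (cs : CoxeterSystem M W) (h : IsCartan M A) (i j : I) : Set (I → ℤ) :=
  {x | IsRoot cs h x ∧ 0 ≤ x ∧ x ≠ sr i ∧ x ≠ sr j}

/-- `X_{-i} ∩ B = 1` -/
theorem neg_inf_B (R : RGD cs h p T n X) (i : I) : ∀ x ∈ X (-sr i), x ∈ B cs h T X → x = 1 := by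
  intro x hx hxB
  by_contra hne
  obtain ⟨a, ha, t, ht, b, hb, e⟩ := R.rk1 i x hx hne
  have h1 : n i = (a * t)⁻¹ * x * b⁻¹ := by rw [e]; group
  have h2 : n i ∈ B cs h T X := by
    rw [h1]
    exact mul_mem (mul_mem (inv_mem (mul_mem (X_le_B (isRoot_sr cs h i) (sr_nonneg i) ha) (T_le_B ht))) hxB)
      (inv_mem (X_le_B (isRoot_sr cs h i) (sr_nonneg i) hb))
  have h3 := R.eq_one_of_mem_B (rp_simple cs R.nsys i) h2
  have h4 := rep_simple_sr cs h i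
  rw [h3, map_one, Module.End.one_apply] at h4
  have h5 := congrFun h4 i
  rw [Pi.neg_apply, sr_self] at h5
  exact absurd h5 (by decide)

/-- `X_i ∩ V_i = 1` -/
theorem X_inf_V (R : RGD cs h p T n X) (i : I) : ∀ x ∈ X (sr i), x ∈ Sup X (PosNe cs h i) → x = 1 := by
  intro x hx hxV
  have h1 : (n i)⁻¹ * x * n i ∈ X (-sr i) := by
    have := R.conj_mem' (rp_simple cs R.nsys i) (isRoot_sr cs h i) hx
    rwa [inv_simple, rep_simple_sr] at this
  have h2 : (n i)⁻¹ * x * n i ∈ Sup X (PosNe cs h i) := by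
    rw [← R.cj_n_V i] at hxV
    exact mem_cj.1 hxV
  have h3 := neg_inf_B R i _ h1 (U_le_B ((Sup_mono fun z hz => ⟨hz.1, hz.2.1⟩ :
    Sup X (PosNe cs h i) ≤ Sup X (Pos cs h)) h2))
  have h4 : x = n i * ((n i)⁻¹ * x * n i) * (n i)⁻¹ := by group
  rw [h4, h3, mul_one, mul_inv_cancel]

/-- `X_j` normalises the product of the other root groups of `V_i`. -/
theorem X_le_normalizer_NN (R : RGD cs h p T n X) (i j : I) :
    X (sr j) ≤ Subgroup.normalizer (Sup X (PosNN cs h i j) : Set Y) := by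
  refine R.le_normalizer (isRoot_sr cs h j) ?_
  rintro y ⟨hy, hy0, hyi, hyj⟩
  refine ⟨hy, Or.inr ⟨?_, ?_⟩⟩
  · intro he
    have h1 := (sr_nonneg j : (0 : I → ℤ) ≤ sr j)
    rw [he] at h1
    exact hy.neg.not_pos_neg h1 (neg_nonpos.2 hy0)
  · intro z hz
    exact ⟨hz.1, nonneg_of_btwn (sr_nonneg j) hy0 hz, ne_sr_of_btwn (sr_nonneg j) hy hy0 hyi hz,
      ne_sr_of_btwn (sr_nonneg j) hy hy0 hyj hz⟩

/-- `V_i ∩ V_j` is generated by the root groups of the other positive roots. -/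
theorem V_inf_V (R : RGD cs h p T n X) (i j : I) :
    ∀ e ∈ Sup X (PosNe cs h i), e ∈ Sup X (PosNe cs h j) → e ∈ Sup X (PosNN cs h i j) := by
  intro e hi hj
  have hV : Sup X (PosNe cs h i) ≤ X (sr j) ⊔ Sup X (PosNN cs h i j) := by
    refine Sup_le fun z hz => ?_
    by_cases hz0 : z = sr j
    · subst hz0; exact le_sup_left
    · exact le_trans (le_Sup (S := PosNN cs h i j) ⟨hz.1, hz.2.1, hz.2.2, hz0⟩) le_sup_right
  have h1 : e ∈ ((X (sr j) ⊔ Sup X (PosNN cs h i j) : Subgroup Y) : Set Y) := hV hi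
  rw [Subgroup.coe_mul_of_left_le_normalizer_right _ _ (X_le_normalizer_NN R i j), Set.mem_mul] at h1
  obtain ⟨x, hx, w, hw, rfl⟩ := h1
  have hle : Sup X (PosNN cs h i j) ≤ Sup X (PosNe cs h j) := Sup_mono fun z hz => ⟨hz.1, hz.2.1, hz.2.2.2⟩
  have hwV : w ∈ Sup X (PosNe cs h j) := hle hw
  have hxV : x ∈ Sup X (PosNe cs h j) := by
    have := mul_mem hj (inv_mem hwV)
    rwa [mul_inv_cancel_right] at this
  rw [X_inf_V R j x hx hxV, one_mul]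
  exact hw

/-- **(F1)** from root group data: the non-simple positive root groups lie in `U'`. -/
theorem fOne_of_rgd [Finite Y] [Fact p.Prime] (R : RGD cs h p T n X) (hgen : B cs h T X ⊔ NN cs R.nsys = ⊤) {i j : I}
    (hX : ∀ z, IsRoot cs h z → 0 ≤ z → z ≠ sr i → z ≠ sr j →
      X z ≤ ⁅Sup X (Pos cs h), Sup X (Pos cs h)⁆) :
    FOne (R.bnPair hgen) (Sup X (Pos cs h)) (n i) (n j) := by
  intro K hK hcov
  refine le_of_sup_commutator R.isPGroup_Upos hK ?_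
  intro e he
  obtain ⟨x, hx, h1, h2⟩ := hcov e he
  have hxe : x⁻¹ * e ∈ Sup X (Pos cs h) := mul_mem (inv_mem (hK hx)) he
  have h3 := (OfRGD.node R hgen i).stab _ hxe h1
  have h4 := (OfRGD.node R hgen j).stab _ hxe h2
  have h5 := V_inf_V R i j _ h3 h4
  have h6 : Sup X (PosNN cs h i j) ≤ ⁅Sup X (Pos cs h), Sup X (Pos cs h)⁆ :=
    Sup_le fun z hz => hX z hz.1 hz.2.1 hz.2.2.1 hz.2.2.2
  have : e = x * (x⁻¹ * e) := by group
  rw [this]
  exact mul_mem (Subgroup.mem_sup_left hx) (Subgroup.mem_sup_right (h6 h5))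

/-! ### The torus is generated by the rank one tori -/

theorem acts_mul (R : RGD cs h p T n X) {t : Y} (ht : t ∈ T) (i : I) : Nodes.FreeTorus.Acts cs h X (cs.simple i) (t * n i) := by
  have h1 : Nodes.FreeTorus.Acts cs h X 1 t := mem_HH.1 (T_le_HH R ht)
  have h2 : Nodes.FreeTorus.Acts cs h X (cs.simple i) (n i) := acts_of_rp R (rp_simple cs R.nsys i)
  have := h1.mul h2
  rwa [one_mul] at this

/-- An element of `⟨X_i, X_{-i}⟩ ∩ T n_i`. -/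
theorem exists_mem_LL (R : RGD cs h p T n X) (i : I) :
    ∃ m ∈ LL X (sr i), Nodes.FreeTorus.Acts cs h X (cs.simple i) m ∧ ∃ t ∈ T, m = t * n i := by
  have hne := X_ne_bot R (isRoot_sr cs h i).neg
  obtain ⟨u, hu, hu1⟩ := ((X (-sr i)).bot_or_exists_ne_one).resolve_left hne
  obtain ⟨a, ha, t, ht, b, hb, e⟩ := R.rk1 i u hu hu1
  refine ⟨t * n i, ?_, acts_mul R ht i, t, ht, rfl⟩
  have h1 : t * n i = a⁻¹ * u * b⁻¹ := by rw [e]; group
  have hL : X (sr i) ≤ LL X (sr i) := le_sup_left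
  have hL' : X (-sr i) ≤ LL X (sr i) := le_sup_right
  rw [h1]
  exact mul_mem (mul_mem (inv_mem (hL ha)) (hL' hu)) (inv_mem (hL hb))

/-- The torus of all root groups is generated by the rank one tori of the simple roots. -/
theorem TA_le {n' : I → Y} (hL : ∀ i, n' i ∈ LL X (sr i)) (hA : ∀ i, Nodes.FreeTorus.Acts cs h X (cs.simple i) (n' i)) :
    TA cs h X ≤ ⨆ k, TT cs h X (sr k) := by
  have hk : ∀ k, TT cs h X (sr k) ≤ ⨆ k, TT cs h X (sr k) := fun k => le_iSup (fun k => TT cs h X (sr k)) k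
  -- the `n' l` normalise the join
  have key : ∀ l, ∀ g, (g = n' l ∨ g = (n' l)⁻¹) → cj g (⨆ k, TT cs h X (sr k)) ≤ ⨆ k, TT cs h X (sr k) := by
    intro l g hg
    have hgL : g ∈ LL X (sr l) := by
      rcases hg with rfl | rfl
      · exact hL l
      · exact inv_mem (hL l)
    have hgA : Nodes.FreeTorus.Acts cs h X (cs.simple l) g := by
      rcases hg with rfl | rfl
      · exact hA l
      · have := (hA l).inv
        rwa [cs.inv_simple] at this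
    rw [cj_iSup]
    refine iSup_le fun k => ?_
    intro t ht
    rw [mem_cj] at ht
    -- `t = [g, t'] t'`
    have ht' : g⁻¹ * t * g ∈ HH cs h X := (Subgroup.mem_inf.1 ht).2
    have htH : t ∈ HH cs h X := by
      have h1 := hgA.cj_HH
      rw [← h1, mem_cj]
      exact ht'
    have h2 : t * (g⁻¹ * t * g)⁻¹ ∈ TT cs h X (sr l) := by
      refine Subgroup.mem_inf.2 ⟨?_, mul_mem htH (inv_mem ht')⟩
      have h3 : t * g⁻¹ * t⁻¹ ∈ LL X (sr l) := by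
        have h4 := (mem_HH.1 htH).cj_LL (isRoot_sr cs h l)
        rw [map_one, Module.End.one_apply] at h4
        rw [← h4]
        exact conj_mem_cj.2 (inv_mem hgL)
      have e : t * (g⁻¹ * t * g)⁻¹ = (t * g⁻¹ * t⁻¹) * g := by group
      rw [e]
      exact mul_mem h3 hgL
    have e : t = t * (g⁻¹ * t * g)⁻¹ * (g⁻¹ * t * g) := by group
    rw [e]
    exact mul_mem (hk l h2) (hk k ht)
  have hN : Subgroup.closure (Set.range n') ≤
      Subgroup.normalizer ((⨆ k, TT cs h X (sr k) : Subgroup Y) : Set Y) := by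
    rw [Subgroup.closure_le]
    rintro _ ⟨l, rfl⟩
    rw [SetLike.mem_coe, mem_normalizer_iff_cj]
    apply le_antisymm (key l _ (Or.inl rfl))
    have h1 := cj_mono (n' l) (key l _ (Or.inr rfl))
    rwa [cj_cj_inv] at h1
  refine iSup_le ?_
  rintro ⟨_, w, k, rfl⟩
  obtain ⟨g, hg, hgA⟩ := exists_acts hA w
  show TT cs h X (rep cs h w (sr k)) ≤ _
  rw [← hgA.cj_TT (isRoot_sr cs h k)]
  have h1 := mem_normalizer_iff_cj.1 (hN hg)
  rw [← h1]
  exact cj_mono g (hk k)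

/-- **The torus is generated by the rank one tori.** -/
theorem B_le [Finite Y] (R : RGD cs h p T n X) (hG : G1 cs h X = ⊤) :
    B cs h T X ≤ (⨆ k, TT cs h X (sr k)) ⊔ Sup X (Pos cs h) := by
  choose n' hL hA t ht hn' using exists_mem_LL R
  have hGG : GG cs h T X = ⊤ := by
    rw [eq_top_iff, ← hG]
    exact le_sup_right
  have hTH : HH cs h X = T := by
    have := HH_inf_GG R
    rwa [hGG, inf_top_eq] at this
  have hTAT : TA cs h X ≤ T := by rw [← hTH]; exact TA_le_HH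
  have R' : RGD cs h p (TA cs h X) n' X := by
    refine rgd_of_family hL hA R.comm ?_ R.pgrp R.notp ?_
    · intro i u hu hu1
      obtain ⟨a, ha, s, hs, b, hb, e⟩ := R.rk1 i u hu hu1
      refine ⟨a, ha, s * n i, ?_, b, hb, by rw [e]; group, acts_mul R hs i⟩
      have h1 : s * n i = a⁻¹ * u * b⁻¹ := by rw [e]; group
      have hL1 : X (sr i) ≤ LL X (sr i) := le_sup_left
      have hL2 : X (-sr i) ≤ LL X (sr i) := le_sup_right
      rw [h1]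
      exact mul_mem (mul_mem (inv_mem (hL1 ha)) (hL2 hu)) (inv_mem (hL1 hb))
    · intro i
      refine Nat.Coprime.coprime_dvd_left (Subgroup.card_dvd_of_le ?_) R.tcop
      rw [← hTH]
      exact inf_le_right
  have hgen' := rgd_gen_of_G1 R' hG
  have hBB : (R'.bnPair hgen').B ≤ B cs h T X := sup_le (hTAT.trans T_le_B) U_le_B
  have h1 := Cfsg.Agent.LieExceptional.BNPairCore.eq_parabolic hBB
  have h2 : (R'.bnPair hgen').S ∩ (B cs h T X : Set Y) = ∅ := by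
    rw [Set.eq_empty_iff_forall_notMem]
    rintro _ ⟨⟨k, rfl⟩, hk⟩
    have hk : n' k ∈ B cs h T X := hk
    rw [hn' k] at hk
    have h3 : n k ∈ B cs h T X := by
      have := mul_mem (inv_mem (T_le_B (ht k))) hk
      rwa [inv_mul_cancel_left] at this
    have h4 := R.eq_one_of_mem_B (rp_simple cs R.nsys k) h3
    have h5 := rep_simple_sr cs h k
    rw [h4, map_one, Module.End.one_apply] at h5
    have h6 := congrFun h5 k
    rw [Pi.neg_apply, sr_self] at h6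
    exact absurd h6 (by decide)
  rw [h2, parabolic_empty] at h1
  rw [h1]
  exact sup_le ((TA_le hL hA).trans le_sup_left) le_sup_right

/-! ### The facts `KPair` and `KSep` -/

theorem conj_mem_U (R : RGD cs h p T n X) {t u : Y} (ht : t ∈ T) (hu : u ∈ Sup X (Pos cs h)) :
    t * u * t⁻¹ ∈ Sup X (Pos cs h) := (Subgroup.mem_normalizer_iff.1 (R.T_le_normalizer_U ht) u).1 hu

theorem conj_mem_V (R : RGD cs h p T n X) (i : I) {t v : Y} (ht : t ∈ T) (hv : v ∈ Sup X (PosNe cs h i)) :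
    t * v * t⁻¹ ∈ Sup X (PosNe cs h i) :=
  (Subgroup.mem_normalizer_iff.1 (R.T_le_normalizer (S := PosNe cs h i) (fun _ hx => hx.1) ht) v).1 hv

theorem exists_V_mul (R : RGD cs h p T n X) (i : I) {u : Y} (hu : u ∈ Sup X (Pos cs h)) :
    ∃ v ∈ Sup X (PosNe cs h i), ∃ x ∈ X (sr i), u = v * x := by
  rw [R.Upos_eq i, sup_comm] at hu
  have h1 : u ∈ ((Sup X (PosNe cs h i) ⊔ X (sr i) : Subgroup Y) : Set Y) := hu
  rw [Subgroup.coe_mul_of_right_le_normalizer_left _ _ (R.X_le_normalizer_V i), Set.mem_mul] at h1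
  obtain ⟨v, hv, x, hx, e⟩ := h1
  exact ⟨v, hv, x, hx, e.symm⟩

theorem V_conj_mem_B (R : RGD cs h p T n X) (i : I) {v : Y} (hv : v ∈ Sup X (PosNe cs h i)) :
    (n i)⁻¹ * v * n i ∈ B cs h T X := by
  rw [← R.cj_n_V i] at hv
  have h1 : Sup X (PosNe cs h i) ≤ Sup X (Pos cs h) := Sup_mono fun z hz => ⟨hz.1, hz.2.1⟩
  exact U_le_B (h1 (mem_cj.1 hv))

/-- a torus element which is fixed-point-free on `X_i` -/
theorem fpf_of_rgd [Finite Y] (R : RGD cs h p T n X) (hgen : B cs h T X ⊔ NN cs R.nsys = ⊤) (i : I) {a : Y}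
    (ha : a ∈ T) (hfix : ∀ x ∈ X (sr i), a * x * a⁻¹ = x → x = 1) :
    ∀ u ∈ Sup X (Pos cs h), (n i)⁻¹ * (a * u * a⁻¹ * u⁻¹) * n i ∈ (R.bnPair hgen).B →
      (n i)⁻¹ * u * n i ∈ (R.bnPair hgen).B := by
  intro u hu hB
  have hw : a * u * a⁻¹ * u⁻¹ ∈ Sup X (Pos cs h) := mul_mem (conj_mem_U R ha hu) (inv_mem hu)
  have hwV := (OfRGD.node R hgen i).stab _ hw hB
  obtain ⟨v, hv, x, hx, rfl⟩ := exists_V_mul R i hu
  have h1 : a * x * a⁻¹ * x⁻¹ ∈ Sup X (PosNe cs h i) := by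
    have e : a * x * a⁻¹ * x⁻¹ = (a * v * a⁻¹)⁻¹ * (a * (v * x) * a⁻¹ * (v * x)⁻¹) * v := by group
    rw [e]
    exact mul_mem (mul_mem (inv_mem (conj_mem_V R i ha hv)) hwV) hv
  have h2 : a * x * a⁻¹ ∈ X (sr i) := by
    have := R.tor _ (isRoot_sr cs h i) a ha
    rw [← this]
    exact conj_mem_cj.2 hx
  have h3 := X_inf_V R i _ (mul_mem h2 (inv_mem hx)) h1
  have h4 := hfix x hx (mul_inv_eq_one.1 h3)
  rw [h4, mul_one]
  exact V_conj_mem_B R i hv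

theorem T_le_BN (R : RGD cs h p T n X) (hgen : B cs h T X ⊔ NN cs R.nsys = ⊤) :
    T ≤ (R.bnPair hgen).B ⊓ (R.bnPair hgen).N := by
  show T ≤ B cs h T X ⊓ NN cs R.nsys
  rw [R.B_inf_NN]

theorem kFpf_of_rgd [Finite Y] (R : RGD cs h p T n X) (hgen : B cs h T X ⊔ NN cs R.nsys = ⊤) (i : I)
    (hf : ∃ a ∈ T, ∀ x ∈ X (sr i), a * x * a⁻¹ = x → x = 1) :
    FpfE (R.bnPair hgen) (Sup X (Pos cs h)) (n i) := by
  obtain ⟨a, ha, hfix⟩ := hf
  exact ⟨a, T_le_BN R hgen ha, fpf_of_rgd R hgen i ha hfix⟩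

/-- **(T2)** from a torus element which centralises `X_i` and is fixed-point-free on `X_j`. -/
theorem kSep_of_rgd [Finite Y] (R : RGD cs h p T n X) (hgen : B cs h T X ⊔ NN cs R.nsys = ⊤) (i j : I)
    (hf : ∃ a ∈ T, (∀ x ∈ X (sr i), a * x * a⁻¹ = x) ∧ ∀ x ∈ X (sr j), a * x * a⁻¹ = x → x = 1) :
    SepE (R.bnPair hgen) (Sup X (Pos cs h)) (n i) (n j) := by
  obtain ⟨a, ha, hc, hfix⟩ := hf
  refine ⟨a, T_le_BN R hgen ha, ?_, fpf_of_rgd R hgen j ha hfix⟩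
  intro u hu
  obtain ⟨v, hv, x, hx, rfl⟩ := exists_V_mul R i hu
  have e : a * (v * x) * a⁻¹ * (v * x)⁻¹ = (a * v * a⁻¹) * (a * x * a⁻¹) * x⁻¹ * v⁻¹ := by group
  have e2 : (a * v * a⁻¹) * x * x⁻¹ * v⁻¹ = a * v * a⁻¹ * v⁻¹ := by group
  rw [e, hc x hx, e2]
  exact V_conj_mem_B R i (mul_mem (conj_mem_V R i ha hv) (inv_mem hv))

/-! ### The torus of the rank one groups -/

theorem LL_le_Rone (R : RGD cs h p T n X) (k : I) : LL X (sr k) ≤ Rone (Sup X (Pos cs h)) (n k) := by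
  refine sup_le ?_ ?_
  · exact le_trans (le_Sup (S := Pos cs h) ⟨isRoot_sr cs h k, sr_nonneg k⟩) le_sup_left
  · have h1 := R.conj k _ (isRoot_sr cs h k)
    rw [rep_simple_sr] at h1
    rw [← h1]
    exact le_trans (cj_mono (n k) (le_Sup (S := Pos cs h) ⟨isRoot_sr cs h k, sr_nonneg k⟩)) le_sup_right

/-- **The Bruhat decomposition of the rank one group** `⟨U, U^{n_i}⟩`. -/
theorem rone_le (R : RGD cs h p T n X) (i : I) {H : Subgroup Y} (hH : H ≤ T) {m : Y}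
    (hm : ∃ t ∈ T, m = t * n i)
    (r1 : ∀ x ∈ X (-sr i), x ≠ 1 → ∃ a ∈ X (sr i), ∃ t ∈ H, ∃ b ∈ X (sr i), x = a * t * m * b)
    (r2 : m * m ∈ H) (r3 : ∀ t ∈ H, m * t * m⁻¹ ∈ H) :
    ∀ x ∈ Rone (Sup X (Pos cs h)) (n i), (∃ u ∈ Sup X (Pos cs h), ∃ t ∈ H, x = u * t) ∨
      ∃ u ∈ Sup X (Pos cs h), ∃ t ∈ H, ∃ u' ∈ Sup X (Pos cs h), x = u * t * m * u' := by
  obtain ⟨t0, ht0, hmn⟩ := hm
  have hXU : X (sr i) ≤ Sup X (Pos cs h) := le_Sup (S := Pos cs h) ⟨isRoot_sr cs h i, sr_nonneg i⟩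
  have hVU : Sup X (PosNe cs h i) ≤ Sup X (Pos cs h) := Sup_mono fun z hz => ⟨hz.1, hz.2.1⟩
  have hnV : ∀ v ∈ Sup X (PosNe cs h i), n i * v * (n i)⁻¹ ∈ Sup X (PosNe cs h i) := fun v hv => by
    rw [← R.cj_n_V i]
    exact conj_mem_cj.2 hv
  have hmV : ∀ v ∈ Sup X (PosNe cs h i), m * v * m⁻¹ ∈ Sup X (PosNe cs h i) := fun v hv => by
    have e : m * v * m⁻¹ = t0 * (n i * v * (n i)⁻¹) * t0⁻¹ := by rw [hmn]; group
    rw [e]
    exact conj_mem_V R i ht0 (hnV v hv)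
  have hnX : ∀ x ∈ X (sr i), n i * x * (n i)⁻¹ ∈ X (-sr i) := fun x hx => by
    have := R.conj_mem (rp_simple cs R.nsys i) (isRoot_sr cs h i) hx
    rwa [rep_simple_sr] at this
  have hmX : ∀ x ∈ X (sr i), m * x * m⁻¹ ∈ X (-sr i) := fun x hx => by
    have e : m * x * m⁻¹ = t0 * (n i * x * (n i)⁻¹) * t0⁻¹ := by rw [hmn]; group
    rw [e, ← R.tor _ (isRoot_sr cs h i).neg t0 ht0]
    exact conj_mem_cj.2 (hnX x hx)
  have hTX : ∀ t ∈ T, ∀ x ∈ X (sr i), t⁻¹ * x * t ∈ X (sr i) := fun t ht x hx => by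
    have := R.tor _ (isRoot_sr cs h i) t⁻¹ (inv_mem ht)
    rw [← this]
    have h1 := (conj_mem_cj (g := t⁻¹)).2 hx
    rwa [inv_inv] at h1
  -- the set is stable under left multiplication by `U`
  have stU : ∀ y ∈ Sup X (Pos cs h), ∀ x, ((∃ u ∈ Sup X (Pos cs h), ∃ t ∈ H, x = u * t) ∨
      ∃ u ∈ Sup X (Pos cs h), ∃ t ∈ H, ∃ u' ∈ Sup X (Pos cs h), x = u * t * m * u') →
      ((∃ u ∈ Sup X (Pos cs h), ∃ t ∈ H, y * x = u * t) ∨
      ∃ u ∈ Sup X (Pos cs h), ∃ t ∈ H, ∃ u' ∈ Sup X (Pos cs h), y * x = u * t * m * u') := by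
    rintro y hy x (⟨u, hu, t, ht, rfl⟩ | ⟨u, hu, t, ht, u', hu', rfl⟩)
    · exact Or.inl ⟨y * u, mul_mem hy hu, t, ht, by group⟩
    · exact Or.inr ⟨y * u, mul_mem hy hu, t, ht, u', hu', by group⟩
  -- and by `X_{-i}`
  have stX : ∀ y ∈ X (-sr i), ∀ x, ((∃ u ∈ Sup X (Pos cs h), ∃ t ∈ H, x = u * t) ∨
      ∃ u ∈ Sup X (Pos cs h), ∃ t ∈ H, ∃ u' ∈ Sup X (Pos cs h), x = u * t * m * u') →
      ((∃ u ∈ Sup X (Pos cs h), ∃ t ∈ H, y * x = u * t) ∨
      ∃ u ∈ Sup X (Pos cs h), ∃ t ∈ H, ∃ u' ∈ Sup X (Pos cs h), y * x = u * t * m * u') := by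
    intro y hy x hx
    by_cases hy1 : y = 1
    · rw [hy1, one_mul]
      exact hx
    obtain ⟨a, ha, t, ht, b, hb, rfl⟩ := r1 y hy hy1
    rcases hx with (⟨u, hu, s, hs, rfl⟩ | ⟨u, hu, s, hs, u', hu', rfl⟩)
    · obtain ⟨v, hv, c, hc, e⟩ := exists_V_mul R i (mul_mem (hXU hb) hu)
      refine Or.inr ⟨a * (t * (m * v * m⁻¹) * t⁻¹), mul_mem (hXU ha) (conj_mem_U R (hH ht) (hVU (hmV v hv))),
        t * (m * s * m⁻¹), mul_mem ht (r3 s hs), s⁻¹ * c * s, hXU (hTX s (hH hs) c hc), ?_⟩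
      have e1 : a * t * m * b * (u * s) = a * t * m * (b * u) * s := by group
      rw [e1, e]
      group
    · obtain ⟨v, hv, c, hc, e⟩ := exists_V_mul R i (mul_mem (hXU hb) hu)
      have hA : a * (t * (m * v * m⁻¹) * t⁻¹) ∈ Sup X (Pos cs h) :=
        mul_mem (hXU ha) (conj_mem_U R (hH ht) (hVU (hmV v hv)))
      have e1 : a * t * m * b * (u * s * m * u') =
          (a * (t * (m * v * m⁻¹) * t⁻¹)) * t * (m * c * m⁻¹) * ((m * s * m⁻¹) * (m * m)) * u' := by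
        have e2 : a * t * m * b * (u * s * m * u') = a * t * m * (b * u) * s * m * u' := by group
        rw [e2, e]
        group
      have h2 : (m * s * m⁻¹) * (m * m) ∈ H := mul_mem (r3 s hs) r2
      generalize (m * s * m⁻¹) * (m * m) = k at e1 h2
      rw [e1]
      by_cases h3 : m * c * m⁻¹ = 1
      · refine Or.inl ⟨a * (t * (m * v * m⁻¹) * t⁻¹) * ((t * k) * u' * (t * k)⁻¹),
          mul_mem hA (conj_mem_U R (mul_mem (hH ht) (hH h2)) hu'), t * k, mul_mem ht h2, ?_⟩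
        rw [h3]
        group
      · obtain ⟨a', ha', t', ht', b', hb', e4⟩ := r1 _ (hmX c hc) h3
        have h5 : k⁻¹ * b' * k ∈ Sup X (Pos cs h) := by
          have := conj_mem_U R (inv_mem (hH h2)) (hXU hb')
          rwa [inv_inv] at this
        refine Or.inr ⟨a * (t * (m * v * m⁻¹) * t⁻¹) * (t * a' * t⁻¹), mul_mem hA (conj_mem_U R (hH ht) (hXU ha')),
          t * t' * (m * k * m⁻¹), mul_mem (mul_mem ht ht') (r3 k h2), k⁻¹ * b' * k * u', mul_mem h5 hu', ?_⟩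
        rw [e4]
        group
  intro x hx
  have hx' : x ∈ Subgroup.closure (((Sup X (Pos cs h) : Subgroup Y) : Set Y) ∪
      (((Sup X (Pos cs h)).map (MulAut.conj (n i)).toMonoidHom : Subgroup Y) : Set Y)) := by
    rw [Subgroup.closure_union, Subgroup.closure_eq, Subgroup.closure_eq]
    exact hx
  have stP : ∀ y ∈ (((Sup X (Pos cs h) : Subgroup Y) : Set Y) ∪
      (((Sup X (Pos cs h)).map (MulAut.conj (n i)).toMonoidHom : Subgroup Y) : Set Y)),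
      ∀ x, ((∃ u ∈ Sup X (Pos cs h), ∃ t ∈ H, x = u * t) ∨
      ∃ u ∈ Sup X (Pos cs h), ∃ t ∈ H, ∃ u' ∈ Sup X (Pos cs h), x = u * t * m * u') →
      ((∃ u ∈ Sup X (Pos cs h), ∃ t ∈ H, y * x = u * t) ∨
      ∃ u ∈ Sup X (Pos cs h), ∃ t ∈ H, ∃ u' ∈ Sup X (Pos cs h), y * x = u * t * m * u') := by
    rintro y (hy | ⟨u, hu, rfl⟩) x hx
    · exact stU y hy x hx
    · obtain ⟨v, hv, c, hc, rfl⟩ := exists_V_mul R i hu
      have e : (MulAut.conj (n i)).toMonoidHom (v * c) * x =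
          (n i * v * (n i)⁻¹) * ((n i * c * (n i)⁻¹) * x) := by
        show n i * (v * c) * (n i)⁻¹ * x = _
        group
      rw [e]
      exact stU _ (hVU (hnV v hv)) _ (stX _ (hnX c hc) _ hx)
  clear hx
  induction hx' using Subgroup.closure_induction_left with
  | one => exact Or.inl ⟨1, one_mem _, 1, one_mem _, by group⟩
  | mul_left y hy x _ ih => exact stP y hy x ih
  | inv_mul_cancel y hy x _ ih =>
    refine stP y⁻¹ ?_ x ih
    rcases hy with hy | hy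
    · exact Or.inl (inv_mem hy)
    · exact Or.inr (inv_mem hy)

theorem not_mem_B_of_mul (R : RGD cs h p T n X) (i : I) {m : Y} (hm : ∃ t ∈ T, m = t * n i) : m ∉ B cs h T X := by
  obtain ⟨t, ht, rfl⟩ := hm
  intro hB
  have h3 : n i ∈ B cs h T X := by
    have := mul_mem (inv_mem (T_le_B ht)) hB
    rwa [inv_mul_cancel_left] at this
  have h4 := R.eq_one_of_mem_B (rp_simple cs R.nsys i) h3
  have h5 := rep_simple_sr cs h i
  rw [h4, map_one, Module.End.one_apply] at h5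
  have h6 := congrFun h5 i
  rw [Pi.neg_apply, sr_self] at h6
  exact absurd h6 (by decide)

/-- `⟨U, U^{n_i}⟩ ∩ B = U H_i` -/
theorem rone_inf_B (R : RGD cs h p T n X) (i : I) {H : Subgroup Y} (hH : H ≤ T) {m : Y}
    (hm : ∃ t ∈ T, m = t * n i)
    (r1 : ∀ x ∈ X (-sr i), x ≠ 1 → ∃ a ∈ X (sr i), ∃ t ∈ H, ∃ b ∈ X (sr i), x = a * t * m * b)
    (r2 : m * m ∈ H) (r3 : ∀ t ∈ H, m * t * m⁻¹ ∈ H) :
    ∀ x ∈ Rone (Sup X (Pos cs h)) (n i), x ∈ B cs h T X → ∃ u ∈ Sup X (Pos cs h), ∃ t ∈ H, x = u * t := by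
  intro x hx hB
  rcases rone_le R i hH hm r1 r2 r3 x hx with h1 | ⟨u, hu, t, ht, u', hu', rfl⟩
  · exact h1
  · exfalso
    apply not_mem_B_of_mul R i hm
    have e : m = t⁻¹ * u⁻¹ * (u * t * m * u') * u'⁻¹ := by group
    rw [e]
    exact mul_mem (mul_mem (mul_mem (inv_mem (T_le_B (hH ht))) (inv_mem (U_le_B hu))) hB) (inv_mem (U_le_B hu'))

/-- `N ∩ U = 1` -/
theorem eq_one_of_mem_U [Finite Y] (R : RGD cs h p T n X) {u : Y} (hu : u ∈ Sup X (Pos cs h)) (hT : u ∈ T) :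
    u = 1 := by
  have h1 : IsPGroup p ↥(Sup X (Pos cs h)) := R.isPGroup_Upos
  obtain ⟨k, hk⟩ := h1 ⟨u, hu⟩
  have h2 : u ^ p ^ k = 1 := congrArg Subtype.val hk
  have h4 : (⟨u, hT⟩ : T) ^ Nat.card T = 1 := pow_card_eq_one'
  have h5 : u ^ Nat.card T = 1 := congrArg Subtype.val h4
  have h6 : (Nat.card T).Coprime (p ^ k) := R.tcop.pow_right k
  have h7 := pow_gcd_eq_one.2 ⟨h5, h2⟩
  rwa [h6, pow_one] at h7

/-- The rank one torus, from explicit data. -/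
theorem TLL_le [Finite Y] (R : RGD cs h p T n X) (i : I) {H : Subgroup Y} (hH : H ≤ T) {m : Y}
    (hm : ∃ t ∈ T, m = t * n i)
    (r1 : ∀ x ∈ X (-sr i), x ≠ 1 → ∃ a ∈ X (sr i), ∃ t ∈ H, ∃ b ∈ X (sr i), x = a * t * m * b)
    (r2 : m * m ∈ H) (r3 : ∀ t ∈ H, m * t * m⁻¹ ∈ H) : T ⊓ LL X (sr i) ≤ H := by
  rintro x ⟨hxT, hxL⟩
  obtain ⟨u, hu, t, ht, e⟩ := rone_inf_B R i hH hm r1 r2 r3 x (LL_le_Rone R i hxL) (T_le_B hxT)
  have h1 : u = x * t⁻¹ := by rw [e]; group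
  have h2 := eq_one_of_mem_U R hu (by rw [h1]; exact mul_mem hxT (inv_mem (hH ht)))
  rw [e, h2, one_mul]
  exact ht

/-- `⟨U, U^{n_i}⟩ ∩ B = U (T ∩ ⟨X_i, X_{-i}⟩)` -/
theorem rone_inf_B' (R : RGD cs h p T n X) (i : I) :
    ∀ x ∈ Rone (Sup X (Pos cs h)) (n i), x ∈ B cs h T X →
      ∃ u ∈ Sup X (Pos cs h), ∃ t ∈ T ⊓ LL X (sr i), x = u * t := by
  obtain ⟨m, hmL, -, t0, ht0, hm⟩ := exists_mem_LL R i
  have hL : X (sr i) ≤ LL X (sr i) := le_sup_left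
  have hL' : X (-sr i) ≤ LL X (sr i) := le_sup_right
  have hmT : ∀ t ∈ T, m * t * m⁻¹ ∈ T := fun t ht => by
    have h1 : n i * t * (n i)⁻¹ ∈ T := (Subgroup.mem_normalizer_iff.1 (R.nsys.norm i) t).1 ht
    have e : m * t * m⁻¹ = t0 * (n i * t * (n i)⁻¹) * t0⁻¹ := by rw [hm]; group
    rw [e]
    exact mul_mem (mul_mem ht0 h1) (inv_mem ht0)
  refine rone_inf_B R i inf_le_left ⟨t0, ht0, hm⟩ ?_ ?_ ?_
  · intro x hx hx1
    obtain ⟨a, ha, t, ht, b, hb, e⟩ := R.rk1 i x hx hx1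
    have e1 : x = a * (t * t0⁻¹) * m * b := by rw [e, hm]; group
    refine ⟨a, ha, t * t0⁻¹, Subgroup.mem_inf.2 ⟨mul_mem ht (inv_mem ht0), ?_⟩, b, hb, e1⟩
    have e2 : t * t0⁻¹ = a⁻¹ * x * b⁻¹ * m⁻¹ := by rw [e1]; group
    rw [e2]
    exact mul_mem (mul_mem (mul_mem (inv_mem (hL ha)) (hL' hx)) (inv_mem (hL hb))) (inv_mem hmL)
  · refine Subgroup.mem_inf.2 ⟨?_, mul_mem hmL hmL⟩
    have h1 : n i * t0 * (n i)⁻¹ ∈ T := (Subgroup.mem_normalizer_iff.1 (R.nsys.norm i) t0).1 ht0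
    have e : m * m = t0 * (n i * t0 * (n i)⁻¹) * (n i * n i) := by rw [hm]; group
    rw [e]
    exact mul_mem (mul_mem ht0 h1) (R.sq_mem_T i)
  · rintro t ⟨ht, htL⟩
    exact Subgroup.mem_inf.2 ⟨hmT t ht, mul_mem (mul_mem hmL htL) (inv_mem hmL)⟩

omit [Fintype I] [DecidableEq I] [Group W] [Finite W] in
theorem isCyclic_of_exists {K : Subgroup Y} (hK : ∃ c ∈ K, ∀ x ∈ K, ∃ k : ℤ, x * c ^ k = 1) : IsCyclic ↥K := by
  obtain ⟨c, hc, hK⟩ := hK
  refine ⟨⟨c, hc⟩, fun x => ?_⟩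
  obtain ⟨k, hk⟩ := hK x.1 x.2
  refine Subgroup.mem_zpowers_iff.2 ⟨-k, Subtype.ext ?_⟩
  show c ^ (-k) = x.1
  rw [zpow_neg]
  exact (eq_inv_of_mul_eq_one_left hk).symm

theorem cyc_of_rgd [Finite Y] (R : RGD cs h p T n X) (hgen : B cs h T X ⊔ NN cs R.nsys = ⊤) (i : I)
    (hc : IsCyclic ↥(T ⊓ LL X (sr i))) :
    ∃ c ∈ Rone (Sup X (Pos cs h)) (n i), c ∈ (R.bnPair hgen).B ∧
      ∀ x ∈ Rone (Sup X (Pos cs h)) (n i), x ∈ (R.bnPair hgen).B → ∃ k : ℤ, x * c ^ k ∈ Sup X (Pos cs h) := by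
  obtain ⟨⟨c, hcT, hcL⟩, hgen'⟩ := hc.exists_generator
  refine ⟨c, LL_le_Rone R i hcL, T_le_B hcT, fun x hx hB => ?_⟩
  obtain ⟨u, hu, t, ht, e⟩ := rone_inf_B' R i x hx hB
  obtain ⟨k, hk⟩ := Subgroup.mem_zpowers_iff.1 (hgen' ⟨t, ht⟩)
  have hk' : c ^ k = t := by
    have := congrArg Subtype.val hk
    simpa using this
  refine ⟨-k, ?_⟩
  rw [e, zpow_neg, hk', mul_inv_cancel_right]
  exact hu

theorem inv_of_rgd [Finite Y] (R : RGD cs h p T n X) (hgen : B cs h T X ⊔ NN cs R.nsys = ⊤) (i : I)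
    (hinv : ∀ t ∈ T, t ∈ LL X (sr i) → n i * t * (n i)⁻¹ * t = 1) :
    ∀ x ∈ Rone (Sup X (Pos cs h)) (n i), x ∈ (R.bnPair hgen).B → x ∈ (R.bnPair hgen).N →
      n i * x * (n i)⁻¹ * x = 1 := by
  intro x hx hB hN
  have h1 : x ∈ T := by
    rw [← R.B_inf_NN]
    exact ⟨hB, hN⟩
  obtain ⟨u, hu, t, ht, e⟩ := rone_inf_B' R i x hx hB
  have h3 : u = x * t⁻¹ := by rw [e]; group
  have h2 := eq_one_of_mem_U R hu (by rw [h3]; exact mul_mem h1 (inv_mem ht.1))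
  rw [e, h2, one_mul]
  exact hinv t ht.1 ht.2

/-- **`KTor` from root group data of rank two.** -/
theorem kTor_of_rgd [Finite Y] (R : RGD cs h p T n X) (hgen : B cs h T X ⊔ NN cs R.nsys = ⊤) (i j : I)
    (hci : IsCyclic ↥(T ⊓ LL X (sr i))) (hcj : IsCyclic ↥(T ⊓ LL X (sr j)))
    (hinv : (∀ t ∈ T, t ∈ LL X (sr i) → n i * t * (n i)⁻¹ * t = 1) ∨
      ∀ t ∈ T, t ∈ LL X (sr j) → n j * t * (n j)⁻¹ * t = 1) :
    KTor (R.bnPair hgen) (Sup X (Pos cs h)) (n i) (n j) where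
  cycs := cyc_of_rgd R hgen i hci
  cyct := cyc_of_rgd R hgen j hcj
  inv := hinv.imp (inv_of_rgd R hgen i) (inv_of_rgd R hgen j)

/-- **(T1)** -/
theorem gen_of_rgd [Finite Y] (R : RGD cs h p T n X) (hG : G1 cs h X = ⊤) {i j : I}
    (hI : ∀ k, k = i ∨ k = j) :
    B cs h T X ≤ (Rone (Sup X (Pos cs h)) (n i) ⊓ B cs h T X) ⊔ (Rone (Sup X (Pos cs h)) (n j) ⊓ B cs h T X) := by
  have hGG : GG cs h T X = ⊤ := by
    rw [eq_top_iff, ← hG]
    exact le_sup_right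
  have hTH : HH cs h X = T := by
    have := HH_inf_GG R
    rwa [hGG, inf_top_eq] at this
  have hk : ∀ k, TT cs h X (sr k) ≤ Rone (Sup X (Pos cs h)) (n k) ⊓ B cs h T X := by
    intro k
    refine le_inf ?_ ?_
    · exact le_trans inf_le_left (LL_le_Rone R k)
    · refine le_trans inf_le_right ?_
      rw [hTH]
      exact T_le_B
  refine (B_le R hG).trans (sup_le (iSup_le fun k => ?_) ?_)
  · rcases hI k with rfl | rfl
    · exact (hk _).trans le_sup_left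
    · exact (hk _).trans le_sup_right
  · exact le_trans (le_inf le_sup_left U_le_B) le_sup_left

theorem core_eq_bot [IsSimpleGroup Y] (R : RGD cs h p T n X) (i : I) : (B cs h T X).normalCore = ⊥ := by
  rcases (inferInstance : (B cs h T X).normalCore.Normal).eq_bot_or_eq_top with h1 | h1
  · exact h1
  · exfalso
    apply R.not_neg_le_B i
    intro x _
    have h2 : x ∈ (B cs h T X).normalCore := by rw [h1]; exact Subgroup.mem_top x
    exact Subgroup.normalCore_le _ h2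

/-! ### Quotients -/

theorem LL_map {Y₀ : Type*} [Group Y₀] (π : Y₀ →* Y) (X₀ : (I → ℤ) → Subgroup Y₀) (x : I → ℤ) :
    LL (fun z => (X₀ z).map π) x = (LL X₀ x).map π := by
  unfold LL
  rw [Subgroup.map_sup]

theorem TLL_map {Y₀ : Type*} [Group Y₀] (π : Y₀ →* Y) {T₀ : Subgroup Y₀} (hker : π.ker ≤ T₀)
    (X₀ : (I → ℤ) → Subgroup Y₀) (x : I → ℤ) :
    T₀.map π ⊓ LL (fun z => (X₀ z).map π) x = (T₀ ⊓ LL X₀ x).map π := by
  rw [LL_map]
  apply le_antisymm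
  · rintro _ ⟨⟨t, ht, rfl⟩, l, hl, e⟩
    have h1 : t⁻¹ * l ∈ π.ker := by rw [MonoidHom.mem_ker, map_mul, map_inv, e, inv_mul_cancel]
    have h2 : l ∈ T₀ := by
      have := mul_mem ht (hker h1)
      rwa [mul_inv_cancel_left] at this
    exact ⟨l, Subgroup.mem_inf.2 ⟨h2, hl⟩, e⟩
  · exact le_inf (Subgroup.map_mono inf_le_left) (Subgroup.map_mono inf_le_right)

theorem isCyclic_TLL_map {Y₀ : Type*} [Group Y₀] (π : Y₀ →* Y) {T₀ : Subgroup Y₀} (hker : π.ker ≤ T₀)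
    {X₀ : (I → ℤ) → Subgroup Y₀} {x : I → ℤ} (hc : IsCyclic ↥(T₀ ⊓ LL X₀ x)) :
    IsCyclic ↥(T₀.map π ⊓ LL (fun z => (X₀ z).map π) x) := by
  rw [TLL_map π hker]
  exact isCyclic_of_surjective (π.subgroupMap (T₀ ⊓ LL X₀ x)) (π.subgroupMap_surjective _)

theorem inv_TLL_map {Y₀ : Type*} [Group Y₀] (π : Y₀ →* Y) {T₀ : Subgroup Y₀} (hker : π.ker ≤ T₀)
    {X₀ : (I → ℤ) → Subgroup Y₀} {x : I → ℤ} {m : Y₀} (hinv : ∀ t ∈ T₀, t ∈ LL X₀ x → m * t * m⁻¹ * t = 1) :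
    ∀ t ∈ T₀.map π, t ∈ LL (fun z => (X₀ z).map π) x → π m * t * (π m)⁻¹ * t = 1 := by
  intro t ht hL
  have h1 : t ∈ (T₀ ⊓ LL X₀ x).map π := by
    rw [← TLL_map π hker]
    exact Subgroup.mem_inf.2 ⟨ht, hL⟩
  obtain ⟨l, hl, rfl⟩ := h1
  rw [← map_inv, ← map_mul, ← map_mul, ← map_mul, hinv l hl.1 hl.2, map_one]

/-- **`KPair` from root group data of rank two.** -/
theorem kPair_of_rgd [Finite Y] [Fact p.Prime] [IsSimpleGroup Y] (R : RGD cs h p T n X) (hG : G1 cs h X = ⊤)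
    {i j : I} (hij : i ≠ j) (hI : ∀ k, k = i ∨ k = j) (hM : M i j ≠ 2)
    (hX : ∀ z, IsRoot cs h z → 0 ≤ z → z ≠ sr i → z ≠ sr j →
      X z ≤ ⁅Sup X (Pos cs h), Sup X (Pos cs h)⁆)
    (hT : ∀ x ∈ T, ∀ y ∈ T, x * y = y * x)
    (hi : ∃ a ∈ T, ∀ x ∈ X (sr i), a * x * a⁻¹ = x → x = 1)
    (hj : ∃ a ∈ T, ∀ x ∈ X (sr j), a * x * a⁻¹ = x → x = 1) :
    KPair p (R.bnPair (rgd_gen_of_G1 R hG)) (Sup X (Pos cs h)) (n i) (n j) where
  split := OfRGD.split R _ (core_eq_bot R i)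
  S := by
    show Set.range n = _
    ext x
    constructor
    · rintro ⟨k, rfl⟩
      rcases hI k with rfl | rfl
      · exact Or.inl rfl
      · exact Or.inr rfl
    · rintro (rfl | rfl)
      · exact ⟨i, rfl⟩
      · exact ⟨j, rfl⟩
  ne := fun e => hij (R.n_injective e)
  irr := by
    intro hm
    have h1 := R.eq_one_of_mem_B ((((rp_simple cs R.nsys i).mul (rp_simple cs R.nsys j)).mul
      (rp_simple cs R.nsys i).inv).mul (rp_simple cs R.nsys j).inv) hm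
    exact comm_ne (cs := cs) (h := h) hij hM h1
  one := fOne_of_rgd R _ hX
  gen := gen_of_rgd R hG hI
  fpfs := kFpf_of_rgd R _ i hi
  fpft := kFpf_of_rgd R _ j hj
  comm := by
    intro x hx y hy
    obtain ⟨t, ht, u, hu, rfl⟩ := R.mem_B.1 hx
    obtain ⟨t', ht', u', hu', rfl⟩ := R.mem_B.1 hy
    have e1 : t * t' * t⁻¹ = t' := by rw [hT t ht t' ht']; group
    have e : t * u * (t' * u') * (t * u)⁻¹ * (t' * u')⁻¹ =
        (t * u * t⁻¹) * ((t * t') * (u' * u⁻¹) * (t * t')⁻¹) * ((t * t' * t⁻¹) * u'⁻¹ * t'⁻¹) := by group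
    rw [e, e1]
    exact mul_mem (mul_mem (conj_mem_U R ht hu) (conj_mem_U R (mul_mem ht ht') (mul_mem hu' (inv_mem hu))))
      (conj_mem_U R ht' (inv_mem hu'))

/-- **`HasKPair`.** -/
theorem hasKPair_of_rgd [Finite Y] [Fact p.Prime] [IsSimpleGroup Y] (R : RGD cs h p T n X) (hG : G1 cs h X = ⊤)
    {i j : I} (hij : i ≠ j) (hI : ∀ k, k = i ∨ k = j) (hM : M i j ≠ 2)
    (hX : ∀ z, IsRoot cs h z → 0 ≤ z → z ≠ sr i → z ≠ sr j →
      X z ≤ ⁅Sup X (Pos cs h), Sup X (Pos cs h)⁆)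
    (hT : ∀ x ∈ T, ∀ y ∈ T, x * y = y * x)
    (hci : IsCyclic ↥(T ⊓ LL X (sr i))) (hcj : IsCyclic ↥(T ⊓ LL X (sr j)))
    (hinv : (∀ t ∈ T, t ∈ LL X (sr i) → n i * t * (n i)⁻¹ * t = 1) ∨
      ∀ t ∈ T, t ∈ LL X (sr j) → n j * t * (n j)⁻¹ * t = 1)
    (hi : ∃ a ∈ T, ∀ x ∈ X (sr i), a * x * a⁻¹ = x → x = 1)
    (hj : ∃ a ∈ T, ∀ x ∈ X (sr j), a * x * a⁻¹ = x → x = 1) : HasKPair p Y :=
  ⟨_, _, _, _, kPair_of_rgd R hG hij hI hM hX hT hi hj, kTor_of_rgd R _ i j hci hcj hinv⟩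

/-- **`HasKPairSep`.** -/
theorem hasKPairSep_of_rgd [Finite Y] [Fact p.Prime] [IsSimpleGroup Y] (R : RGD cs h p T n X) (hG : G1 cs h X = ⊤)
    {i j : I} (hij : i ≠ j) (hI : ∀ k, k = i ∨ k = j) (hM : M i j ≠ 2)
    (hX : ∀ z, IsRoot cs h z → 0 ≤ z → z ≠ sr i → z ≠ sr j →
      X z ≤ ⁅Sup X (Pos cs h), Sup X (Pos cs h)⁆)
    (hT : ∀ x ∈ T, ∀ y ∈ T, x * y = y * x)
    (hci : IsCyclic ↥(T ⊓ LL X (sr i))) (hcj : IsCyclic ↥(T ⊓ LL X (sr j)))
    (hinv : (∀ t ∈ T, t ∈ LL X (sr i) → n i * t * (n i)⁻¹ * t = 1) ∨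
      ∀ t ∈ T, t ∈ LL X (sr j) → n j * t * (n j)⁻¹ * t = 1)
    (hi : ∃ a ∈ T, ∀ x ∈ X (sr i), a * x * a⁻¹ = x → x = 1)
    (hs : ∃ a ∈ T, (∀ x ∈ X (sr i), a * x * a⁻¹ = x) ∧ ∀ x ∈ X (sr j), a * x * a⁻¹ = x → x = 1) :
    HasKPairSep p Y := by
  obtain ⟨a, ha, h1, h2⟩ := hs
  exact ⟨_, _, _, _, kPair_of_rgd R hG hij hI hM hX hT hi ⟨a, ha, h2⟩, kTor_of_rgd R _ i j hci hcj hinv,
    Or.inl (kSep_of_rgd R _ i j ⟨a, ha, h1, h2⟩)⟩

end Cfsg.Agent.ParSys.Fam
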