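import Cfsg.Agent.ParSys.Fam.Rgd
import Cfsg.Agent.Nodes.RGDTypeA
import Cfsg.Agent.FixBN.PslGood

/-!
# THEOREM PAR: the groups `PSL₃(q)`, `q` even
-/

set_option autoImplicit false
set_option linter.unusedSectionVars false

namespace Cfsg.Agent.ParSys.Fam.L3

open Matrix CoxeterSystem Cfsg.Agent.ChevalleyStructure.CoxeterGeom Cfsg.Agent.Tits.Roots Cfsg.Agent.Tits.Core
  Cfsg.Agent.Tits.RootComb Cfsg.Agent.Nodes.Comb Cfsg.Agent.Nodes.Reps Cfsg.Agent.Nodes.BNOf Cfsg.Agent.Nodes.BNOf.RGD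
open Cfsg.Agent.Nodes.RGDLib Cfsg.Agent.Nodes.RootsA Cfsg.Agent.Nodes.RGDTypeA
open Cfsg.Agent.LieRecognition.BNCox (cA)
open Cfsg.Agent.LieClassical.SLGen
open Cfsg.Agent.TitsThree.KSideA (tv tv_of_ne tv_add tv_zero tv_neg tv_comm)
open scoped commutatorElement

variable {F : Type*} [Field F]

/-- the transvections are not central -/
theorem pr_tv_inj {a b : Fin 3} (hab : a ≠ b) {s t : F} (e : pr 2 F (tv a b s) = pr 2 F (tv a b t)) : s = t := by
  have h1 : tv a b (s - t) ∈ (pr 2 F).ker := by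
    rw [MonoidHom.mem_ker]
    have : tv a b (s - t) = tv a b s * (tv a b t)⁻¹ := by rw [← tv_neg, ← tv_add, sub_eq_add_neg]
    rw [this, map_mul, map_inv, e, mul_inv_cancel]
  rw [ker_pr] at h1
  by_contra hne
  have h3 := Subgroup.mem_center_iff.1 h1 (tv b a 1)
  have h4 := congrArg (fun g : SpecialLinearGroup (Fin 3) F =>
    (g • (Pi.single a 1 : Fin 3 → F)) a) h3
  rw [tv_of_ne hab, tv_of_ne hab.symm] at h4
  simp only [mul_smul, transvection_smul] at h4
  simp [hab, hab.symm] at h4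
  exact hne (sub_eq_zero.1 h4)

/-- conjugation of a transvection by an element of the torus -/
theorem conj_tv {g : SpecialLinearGroup (Fin 3) F} (hg : g ∈ T (Fin 3) F) {a b : Fin 3} (hab : a ≠ b) (t : F) :
    pr 2 F g * pr 2 F (tv a b t) * (pr 2 F g)⁻¹ = pr 2 F (tv a b (g.1 a a * t * (g.1 b b)⁻¹)) := by
  rw [← map_mul, ← map_inv, ← map_mul, (mem_T.1 hg).conj_tv hab]
  rfl

/-- An element of the torus with `g a a ≠ g b b` acts fixed-point-freely on `X a b`. -/
theorem fpf {g : SpecialLinearGroup (Fin 3) F} (hg : g ∈ T (Fin 3) F) {a b : Fin 3} (hab : a ≠ b)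
    (hne : g.1 a a ≠ g.1 b b) (x : ProjectiveSpecialLinearGroup (Fin 3) F) (hx : x ∈ (XX F a b).map (pr 2 F))
    (he : pr 2 F g * x * (pr 2 F g)⁻¹ = x) : x = 1 := by
  obtain ⟨_, ⟨t, rfl⟩, rfl⟩ := hx
  rw [conj_tv hg hab] at he
  have h1 := pr_tv_inj hab he
  have hb := (mem_T.1 hg).apply_ne_zero b
  have hb : g.1 b b ≠ 0 := hb
  have h2 : g.1 a a * t = t * g.1 b b := by
    field_simp at h1
    linear_combination h1
  have h3 : (g.1 a a - g.1 b b) * t = 0 := by linear_combination h2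
  rcases mul_eq_zero.1 h3 with h4 | h4
  · exact absurd (sub_eq_zero.1 h4) hne
  · rw [h4, tv_zero, map_one]

theorem fixes {g : SpecialLinearGroup (Fin 3) F} (hg : g ∈ T (Fin 3) F) {a b : Fin 3} (hab : a ≠ b)
    (heq : g.1 a a = g.1 b b) (x : ProjectiveSpecialLinearGroup (Fin 3) F) (hx : x ∈ (XX F a b).map (pr 2 F)) :
    pr 2 F g * x * (pr 2 F g)⁻¹ = x := by
  obtain ⟨_, ⟨t, rfl⟩, rfl⟩ := hx
  rw [conj_tv hg hab]
  have hb := (mem_T.1 hg).apply_ne_zero b
  have hb : g.1 b b ≠ 0 := hb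
  congr 2
  rw [heq]
  field_simp

variable {W : Type*} [Group W] (cs : CoxeterSystem (cA 2) W)

theorem X_zero : (X F (sr (0 : Fin 2))) = XX F (0 : Fin 3) 1 := X_sr 0

theorem X_one : (X F (sr (1 : Fin 2))) = XX F (1 : Fin 3) 2 := X_sr 1

/-- the non-simple positive root group is a commutator -/
theorem hX [Finite F] (z : Fin 2 → ℤ) (hz : IsRoot cs (isCartan 2) z) (h0 : 0 ≤ z) (h1 : z ≠ sr 0) (h2 : z ≠ sr 1) :
    (X F z).map (pr 2 F) ≤ ⁅Sup (fun x => (X F x).map (pr 2 F)) (Pos cs (isCartan 2)),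
      Sup (fun x => (X F x).map (pr 2 F)) (Pos cs (isCartan 2))⁆ := by
  obtain ⟨a, b, hab, rfl⟩ := exists_of_isRoot cs (isCartan 2) hz
  rw [rtA_nonneg_iff] at h0
  have hlt : a < b := lt_of_le_of_ne h0 hab
  have hs0 : rtA (0 : Fin 3) 1 = sr (0 : Fin 2) := rtA_sr 0
  have hs1 : rtA (1 : Fin 3) 2 = sr (1 : Fin 2) := rtA_sr 1
  have hcase : a = 0 ∧ b = 2 := by
    fin_cases a <;> fin_cases b <;> simp at hlt hab ⊢
    · exact h1 hs0
    · exact h2 hs1
  obtain ⟨rfl, rfl⟩ := hcase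
  rw [X_rtA (by decide)]
  rintro _ ⟨_, ⟨t, rfl⟩, rfl⟩
  have h3 : pr 2 F (tv (0 : Fin 3) 2 t) = ⁅pr 2 F (tv (0 : Fin 3) 1 t), pr 2 F (tv (1 : Fin 3) 2 1)⁆ := by
    rw [← map_commutatorElement, tv_comm (by decide) (by decide) (by decide), mul_one]
  rw [h3]
  refine Subgroup.commutator_mem_commutator ?_ ?_
  · refine le_Sup (X := fun x => (X F x).map (pr 2 F)) (S := Pos cs (isCartan 2))
      ⟨isRoot_sr cs _ 0, sr_nonneg 0⟩ ⟨_, ?_, rfl⟩
    rw [X_zero]; exact tv_mem_XX _ _ _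
  · refine le_Sup (X := fun x => (X F x).map (pr 2 F)) (S := Pos cs (isCartan 2))
      ⟨isRoot_sr cs _ 1, sr_nonneg 1⟩ ⟨_, ?_, rfl⟩
    rw [X_one]; exact tv_mem_XX _ _ _

theorem val_diag (a : F) (ha : a ≠ 0) :
    (SpecialLinearGroup.diag2n (show (0 : Fin 3) ≠ 1 by decide) a ha).1 0 0 = a ∧
    (SpecialLinearGroup.diag2n (show (0 : Fin 3) ≠ 1 by decide) a ha).1 1 1 = a⁻¹ ∧
    (SpecialLinearGroup.diag2n (show (0 : Fin 3) ≠ 1 by decide) a ha).1 2 2 = 1 := by
  refine ⟨?_, ?_, ?_⟩ <;> rw [SpecialLinearGroup.diag2n_coe, Matrix.diagonal_apply_eq] <;> simp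

theorem val_diag' (a : F) (ha : a ≠ 0) :
    (SpecialLinearGroup.diag2n (show (1 : Fin 3) ≠ 2 by decide) a ha).1 0 0 = 1 ∧
    (SpecialLinearGroup.diag2n (show (1 : Fin 3) ≠ 2 by decide) a ha).1 1 1 = a ∧
    (SpecialLinearGroup.diag2n (show (1 : Fin 3) ≠ 2 by decide) a ha).1 2 2 = a⁻¹ := by
  refine ⟨?_, ?_, ?_⟩ <;> rw [SpecialLinearGroup.diag2n_coe, Matrix.diagonal_apply_eq] <;> simp

theorem mul_val {g k : SpecialLinearGroup (Fin 3) F} (hg : g ∈ T (Fin 3) F) (a : Fin 3) :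
    (g * k).1 a a = g.1 a a * k.1 a a := by
  change (g.1 * k.1) a a = _
  rw [Matrix.mul_apply, Finset.sum_eq_single a]
  · intro b _ hb
    have h1 : g.1 a b = 0 := by
      by_contra h2
      exact hb ((mem_T.1 hg) a b h2).symm
    rw [h1, zero_mul]
  · intro h; exact absurd (Finset.mem_univ _) h

/-- a torus element which is fixed-point-free on both simple root groups -/
theorem exists_fpf [CharP F 2] (hF : ∃ a : F, a ≠ 0 ∧ a ≠ 1) :
    ∃ g ∈ T (Fin 3) F, g.1 0 0 ≠ g.1 1 1 ∧ g.1 1 1 ≠ g.1 2 2 := by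
  obtain ⟨a, ha, ha1⟩ := hF
  refine ⟨_, diag_mem_T (show (0 : Fin 3) ≠ 1 by decide) ha, ?_, ?_⟩
  · rw [(val_diag a ha).1, (val_diag a ha).2.1]
    intro e
    apply ha1
    have h2 : (2 : F) = 0 := CharTwo.two_eq_zero
    have h1 : a * a = 1 := by
      conv_lhs => rw [show a * a = a * a from rfl]
      nth_rewrite 2 [e]
      exact mul_inv_cancel₀ ha
    have h3 : (a - 1) * (a - 1) = 0 := by linear_combination h1 - (a - 1) * h2
    exact sub_eq_zero.1 (mul_self_eq_zero.1 h3)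
  · rw [(val_diag a ha).2.1, (val_diag a ha).2.2]
    intro e
    exact ha1 (inv_eq_one.1 e)

/-- a torus element which centralises the first simple root group and is fixed-point-free on the second one -/
theorem exists_sep (hF : ∃ a : F, a ≠ 0 ∧ a ^ 3 ≠ 1) :
    ∃ g ∈ T (Fin 3) F, g.1 0 0 = g.1 1 1 ∧ g.1 1 1 ≠ g.1 2 2 := by
  obtain ⟨a, ha, ha3⟩ := hF
  have hT := diag_mem_T (F := F) (show (0 : Fin 3) ≠ 1 by decide) ha
  refine ⟨_, mul_mem hT (diag_mem_T (show (1 : Fin 3) ≠ 2 by decide) (pow_ne_zero 2 ha)), ?_, ?_⟩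
  · rw [mul_val hT, mul_val hT, (val_diag a ha).1, (val_diag a ha).2.1, (val_diag' _ _).1, (val_diag' _ _).2.1]
    field_simp
  · rw [mul_val hT, mul_val hT, (val_diag a ha).2.1, (val_diag a ha).2.2, (val_diag' _ _).2.1, (val_diag' _ _).2.2]
    intro e
    apply ha3
    field_simp at e
    linear_combination e

/-! ### The rank one tori -/

open Cfsg.Agent.Nodes.FreeTorus in
/-- `⟨X_{ab}, X_{ba}⟩` fixes `e_c`. -/
theorem LL_fix {a b c : Fin 3} (hac : c ≠ a) (hbc : c ≠ b) {g : SpecialLinearGroup (Fin 3) F}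
    (hg : g ∈ XX F a b ⊔ XX F b a) (k : Fin 3) : g.1 k c = if k = c then 1 else 0 := by
  have h0 : ∀ x y : Fin 3, c ≠ y → x ≠ y → ∀ t : F, (tv x y t) • (Pi.single c 1 : Fin 3 → F) = Pi.single c 1 := by
    intro x y hy hxy t
    rw [tv_of_ne hxy, transvection_smul]
    simp [hy]
  have h1 : XX F a b ⊔ XX F b a ≤ MulAction.stabilizer (SpecialLinearGroup (Fin 3) F) (Pi.single c 1 : Fin 3 → F) := by
    refine sup_le ?_ ?_
    · rintro _ ⟨t, rfl⟩
      rw [MulAction.mem_stabilizer_iff]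
      by_cases hab : a = b
      · subst hab
        simp [tv]
      · exact h0 a b hbc hab t
    · rintro _ ⟨t, rfl⟩
      rw [MulAction.mem_stabilizer_iff]
      by_cases hab : b = a
      · subst hab
        simp [tv]
      · exact h0 b a hac hab t
  have h2 := h1 hg
  rw [MulAction.mem_stabilizer_iff] at h2
  rw [apply_eq_smul, h2, Pi.single_apply]

theorem mul_left_apply {g k : SpecialLinearGroup (Fin 3) F} (hg : g ∈ T (Fin 3) F) (a b : Fin 3) :
    (g * k).1 a b = g.1 a a * k.1 a b := by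
  change (g.1 * k.1) a b = _
  rw [Matrix.mul_apply, Finset.sum_eq_single a]
  · intro c _ hc
    have h1 : g.1 a c = 0 := by
      by_contra h2
      exact hc ((mem_T.1 hg) a c h2).symm
    rw [h1, zero_mul]
  · intro h; exact absurd (Finset.mem_univ _) h

theorem mul_right_apply {g k : SpecialLinearGroup (Fin 3) F} (hk : k ∈ T (Fin 3) F) (a b : Fin 3) :
    (g * k).1 a b = g.1 a b * k.1 b b := by
  change (g.1 * k.1) a b = _
  rw [Matrix.mul_apply, Finset.sum_eq_single b]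
  · intro c _ hc
    have h1 : k.1 c b = 0 := by
      by_contra h2
      exact hc ((mem_T.1 hk) c b h2)
    rw [h1, mul_zero]
  · intro h; exact absurd (Finset.mem_univ _) h

theorem diag_prod {g : SpecialLinearGroup (Fin 3) F} (hg : g ∈ T (Fin 3) F) : g.1 0 0 * g.1 1 1 * g.1 2 2 = 1 := by
  have h1 : g.1 = Matrix.diagonal fun a => g.1 a a := by
    ext a b
    rw [Matrix.diagonal_apply]
    split_ifs with h
    · rw [h]
    · by_contra h0
      exact h ((mem_T.1 hg) a b h0)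
  have h2 := g.2
  rw [h1, Matrix.det_diagonal, Fin.prod_univ_three] at h2
  exact h2

theorem T_ext {g k : SpecialLinearGroup (Fin 3) F} (hg : g ∈ T (Fin 3) F) (hk : k ∈ T (Fin 3) F)
    (h : ∀ a, g.1 a a = k.1 a a) : g = k := by
  apply Subtype.ext
  ext a b
  by_cases hab : a = b
  · rw [hab]; exact h b
  · have h1 : g.1 a b = 0 := by
      by_contra h0
      exact hab ((mem_T.1 hg) a b h0)
    have h2 : k.1 a b = 0 := by
      by_contra h0
      exact hab ((mem_T.1 hk) a b h0)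
    rw [h1, h2]

/-- the rank one torus at `a`, `b`: the third diagonal entry is one, the product of the two others is one -/
theorem TLL {a b c : Fin 3} (hab : a ≠ b) (hac : c ≠ a) (hbc : c ≠ b) {g : SpecialLinearGroup (Fin 3) F}
    (hgT : g ∈ T (Fin 3) F) (hg : g ∈ XX F a b ⊔ XX F b a) : g.1 c c = 1 ∧ g.1 a a * g.1 b b = 1 := by
  have h1 := LL_fix hac hbc hg c
  rw [if_pos rfl] at h1
  have h2 := diag_prod hgT
  refine ⟨h1, ?_⟩
  fin_cases a <;> fin_cases b <;> fin_cases c <;> simp at hab hac hbc h1 ⊢ <;> rw [h1] at h2 <;> linear_combination h2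

theorem cyc [Finite F] {a b c : Fin 3} (hab : a ≠ b) (hac : c ≠ a) (hbc : c ≠ b) :
    IsCyclic ↥(T (Fin 3) F ⊓ (XX F a b ⊔ XX F b a)) := by
  have : Finite (SpecialLinearGroup (Fin 3) F) := Subtype.finite
  let f : ↥(T (Fin 3) F ⊓ (XX F a b ⊔ XX F b a)) →* F :=
    { toFun := fun g => g.1.1 a a
      map_one' := by
        show (1 : SpecialLinearGroup (Fin 3) F).1 a a = 1
        simp
      map_mul' := fun g k => mul_left_apply (Subgroup.mem_inf.1 g.2).1 a a }
  refine isCyclic_of_injective_ringHom f ?_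
  rintro ⟨g, hg⟩ ⟨k, hk⟩ (e : g.1 a a = k.1 a a)
  rw [Subgroup.mem_inf] at hg hk
  obtain ⟨h1, h2⟩ := TLL hab hac hbc hg.1 hg.2
  obtain ⟨h3, h4⟩ := TLL hab hac hbc hk.1 hk.2
  apply Subtype.ext
  refine T_ext hg.1 hk.1 fun d => ?_
  have hd : d = a ∨ d = b ∨ d = c := by
    fin_cases a <;> fin_cases b <;> fin_cases c <;> fin_cases d <;> simp at hab hac hbc ⊢
  have h5 : g.1 b b = k.1 b b := by
    have h6 : k.1 a a ≠ 0 := fun h0 => by rw [h0, zero_mul] at h4; exact zero_ne_one h4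
    apply mul_left_cancel₀ h6
    rw [h4, ← e, h2]
  rcases hd with rfl | rfl | rfl
  · exact e
  · exact h5
  · rw [h1, h3]

theorem inv {a b c : Fin 3} (hab : a ≠ b) (hac : c ≠ a) (hbc : c ≠ b) {m : SpecialLinearGroup (Fin 3) F}
    (hm : Mono (Equiv.swap a b) m) {t : SpecialLinearGroup (Fin 3) F} (ht : t ∈ T (Fin 3) F)
    (htL : t ∈ XX F a b ⊔ XX F b a) : m * t * m⁻¹ * t = 1 := by
  have hmt : m * t * m⁻¹ ∈ T (Fin 3) F := (Subgroup.mem_normalizer_iff.1 hm.mem_normalizer t).1 ht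
  obtain ⟨h1, h2⟩ := TLL hab hac hbc ht htL
  have key : ∀ d, (m * t * m⁻¹).1 (Equiv.swap a b d) (Equiv.swap a b d) = t.1 d d := by
    intro d
    have e : m * t * m⁻¹ * m = m * t := by group
    have e1 : (m * t * m⁻¹ * m).1 (Equiv.swap a b d) d = (m * t).1 (Equiv.swap a b d) d := by rw [e]
    rw [mul_left_apply hmt, mul_right_apply ht, mul_comm] at e1
    exact mul_left_cancel₀ (hm.apply_ne_zero d) e1
  refine T_ext (mul_mem hmt ht) (one_mem _) fun d => ?_
  rw [mul_left_apply hmt]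
  have hd : d = a ∨ d = b ∨ d = c := by
    fin_cases a <;> fin_cases b <;> fin_cases c <;> fin_cases d <;> simp at hab hac hbc ⊢
  have e1 : (1 : SpecialLinearGroup (Fin 3) F).1 d d = 1 := by simp
  rw [e1]
  rcases hd with rfl | rfl | rfl
  · have := key b
    rw [Equiv.swap_apply_right] at this
    rw [this, mul_comm, h2]
  · have := key a
    rw [Equiv.swap_apply_left] at this
    rw [this, h2]
  · have := key d
    rw [Equiv.swap_apply_of_ne_of_ne hac hbc] at this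
    rw [this, h1, one_mul]

end Cfsg.Agent.ParSys.Fam.L3

namespace Cfsg.Agent.ParSys.Fam.L3

open Matrix CoxeterSystem Cfsg.Agent.ChevalleyStructure.CoxeterGeom Cfsg.Agent.Tits.Roots Cfsg.Agent.Tits.Core
  Cfsg.Agent.Tits.RootComb Cfsg.Agent.Nodes.Comb Cfsg.Agent.Nodes.Reps Cfsg.Agent.Nodes.BNOf Cfsg.Agent.Nodes.BNOf.RGD
open Cfsg.Agent.Nodes.RGDLib Cfsg.Agent.Nodes.RootsA Cfsg.Agent.Nodes.RGDTypeA
open Cfsg.Agent.LieRecognition.BNCox (cA)

variable {F : Type*} [Field F]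

theorem hI (k : Fin 2) : k = 0 ∨ k = 1 := by fin_cases k <;> simp

theorem hM : (cA 2) 0 1 ≠ 2 := by decide

open Cfsg.Agent.Nodes.FreeTorus

theorem LL_zero : LL (X F) (sr (0 : Fin 2)) = XX F (0 : Fin 3) 1 ⊔ XX F (1 : Fin 3) 0 := by
  unfold LL
  rw [X_sr, X_neg_sr]
  rfl

theorem LL_one : LL (X F) (sr (1 : Fin 2)) = XX F (1 : Fin 3) 2 ⊔ XX F (2 : Fin 3) 1 := by
  unfold LL
  rw [X_sr, X_neg_sr]
  rfl

theorem ker_le : (pr 2 F).ker ≤ T (Fin 3) F := by
  rw [ker_pr]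
  intro g hg
  obtain ⟨r, -, h3⟩ := Matrix.SpecialLinearGroup.mem_center_iff.1 hg
  intro a b hab
  by_contra hne
  have hne : a ≠ b := hne
  apply hab
  rw [← h3, Matrix.scalar_apply, Matrix.diagonal_apply_ne _ hne]

theorem hci [Finite F] : IsCyclic ↥((T (Fin 3) F).map (pr 2 F) ⊓ LL (fun z => (X F z).map (pr 2 F)) (sr (0 : Fin 2))) := by
  refine isCyclic_TLL_map (pr 2 F) ker_le ?_
  rw [LL_zero]
  exact cyc (c := 2) (by decide) (by decide) (by decide)

theorem hcj [Finite F] : IsCyclic ↥((T (Fin 3) F).map (pr 2 F) ⊓ LL (fun z => (X F z).map (pr 2 F)) (sr (1 : Fin 2))) := by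
  refine isCyclic_TLL_map (pr 2 F) ker_le ?_
  rw [LL_one]
  exact cyc (c := 0) (by decide) (by decide) (by decide)

theorem hinv : ∀ t ∈ (T (Fin 3) F).map (pr 2 F), t ∈ LL (fun z => (X F z).map (pr 2 F)) (sr (0 : Fin 2)) →
    pr 2 F (ns 2 F 0) * t * (pr 2 F (ns 2 F 0))⁻¹ * t = 1 := by
  refine Fam.inv_TLL_map (pr 2 F) ker_le ?_
  intro t ht htL
  rw [LL_zero] at htL
  exact inv (c := 2) (by decide) (by decide) (by decide) (mono_ns 0) ht htL

theorem hT : ∀ x ∈ (T (Fin 3) F).map (pr 2 F), ∀ y ∈ (T (Fin 3) F).map (pr 2 F), x * y = y * x := by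
  rintro _ ⟨x, hx, rfl⟩ _ ⟨y, hy, rfl⟩
  rw [← map_mul, ← map_mul, FixBN.PslGood.torus_comm hx hy]

/-- **`PSL₃(q)`, `q ≥ 4` even** -/
theorem hasKPair [Finite F] [CharP F 2] (hF : 4 ≤ Nat.card F) :
    HasKPair 2 (ProjectiveSpecialLinearGroup (Fin 3) F) := by
  classical
  have : Fact (Nat.Prime 2) := ⟨Nat.prime_two⟩
  have : Finite (cA 2).Group := finite_W (cA 2).toCoxeterSystem (isCartan 2)
  have : Finite (ProjectiveSpecialLinearGroup (Fin 3) F) := Quotient.finite _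
  have : IsSimpleGroup (ProjectiveSpecialLinearGroup (Fin 3) F) := TitsThree.KSideA.isSimpleGroup le_rfl
  have R := rgd_psl (F := F) (p := 2) (cA 2).toCoxeterSystem (isCartan 2)
  have hG := G1_psl_eq_top (F := F) (cA 2).toCoxeterSystem (isCartan 2)
  have hF' : ∃ a : F, a ≠ 0 ∧ a ≠ 1 := by
    by_contra hcon
    push Not at hcon
    have : Fintype F := Fintype.ofFinite F
    have h1 : (Finset.univ : Finset F) ⊆ {0, 1} := by
      intro a _
      by_cases ha : a = 0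
      · simp [ha]
      · simp [hcon a ha]
    have h2 := Finset.card_le_card h1
    have h3 : ({0, 1} : Finset F).card ≤ 2 := Finset.card_le_two
    rw [Finset.card_univ, ← Nat.card_eq_fintype_card] at h2
    omega
  obtain ⟨g, hg, h1, h2⟩ := exists_fpf hF'
  exact hasKPair_of_rgd R hG (i := 0) (j := 1) (by decide) hI hM
    (fun z hz h0 h1 h2 => hX (cA 2).toCoxeterSystem z hz h0 h1 h2) hT hci hcj (Or.inl hinv)
    ⟨_, ⟨g, hg, rfl⟩, fun x hx he => fpf hg (by decide) h1 x (by rw [← X_zero]; exact hx) he⟩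
    ⟨_, ⟨g, hg, rfl⟩, fun x hx he => fpf hg (by decide) h2 x (by rw [← X_one]; exact hx) he⟩

/-- **`PSL₃(q)`, `q ≥ 8` even** -/
theorem hasKPairSep [Finite F] [CharP F 2] (hF : 4 < Nat.card F) :
    HasKPairSep 2 (ProjectiveSpecialLinearGroup (Fin 3) F) := by
  classical
  have : Fact (Nat.Prime 2) := ⟨Nat.prime_two⟩
  have : Finite (cA 2).Group := finite_W (cA 2).toCoxeterSystem (isCartan 2)
  have : Finite (ProjectiveSpecialLinearGroup (Fin 3) F) := Quotient.finite _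
  have : IsSimpleGroup (ProjectiveSpecialLinearGroup (Fin 3) F) := TitsThree.KSideA.isSimpleGroup le_rfl
  have R := rgd_psl (F := F) (p := 2) (cA 2).toCoxeterSystem (isCartan 2)
  have hG := G1_psl_eq_top (F := F) (cA 2).toCoxeterSystem (isCartan 2)
  have hF' : ∃ a : F, a ≠ 0 ∧ a ^ 3 ≠ 1 := by
    by_contra hcon
    push Not at hcon
    have : Fintype F := Fintype.ofFinite F
    have h1 : ∀ a : F, (Polynomial.X ^ 4 - Polynomial.X : Polynomial F).eval a = 0 := by
      intro a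
      by_cases ha : a = 0
      · simp [ha]
      · have := hcon a ha
        simp only [Polynomial.eval_sub, Polynomial.eval_pow, Polynomial.eval_X]
        linear_combination a * this
    have hne : (Polynomial.X ^ 4 - Polynomial.X : Polynomial F) ≠ 0 := by
      intro h0
      have h5 := congrArg (fun q => Polynomial.coeff q 4) h0
      simp [Polynomial.coeff_X] at h5
    have h2 : (Finset.univ : Finset F) ⊆ (Polynomial.X ^ 4 - Polynomial.X : Polynomial F).roots.toFinset := by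
      intro a _
      rw [Multiset.mem_toFinset, Polynomial.mem_roots hne]
      exact h1 a
    have h3 := Finset.card_le_card h2
    have h4 := (Multiset.toFinset_card_le _).trans
      (Polynomial.card_roots' (Polynomial.X ^ 4 - Polynomial.X : Polynomial F))
    have h5 : (Polynomial.X ^ 4 - Polynomial.X : Polynomial F).natDegree ≤ 4 := by compute_degree
    rw [Finset.card_univ, ← Nat.card_eq_fintype_card] at h3
    omega
  have hF1 : ∃ a : F, a ≠ 0 ∧ a ≠ 1 := by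
    obtain ⟨a, h0, h3⟩ := hF'
    exact ⟨a, h0, fun e => h3 (by rw [e, one_pow])⟩
  obtain ⟨g, hg, h1, -⟩ := exists_fpf hF1
  obtain ⟨k, hk, h3, h4⟩ := exists_sep hF'
  exact hasKPairSep_of_rgd R hG (i := 0) (j := 1) (by decide) hI hM
    (fun z hz h0 h1 h2 => hX (cA 2).toCoxeterSystem z hz h0 h1 h2) hT hci hcj (Or.inl hinv)
    ⟨_, ⟨g, hg, rfl⟩, fun x hx he => fpf hg (by decide) h1 x (by rw [← X_zero]; exact hx) he⟩
    ⟨_, ⟨k, hk, rfl⟩, fun x hx => fixes hk (by decide) h3 x (by rw [← X_zero]; exact hx),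
      fun x hx he => fpf hk (by decide) h4 x (by rw [← X_one]; exact hx) he⟩

end Cfsg.Agent.ParSys.Fam.L3
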