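import Cfsg.Agent.ParSys.LiePair
import Cfsg.Agent.FixBN.OfRGD
import Cfsg.Agent.FixBN.NodeRGD
import Cfsg.Agent.MinSimple.SelfCentFour

/-!
# (F1) over root group data

`fone_of_comm`: if the root groups of the non-simple positive roots are in the commutator subgroup of `U`, then
(F1) (`ParSys.FOne`) holds for the (B,N)-pair of a root group datum of rank two, characteristic 2.
-/

set_option autoImplicit false
set_option linter.unusedSectionVars false

namespace Cfsg.Agent.ParSys.Fam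

open CoxeterSystem Cfsg.Agent.ChevalleyStructure.CoxeterGeom Cfsg.Agent.Tits.Roots Cfsg.Agent.Tits.Core
  Cfsg.Agent.Tits.RootComb Cfsg.Agent.Nodes.Comb Cfsg.Agent.Nodes.Reps Cfsg.Agent.Nodes.BNOf
open Cfsg.Agent.Nodes.BNOf.RGD
open scoped commutatorElement

/-- the Frattini argument for a 2-subgroup `U` -/
theorem le_of_cover {Y : Type*} [Group Y] [Finite Y] {U S : Subgroup Y} (hU : IsPGroup 2 U) (hS : S ≤ U)
    (h : ∀ u ∈ U, ∃ x ∈ S, x⁻¹ * u ∈ ⁅U, U⁆) : U ≤ S := by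
  have h1 : S.subgroupOf U ⊔ commutator ↥U = ⊤ := by
    rw [eq_top_iff]
    rintro ⟨u, hu⟩ -
    obtain ⟨x, hx, hxu⟩ := h u hu
    have h2 : (⟨x, hS hx⟩ : ↥U)⁻¹ * ⟨u, hu⟩ ∈ commutator ↥U := by
      have h3 : (commutator ↥U).map U.subtype = ⁅U, U⁆ := by
        rw [commutator_def, Subgroup.map_commutator, ← MonoidHom.range_eq_map, Subgroup.range_subtype]
      rw [← h3] at hxu
      obtain ⟨y, hy, e⟩ := hxu
      have e2 : y = (⟨x, hS hx⟩ : ↥U)⁻¹ * ⟨u, hu⟩ := Subtype.ext e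
      rwa [← e2]
    have h4 : (⟨u, hu⟩ : ↥U) = ⟨x, hS hx⟩ * ((⟨x, hS hx⟩ : ↥U)⁻¹ * ⟨u, hu⟩) := by group
    rw [h4]
    exact mul_mem (Subgroup.mem_sup_left (Subgroup.mem_subgroupOf.2 hx)) (Subgroup.mem_sup_right h2)
  have h2 := MinSimple.SelfCentFour.eq_top_of_sup hU h1
  exact Subgroup.subgroupOf_eq_top.1 h2

variable {I W Y : Type*} [Fintype I] [DecidableEq I] [Group W] [Finite W] [Group Y] [Finite Y] {M : CoxeterMatrix I}
  {cs : CoxeterSystem M W} {A : I → I → ℤ} {h : IsCartan M A} {p : ℕ} {T : Subgroup Y} {n : I → Y}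
  {X : (I → ℤ) → Subgroup Y}

/-- the non-simple positive roots -/
def PosNS (cs : CoxeterSystem M W) (h : IsCartan M A) : Set (I → ℤ) := {x | IsRoot cs h x ∧ 0 ≤ x ∧ ∀ i, x ≠ sr i}

/-- the nodes stabilise `V_i` only -/
theorem mem_V_of_stab (R : RGD cs h p T n X) (i : I) {u : Y} (hu : u ∈ Sup X (Pos cs h))
    (hus : (n i)⁻¹ * u * n i ∈ B cs h T X) : u ∈ Sup X (PosNe cs h i) := by
  have hVU : Sup X (PosNe cs h i) ≤ Sup X (Pos cs h) := Sup_mono fun z hz => ⟨hz.1, hz.2.1⟩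
  have hconj_s : ∀ v ∈ Sup X (PosNe cs h i), (n i)⁻¹ * v * n i ∈ Sup X (PosNe cs h i) := fun v hv =>
    FixBN.NodeRGD.conj_V_mem R i hv
  rw [R.Upos_eq i, sup_comm] at hu
  have h1 : u ∈ ((Sup X (PosNe cs h i) ⊔ X (sr i) : Subgroup Y) : Set Y) := hu
  rw [Subgroup.coe_mul_of_right_le_normalizer_left _ _ (R.X_le_normalizer_V i), Set.mem_mul] at h1
  obtain ⟨v, hv, x, hx, rfl⟩ := h1
  have h2 : (n i)⁻¹ * x * n i = ((n i)⁻¹ * v * n i)⁻¹ * ((n i)⁻¹ * (v * x) * n i) := by group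
  have h3 : (n i)⁻¹ * x * n i ∈ B cs h T X := by
    rw [h2]
    exact mul_mem (inv_mem (U_le_B (hVU (hconj_s v hv)))) hus
  have h4 : (n i)⁻¹ * x * n i ∈ X (-sr i) := by
    have := R.conj_mem' (rp_simple cs R.nsys i) (isRoot_sr cs h i) hx
    rwa [inv_simple, rep_simple_sr] at this
  have h5 : (n i)⁻¹ * x * n i = 1 := by
    by_contra hne
    exact FixBN.NodeRGD.not_mem_B_of_neg R i h4 hne h3
  have h6 : x = n i * ((n i)⁻¹ * x * n i) * (n i)⁻¹ := by group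
  rw [h6, h5, mul_one, mul_inv_cancel, mul_one]
  exact hv

/-- the simple root groups meet `V_i` trivially -/
theorem eq_one_of_mem_V (R : RGD cs h p T n X) (i : I) {x : Y} (hx : x ∈ X (sr i)) (hV : x ∈ Sup X (PosNe cs h i)) :
    x = 1 := by
  have h1 := FixBN.NodeRGD.conj_V_mem R i hV
  have hVU : Sup X (PosNe cs h i) ≤ Sup X (Pos cs h) := Sup_mono fun z hz => ⟨hz.1, hz.2.1⟩
  have h4 : (n i)⁻¹ * x * n i ∈ X (-sr i) := by
    have := R.conj_mem' (rp_simple cs R.nsys i) (isRoot_sr cs h i) hx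
    rwa [inv_simple, rep_simple_sr] at this
  have h5 : (n i)⁻¹ * x * n i = 1 := by
    by_contra hne
    exact FixBN.NodeRGD.not_mem_B_of_neg R i h4 hne (U_le_B (hVU h1))
  have h6 : x = n i * ((n i)⁻¹ * x * n i) * (n i)⁻¹ := by group
  rw [h6, h5, mul_one, mul_inv_cancel]

/-- `V_i ∩ V_j` is generated by the root groups of the non-simple positive roots (rank two). -/
theorem inf_V (R : RGD cs h p T n X) {i j : I} (hij : i ≠ j) (hI : ∀ k, k = i ∨ k = j) {x : Y}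
    (hi : x ∈ Sup X (PosNe cs h i)) (hj : x ∈ Sup X (PosNe cs h j)) : x ∈ Sup X (PosNS cs h) := by
  have e : Sup X (PosNe cs h i) ≤ Sup X (PosNS cs h) ⊔ X (sr j) := Sup_le fun z hz => by
    by_cases hz0 : z = sr j
    · rw [hz0]; exact le_sup_right
    · refine le_trans (le_Sup (S := PosNS cs h) ⟨hz.1, hz.2.1, fun k => ?_⟩) le_sup_left
      rcases hI k with rfl | rfl
      · exact hz.2.2
      · exact hz0
  have hN : X (sr j) ≤ Subgroup.normalizer (Sup X (PosNS cs h) : Set Y) := by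
    refine R.le_normalizer (isRoot_sr cs h j) ?_
    rintro y ⟨hy, hy0, hyi⟩
    refine ⟨hy, Or.inr ⟨?_, ?_⟩⟩
    · intro h1
      have h2 := congrFun h1 j
      rw [sr_self, Pi.neg_apply] at h2
      have h3 := hy0 j
      have h4 : (0 : ℤ) ≤ y j := h3
      omega
    · intro z hz
      refine ⟨hz.1, nonneg_of_btwn (sr_nonneg j) hy0 hz, fun k => ?_⟩
      exact ne_sr_of_btwn (sr_nonneg j) hy hy0 (hyi k) hz
  have h1 : x ∈ ((Sup X (PosNS cs h) ⊔ X (sr j) : Subgroup Y) : Set Y) := e hi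
  rw [Subgroup.coe_mul_of_right_le_normalizer_left _ _ hN, Set.mem_mul] at h1
  obtain ⟨v, hv, y, hy, rfl⟩ := h1
  have hvj : v ∈ Sup X (PosNe cs h j) := 
    (Sup_mono (X := X) (S := PosNS cs h) (S' := PosNe cs h j) fun z hz => ⟨hz.1, hz.2.1, hz.2.2 j⟩) hv
  have h2 : y ∈ Sup X (PosNe cs h j) := by
    have := mul_mem (inv_mem hvj) hj
    rwa [inv_mul_cancel_left] at this
  rw [eq_one_of_mem_V R j hy h2, mul_one]
  exact hv

/-- **(F1) for a root group datum of rank two.** -/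
theorem fone_of_comm (R : RGD cs h 2 T n X) (hgen : B cs h T X ⊔ NN cs R.nsys = ⊤) {i j : I} (hij : i ≠ j)
    (hI : ∀ k, k = i ∨ k = j)
    (hc : ∀ z ∈ PosNS cs h, X z ≤ ⁅Sup X (Pos cs h), Sup X (Pos cs h)⁆) :
    FOne (R.bnPair hgen) (Sup X (Pos cs h)) (n i) (n j) := by
  intro S hS hcov
  refine le_of_cover R.isPGroup_Upos hS fun u hu => ?_
  obtain ⟨x, hx, h1, h2⟩ := hcov u hu
  refine ⟨x, hx, ?_⟩
  have h3 : x⁻¹ * u ∈ Sup X (Pos cs h) := mul_mem (inv_mem (hS hx)) hu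
  exact (Sup_le hc) (inf_V R hij hI (mem_V_of_stab R i h3 h1) (mem_V_of_stab R j h3 h2))

end Cfsg.Agent.ParSys.Fam
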