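import Cfsg.Agent.ParSys.Fam.Unitary
import Cfsg.Agent.FixBN.WittNodeC

/-!
# THEOREM PAR: the groups `PSp₄(q)`, `q ≥ 4` even
-/

set_option autoImplicit false
set_option linter.unusedSectionVars false

namespace Cfsg.Agent.ParSys.Fam.Sp4

open Cfsg CoxeterSystem Cfsg.Agent.ChevalleyStructure.CoxeterGeom Cfsg.Agent.Tits.Roots
open Cfsg.Agent.Nodes.Comb Cfsg.Agent.Nodes.Reps Cfsg.Agent.Nodes.BNOf Cfsg.Agent.Nodes.BNOf.RGD
open Cfsg.Agent.TitsThree Cfsg.Agent.TitsThree.Siegel Cfsg.Agent.TitsThree.WittFrame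
  Cfsg.Agent.TitsThree.WittWeyl Cfsg.Agent.TitsThree.FrameCN Cfsg.Agent.TitsThree.SpIdent Cfsg.Agent.TitsThree.SpGen
open Cfsg.Agent.Nodes.TypeC Cfsg.Agent.Nodes.WittRoot Cfsg.Agent.Nodes.WittRGD Cfsg.Agent.Nodes.RGDLib
  Cfsg.Agent.Nodes.FreeTorus Cfsg.Agent.Nodes.WittU

variable {F : Type*} [Field F]

theorem der (hF : ∃ a : F, a ≠ 0 ∧ a ≠ 1) : Witt.Der (frame 2 F) :=
  Witt.der_sp (fun _ => rfl) (fun p => p.ok) (fun _ => rfl) hF

theorem isSimple [Finite F] (hF : 4 ≤ Nat.card F) : IsSimpleGroup (PSp 2 F) := by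
  have : Fintype F := Fintype.ofFinite F
  rw [Nat.card_eq_fintype_card] at hF
  exact Cfsg.Agent.S0270.result 2 le_rfl (fun _ => by omega)

theorem exists_ne [Finite F] (hF : 4 ≤ Nat.card F) : ∃ a : F, a ≠ 0 ∧ a ≠ 1 := by
  classical
  by_contra hcon
  push Not at hcon
  have : Fintype F := Fintype.ofFinite F
  have h1 : (Finset.univ : Finset F) ⊆ {0, 1} := by
    intro a _
    by_cases ha : a = 0
    · simp [ha]
    · simp [hcon a ha]
  have h2 := Finset.card_le_card h1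
  have h3 : ({0, 1} : Finset F).card ≤ 2 := Finset.card_le_two
  rw [Finset.card_univ, ← Nat.card_eq_fintype_card] at h2
  omega

/-- **`PSp₄(q)`, `q ≥ 4` even** -/
theorem hasKPairSep [Finite F] [CharP F 2] (hF : 4 ≤ Nat.card F) : HasKPairSep 2 (PSp 2 F) := by
  have : Fact (Nat.Prime 2) := ⟨Nat.prime_two⟩
  have : Finite (PSp 2 F) := Quotient.finite _
  have : IsSimpleGroup (PSp 2 F) := isSimple hF
  obtain ⟨a, ha0, ha1⟩ := exists_ne hF
  have h2 : (2 : F) = 0 := CharTwo.two_eq_zero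
  have hsq : a * a ≠ 1 := by
    intro h
    apply ha1
    have h3 : (a - 1) * (a - 1) = 0 := by linear_combination h - (a - 1) * h2
    exact sub_eq_zero.1 (mul_self_eq_zero.1 h3)
  refine Unitary.hasKPairSep_model (KInstSp.model 2 F) amb_Sp (der ⟨a, ha0, ha1⟩) (d := 0) ?_
    (p0 := SpIdent.adm 1) rfl (one_ne_zero : (1 : F) ≠ 0) (μ := a) ha0 hsq ?_
  · intro v hv
    have hv' : v = 0 := hv
    rw [hv']
    exact Submodule.zero_mem _
  · intro h
    apply hsq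
    have h' : a * a = -1 := h
    rw [h']
    linear_combination -h2

end Cfsg.Agent.ParSys.Fam.Sp4
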