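import Mathlib
import Cfsg.Agent.Nodes.RGDAllP
import Cfsg.Agent.Nodes.FreeTorus

/-!
# THEOREM PAR: the torus of a Witt frame (K-facts on `Sp₄(q)`, `U₄(q)`, `U₅(q)`)

For a frame `Fr` with an ambient group of isometries (`Amb`):

* `span_top` : `V` is spanned by the frame and `V0`;
* `tor_comm` : the torus is abelian if `dim V0 ≤ 1`;
* `hz` : the torus elements `h_a(μ σ(μ))` of the long roots;
* `lam_mul` (`X`-type), `det`-argument (`Z`-type): elements of the rank one groups in the torus are determined by one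
  scalar, hence the rank one tori are cyclic;
* `nX_inv` : the Weyl element of a root of type `X` inverts the torus of the rank one group.
-/

set_option autoImplicit false
set_option linter.unusedSectionVars false

namespace Cfsg.Agent.ParSys.Fam.WittTor

open Cfsg.Agent.ChevalleyStructure.CoxeterGeom Cfsg.Agent.Tits.Roots Cfsg.Agent.Nodes.TypeC
open Cfsg.Agent.Nodes.Comb Cfsg.Agent.Nodes.Reps Cfsg.Agent.Nodes.WittRoot Cfsg.Agent.Nodes.BNOf
open Cfsg.Agent.Nodes.WittRGD Cfsg.Agent.Nodes.RGDLib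
open Cfsg.Agent.TitsThree Cfsg.Agent.TitsThree.Siegel Cfsg.Agent.TitsThree.WittFrame
  Cfsg.Agent.TitsThree.WittWeyl Cfsg.Agent.TitsThree.FrameCN

variable {F : Type*} [Field F] {V : Type*} [AddCommGroup V] [Module F V] {H : HForm F V} {n : ℕ}
  {Fr : Frame H (Fin n)} {G0 : Subgroup (V ≃ₗ[F] V)} (hA : Amb Fr G0)

/-! ### Two elements with the same action on the frame and on `V0` are equal -/

include hA in
theorem mem_span (v : V) : v ∈ Submodule.span F (Set.range Fr.b) ⊔ Fr.V0 := by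
  classical
  set u : V := ∑ x : Fin n × Bool, (H.h v (Fr.b (neg x)) * (Fr.η (neg x))⁻¹) • Fr.b x with hu
  have hsum : ∀ (s : Finset (Fin n × Bool)) (g : Fin n × Bool → F) (y : V),
      H.h (∑ i ∈ s, g i • Fr.b i) y = ∑ i ∈ s, g i * H.h (Fr.b i) y := by
    intro s g y
    induction s using Finset.induction_on with
    | empty => simp [H.zero_left]
    | insert a s ha ih => rw [Finset.sum_insert ha, Finset.sum_insert ha, H.add_left, H.smul_left, ih]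
  have h1 : ∀ y, H.h (v - u) (Fr.b y) = 0 := by
    intro y
    rw [sub_eq_add_neg, H.add_left, ← neg_one_smul F u, H.smul_left, hu, hsum,
      Finset.sum_eq_single (neg y)]
    · rw [WittFrame.neg_neg, Fr.hb_neg_self]
      have := Fr.η_ne y
      field_simp
      ring
    · intro x _ hx
      rw [Fr.hb_ne, mul_zero]
      intro h; apply hx; rw [h, WittFrame.neg_neg]
    · intro h; exact absurd (Finset.mem_univ _) h
  have h2 : v = u + (v - u) := by abel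
  rw [h2]
  refine Submodule.add_mem _ (Submodule.mem_sup_left ?_) (Submodule.mem_sup_right (hA.V0 _ h1))
  rw [hu]
  exact Submodule.sum_mem _ fun x _ => Submodule.smul_mem _ _ (Submodule.subset_span ⟨x, rfl⟩)

include hA in
theorem ext_frame {g k : V ≃ₗ[F] V} (h1 : ∀ x, g (Fr.b x) = k (Fr.b x)) (h2 : ∀ w ∈ Fr.V0, g w = k w) : g = k := by
  have h3 : Submodule.span F (Set.range Fr.b) ⊔ Fr.V0 ≤ LinearMap.eqLocus (g : V →ₗ[F] V) (k : V →ₗ[F] V) := by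
    refine sup_le (Submodule.span_le.2 ?_) ?_
    · rintro _ ⟨x, rfl⟩
      exact h1 x
    · intro w hw
      exact h2 w hw
  ext v
  exact h3 (mem_span hA v)

/-- the scalar of a diagonal element -/
noncomputable def lam {g : V ≃ₗ[F] V} (hg : Mono Fr g id) (x : Fin n × Bool) : F := (hg x).choose

theorem lam_ne {g : V ≃ₗ[F] V} (hg : Mono Fr g id) (x : Fin n × Bool) : lam hg x ≠ 0 := (hg x).choose_spec.1

theorem lam_apply {g : V ≃ₗ[F] V} (hg : Mono Fr g id) (x : Fin n × Bool) : g (Fr.b x) = lam hg x • Fr.b x :=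
  (hg x).choose_spec.2

include hA in
/-- **The torus is abelian if `dim V0 ≤ 1`.** -/
theorem tor_comm {d : V} (hd : Fr.V0 ≤ Submodule.span F {d}) {g k : V ≃ₗ[F] V} (hg : g ∈ Tor Fr G0)
    (hk : k ∈ Tor Fr G0) : g * k = k * g := by
  refine ext_frame hA ?_ ?_
  · intro x
    rw [mul_apply', mul_apply', lam_apply hg.2, lam_apply hk.2, map_smul, map_smul, lam_apply hg.2, lam_apply hk.2,
      smul_smul, smul_smul, mul_comm]
  · intro w hw
    have h1 : ∀ g ∈ Tor Fr G0, ∀ w ∈ Fr.V0, g w ∈ Fr.V0 := fun g hg w hw =>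
      hA.map_V0 hg.1 hg.2 (ρ := id) (fun _ => rfl) hw
    by_cases hw0 : w = 0
    · rw [hw0, map_zero, map_zero]
    obtain ⟨a, ha⟩ := Submodule.mem_span_singleton.1 (hd hw)
    have ha0 : a ≠ 0 := by rintro rfl; apply hw0; rw [← ha, zero_smul]
    have hdw : d = a⁻¹ • w := by rw [← ha, smul_smul, inv_mul_cancel₀ ha0, one_smul]
    have h2 : ∀ g ∈ Tor Fr G0, ∃ c : F, g w = c • w := by
      intro g hg
      obtain ⟨b, hb⟩ := Submodule.mem_span_singleton.1 (hd (h1 g hg w hw))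
      exact ⟨b * a⁻¹, by rw [← hb, hdw, smul_smul]⟩
    obtain ⟨b, hb⟩ := h2 g hg
    obtain ⟨c, hc⟩ := h2 k hk
    rw [mul_apply', mul_apply', hb, hc, map_smul, map_smul, hb, hc, smul_smul, smul_smul, mul_comm]

/-! ### The torus elements of type `Z` -/

/-- the element `h_a(μ σ(μ))` -/
noncomputable def hz (Fr : Frame H (Fin n)) (a : Fin n × Bool) (p0 : Fr.Adm) (μ : F) : V ≃ₗ[F] V :=
  nZ Fr a (Frame.Adm.smul μ p0) * (nZ Fr a p0)⁻¹

section hz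

variable {p0 : Fr.Adm} (hw : p0.w = 0) (hc : p0.c ≠ 0) {μ : F} (hμ : μ ≠ 0) (a : Fin n × Bool)

theorem smul_c_ne (hc : p0.c ≠ 0) (hμ : μ ≠ 0) : (Frame.Adm.smul μ p0).c ≠ 0 := by
  have : H.σ μ ≠ 0 := by simpa using hμ
  exact mul_ne_zero (mul_ne_zero hμ this) hc

include hc hμ in
theorem hz_self : hz Fr a p0 μ (Fr.b a) = (μ * H.σ μ) • Fr.b a := by
  have h1 := nZ_apply_neg Fr a p0 hc
  have hη := Fr.η_ne a
  have h2 : (nZ Fr a p0)⁻¹ (Fr.b a) = (Fr.η a * p0.c)⁻¹ • Fr.b (neg a) := by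
    have h3 : (nZ Fr a p0)⁻¹ (nZ Fr a p0 (Fr.b (neg a))) = Fr.b (neg a) := by
      rw [← mul_apply', inv_mul_cancel]; rfl
    rw [h1, map_smul] at h3
    rw [← h3, smul_smul, inv_mul_cancel₀ (mul_ne_zero hη hc), one_smul]
  rw [hz, mul_apply', h2, map_smul, nZ_apply_neg Fr a _ (smul_c_ne hc hμ), smul_smul, Frame.Adm.smul_c]
  congr 1
  field_simp

include hc hμ in
theorem hz_neg : hz Fr a p0 μ (Fr.b (neg a)) = (μ * H.σ μ)⁻¹ • Fr.b (neg a) := by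
  have h1 := nZ_apply_self Fr a p0 hc
  have hη := Fr.η_ne a
  have hε := H.ε_ne
  have hσ : H.σ p0.c ≠ 0 := by simpa using hc
  have hσμ : H.σ μ ≠ 0 := by simpa using hμ
  have h2 : (nZ Fr a p0)⁻¹ (Fr.b (neg a)) = (H.ε * (Fr.η a)⁻¹ * (H.σ p0.c)⁻¹)⁻¹ • Fr.b a := by
    have h3 : (nZ Fr a p0)⁻¹ (nZ Fr a p0 (Fr.b a)) = Fr.b a := by
      rw [← mul_apply', inv_mul_cancel]; rfl
    rw [h1, map_smul] at h3
    rw [← h3, smul_smul, inv_mul_cancel₀ (mul_ne_zero (mul_ne_zero hε (inv_ne_zero hη)) (inv_ne_zero hσ)), one_smul]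
  rw [hz, mul_apply', h2, map_smul, nZ_apply_self Fr a _ (smul_c_ne hc hμ), smul_smul, Frame.Adm.smul_c]
  congr 1
  simp only [map_mul, H.σσ]
  field_simp

theorem hz_of_ne {z : Fin n × Bool} (h : z.1 ≠ a.1) : hz Fr a p0 μ (Fr.b z) = Fr.b z := by
  have h1 := nZ_apply_of_ne Fr h p0
  have h2 : (nZ Fr a p0)⁻¹ (Fr.b z) = Fr.b z := by
    conv_lhs => rw [← h1]
    rw [← mul_apply', inv_mul_cancel]; rfl
  rw [hz, mul_apply', h2, nZ_apply_of_ne Fr h]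

include hw hc hμ in
theorem hz_V0 {v : V} (hv : v ∈ Fr.V0) : hz Fr a p0 μ v = v := by
  have h1 := nZ_apply_V0 Fr a p0 hc hv
  rw [hw, H.zero_right, mul_zero, zero_smul, add_zero] at h1
  have h2 : (nZ Fr a p0)⁻¹ v = v := by
    conv_lhs => rw [← h1]
    rw [← mul_apply', inv_mul_cancel]; rfl
  have h3 := nZ_apply_V0 Fr a (Frame.Adm.smul μ p0) (smul_c_ne hc hμ) hv
  rw [Frame.Adm.smul_w, hw, smul_zero, H.zero_right, mul_zero, zero_smul, add_zero] at h3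
  rw [hz, mul_apply', h2, h3]

include hA hc hμ in
theorem hz_mem_Tor : hz Fr a p0 μ ∈ Tor Fr G0 := by
  refine ⟨mul_mem (nZ_mem hA _ _) (inv_mem (nZ_mem hA _ _)), ?_⟩
  intro z
  have h0 : μ * H.σ μ ≠ 0 := mul_ne_zero hμ (by simpa using hμ)
  by_cases h : z.1 = a.1
  · rcases eq_or_ng h with rfl | rfl
    · exact ⟨_, h0, hz_self hc hμ z⟩
    · exact ⟨_, inv_ne_zero h0, hz_neg hc hμ a⟩
  · exact ⟨1, one_ne_zero, by rw [one_smul]; exact hz_of_ne a h⟩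

end hz

/-! ### Fixed points -/

theorem conj_X_tor {g : V ≃ₗ[F] V} (hg : H.IsIso g) {x y : Fin n × Bool} (h : x.1 ≠ y.1) {l m : F}
    (hx : g (Fr.b x) = l • Fr.b x) (hy : g (Fr.b y) = m • Fr.b y) (t : F) :
    g * Fr.X x y t * g⁻¹ = Fr.X x y (l * H.σ m * t) := by
  rw [conj_X Fr hg h h hx hy]
  congr 1
  have := Fr.η_ne y
  field_simp

theorem X_inj {x y : Fin n × Bool} (h : x.1 ≠ y.1) {s t : F} (e : Fr.X x y s = Fr.X x y t) : s = t := by
  have h1 := congrArg (fun g : V ≃ₗ[F] V => H.h (g (Fr.b (neg y))) (Fr.b (neg x))) e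
  simp only [X_apply_neg Fr h, H.add_left, H.smul_left] at h1
  have h2 : H.h (Fr.b x) (Fr.b (neg x)) ≠ 0 := by rw [Fr.hb_self_neg]; exact Fr.η_ne _
  exact mul_right_cancel₀ h2 (add_left_cancel h1)

theorem Z_inj {x : Fin n × Bool} {p q : Fr.Adm} (e : Fr.Z x p = Fr.Z x q) : p.c = q.c := by
  have h1 := congrArg (fun g : V ≃ₗ[F] V => H.h (g (Fr.b (neg x))) (Fr.b (neg x))) e
  simp only [Z_apply_neg Fr, H.add_left, H.smul_left, Fr.h0' _ (Fr.ok_mem p.ok), Fr.h0' _ (Fr.ok_mem q.ok),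
    mul_zero, add_zero, Fr.hb_self, zero_add] at h1
  have h2 : H.h (Fr.b x) (Fr.b (neg x)) ≠ 0 := by rw [Fr.hb_self_neg]; exact Fr.η_ne _
  have h3 := mul_right_cancel₀ h2 h1
  exact mul_right_cancel₀ (Fr.η_ne x) h3

include hA in
/-- An element of a root group all of whose vectors are eigenvectors is trivial. -/
theorem eq_one_of_scalar {a b : Fin n × Bool} (hab : Ok a b) {c : V ≃ₗ[F] V} (hc : c ∈ PG Fr a b)
    (h : ∀ v, ∃ m : F, c v = m • v) : c = 1 := by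
  rcases hab with hab | rfl
  · rw [PG_ne Fr hab] at hc
    obtain ⟨t, rfl⟩ := hc
    obtain ⟨m, hm⟩ := h (Fr.b (neg b))
    have h1 := congrArg (fun v => H.h v (Fr.b (neg a))) hm
    simp only [X_apply_neg Fr hab, H.add_left, H.smul_left] at h1
    rw [Fr.hb_of_ne (x := neg b) (y := neg a) (fun h => hab h.symm), mul_zero, zero_add, Fr.hb_self_neg] at h1
    have h2 : t = 0 := (mul_eq_zero.1 h1).resolve_right (Fr.η_ne _)
    rw [h2, Fr.X_zero]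
  · rw [PG_self] at hc
    obtain ⟨p, rfl⟩ := hc
    obtain ⟨m, hm⟩ := h (Fr.b (neg a))
    have h1 := congrArg (fun v => H.h v (Fr.b (neg a))) hm
    simp only [Z_apply_neg Fr, H.add_left, H.smul_left, Fr.h0' _ (Fr.ok_mem p.ok), mul_zero, add_zero,
      Fr.hb_self, zero_add] at h1
    rw [Fr.hb_self_neg] at h1
    have h2 : p.c = 0 := by
      rcases mul_eq_zero.1 h1 with h3 | h3
      · exact (mul_eq_zero.1 h3).resolve_right (Fr.η_ne _)
      · exact absurd h3 (Fr.η_ne _)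
    have h3 : p.w = 0 := hA.ok_aniso _ (by have := p.ok; rwa [h2] at this)
    have h4 : p = 1 := Frame.Adm.ext h3 h2
    rw [h4, Fr.Z_one]

section Fpf

variable {p0 : Fr.Adm} (hw : p0.w = 0) (hc : p0.c ≠ 0) {μ : F} (hμ : μ ≠ 0)

include hA hc hμ in
/-- `h_a(μ σ μ)` is fixed-point-free on `X_{a,b}`. -/
theorem fpf_X (h1 : μ * H.σ μ ≠ 1) {a b : Fin n × Bool} (hab : a.1 ≠ b.1) {u : V ≃ₗ[F] V} (hu : u ∈ PG Fr a b)
    (h : hz Fr a p0 μ * u * (hz Fr a p0 μ)⁻¹ = u) : u = 1 := by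
  rw [PG_ne Fr hab] at hu
  obtain ⟨t, rfl⟩ := hu
  have hb : hz Fr a p0 μ (Fr.b b) = (1 : F) • Fr.b b := by
    rw [one_smul]; exact hz_of_ne a (fun h => hab h.symm)
  rw [conj_X_tor (hA.iso _ (hz_mem_Tor hA hc hμ a).1) hab (hz_self hc hμ a) hb, map_one, mul_one] at h
  have h2 := X_inj hab h
  have h3 : (μ * H.σ μ - 1) * t = 0 := by rw [sub_mul, h2, one_mul, sub_self]
  rw [(mul_eq_zero.1 h3).resolve_left (sub_ne_zero.2 h1), Fr.X_zero]

include hA hc hμ in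
/-- `h_a(μ σ μ) h_b(μ σ μ)` centralises `X_{a,-b}`. -/
theorem cent_X {a b : Fin n × Bool} (hab : a.1 ≠ b.1) {u : V ≃ₗ[F] V} (hu : u ∈ PG Fr a (ng b)) :
    (hz Fr a p0 μ * hz Fr b p0 μ) * u * (hz Fr a p0 μ * hz Fr b p0 μ)⁻¹ = u := by
  rw [PG_ne Fr (b := ng b) hab] at hu
  obtain ⟨t, rfl⟩ := hu
  have h0 : μ * H.σ μ ≠ 0 := mul_ne_zero hμ (by simpa using hμ)
  have hT := mul_mem (hz_mem_Tor hA hc hμ a) (hz_mem_Tor hA hc hμ b)
  have ha : (hz Fr a p0 μ * hz Fr b p0 μ) (Fr.b a) = (μ * H.σ μ) • Fr.b a := by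
    rw [mul_apply', hz_of_ne b hab, hz_self hc hμ]
  have hb : (hz Fr a p0 μ * hz Fr b p0 μ) (Fr.b (ng b)) = (μ * H.σ μ)⁻¹ • Fr.b (ng b) := by
    rw [mul_apply', show Fr.b (ng b) = Fr.b (neg b) from rfl, hz_neg hc hμ, map_smul,
      hz_of_ne a (z := neg b) (fun h => hab h.symm)]
  rw [conj_X_tor (hA.iso _ hT.1) (y := ng b) hab ha hb]
  congr 1
  have hσ : H.σ μ ≠ 0 := by simpa using hμ
  simp only [map_mul, map_inv₀, H.σσ]
  field_simp

include hA hw hc hμ in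
/-- `h_a(μ σ μ) h_b(μ σ μ)` is fixed-point-free on `Z_b`. -/
theorem fpf_Z (h1 : μ * H.σ μ ≠ 1) (h1' : μ * H.σ μ ≠ -1) {a b : Fin n × Bool} (hab : a.1 ≠ b.1) {u : V ≃ₗ[F] V}
    (hu : u ∈ PG Fr b b)
    (h : (hz Fr a p0 μ * hz Fr b p0 μ) * u * (hz Fr a p0 μ * hz Fr b p0 μ)⁻¹ = u) : u = 1 := by
  rw [PG_self] at hu
  obtain ⟨p, rfl⟩ := hu
  have hT := mul_mem (hz_mem_Tor hA hc hμ a) (hz_mem_Tor hA hc hμ b)
  have hb : (hz Fr a p0 μ * hz Fr b p0 μ) (Fr.b b) = (μ * H.σ μ) • Fr.b b := by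
    rw [mul_apply', hz_self hc hμ, map_smul, hz_of_ne a (fun h => hab h.symm)]
  have hpw : (hz Fr a p0 μ * hz Fr b p0 μ) p.w = p.w := by
    rw [mul_apply', hz_V0 hw hc hμ b (Fr.ok_mem p.ok), hz_V0 hw hc hμ a (Fr.ok_mem p.ok)]
  rw [conj_Z Fr (hA.iso _ hT.1) hb p p hpw rfl] at h
  have h2 := Z_inj h
  rw [Frame.Adm.smul_c] at h2
  simp only [map_mul, H.σσ] at h2
  have h3 : (μ * H.σ μ - 1) * ((μ * H.σ μ + 1) * p.c) = 0 := by linear_combination h2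
  have h4 : p.c = 0 := by
    rcases mul_eq_zero.1 h3 with h5 | h5
    · exact absurd (sub_eq_zero.1 h5) h1
    · rcases mul_eq_zero.1 h5 with h6 | h6
      · exact absurd (eq_neg_of_add_eq_zero_left h6) h1'
      · exact h6
  have h5 : p.w = 0 := hA.ok_aniso _ (by have := p.ok; rwa [h4] at this)
  have h6 : p = 1 := Frame.Adm.ext h5 h4
  rw [h6, Fr.Z_one]

end Fpf

/-! ### The elements of the rank one groups which lie in the torus -/

/-- `D(g)` for two columns -/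
def D2 (Fr : Frame H (Fin n)) (x y : Fin n × Bool) (g : V ≃ₗ[F] V) : F :=
  H.h (g (Fr.b x)) (Fr.b (neg x)) * H.h (g (Fr.b y)) (Fr.b (neg y)) -
    H.h (g (Fr.b x)) (Fr.b (neg y)) * H.h (g (Fr.b y)) (Fr.b (neg x))

/-- The stabiliser of a function under right multiplication. -/
def stab {Y : Type*} [Group Y] {A : Type*} (D : Y → A) : Subgroup Y where
  carrier := {x | ∀ g, D (g * x) = D g}
  one_mem' g := by rw [mul_one]
  mul_mem' {x y} hx hy g := by rw [← mul_assoc, hy, hx]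
  inv_mem' {x} hx g := by
    have := hx (g * x⁻¹)
    rw [inv_mul_cancel_right] at this
    exact this.symm

theorem D2_X {x y : Fin n × Bool} (h : x.1 ≠ y.1) (t : F) : Fr.X x (neg y) t ∈ stab (D2 Fr x y) := by
  intro g
  have h1 : Fr.X x (neg y) t (Fr.b x) = Fr.b x := by
    refine X_apply_of_ne Fr (y := neg y) h (ne_neg_self x) ?_ t
    rw [WittFrame.neg_neg]
    intro h'; exact h (congrArg Prod.fst h')
  have h2 : Fr.X x (neg y) t (Fr.b y) = Fr.b y + t • Fr.b x := by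
    have := X_apply_neg Fr (x := x) (y := neg y) h t
    rwa [WittFrame.neg_neg] at this
  simp only [D2, mul_apply', h1, h2, map_add, map_smul, H.add_left, H.smul_left]
  ring

theorem D2_X' {x y : Fin n × Bool} (h : x.1 ≠ y.1) (t : F) : Fr.X y (neg x) t ∈ stab (D2 Fr x y) := by
  intro g
  have h1 : Fr.X y (neg x) t (Fr.b y) = Fr.b y := by
    refine X_apply_of_ne Fr (y := neg x) h.symm (ne_neg_self y) ?_ t
    rw [WittFrame.neg_neg]
    intro h'; exact h (congrArg Prod.fst h').symm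
  have h2 : Fr.X y (neg x) t (Fr.b x) = Fr.b x + t • Fr.b y := by
    have := X_apply_neg Fr (x := y) (y := neg x) h.symm t
    rwa [WittFrame.neg_neg] at this
  simp only [D2, mul_apply', h1, h2, map_add, map_smul, H.add_left, H.smul_left]
  ring

/-- The rank one group of a root of type `X`. -/
theorem LL_X_le {x y : Fin n × Bool} (h : x.1 ≠ y.1) :
    XG Fr x (neg y) ⊔ XG Fr y (neg x) ≤ stab (D2 Fr x y) := by
  refine sup_le ?_ ?_
  · rintro _ ⟨t, rfl⟩; exact D2_X h t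
  · rintro _ ⟨t, rfl⟩; exact D2_X' h t

/-- pointwise stabiliser -/
def fixer (F : Type*) [Field F] {V : Type*} [AddCommGroup V] [Module F V] (S : Set V) : Subgroup (V ≃ₗ[F] V) where
  carrier := {g | ∀ v ∈ S, g v = v}
  one_mem' v _ := rfl
  mul_mem' {g k} hg hk v hv := by rw [mul_apply', hk v hv, hg v hv]
  inv_mem' {g} hg v hv := by
    conv_lhs => rw [← hg v hv]
    rw [← mul_apply', inv_mul_cancel]; rfl

theorem LL_X_fix {x y : Fin n × Bool} (h : x.1 ≠ y.1) :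
    XG Fr x (neg y) ⊔ XG Fr y (neg x) ≤ fixer F
      ((Fr.V0 : Set V) ∪ {v | ∃ z : Fin n × Bool, z.1 ≠ x.1 ∧ z.1 ≠ y.1 ∧ v = Fr.b z}) := by
  have key : ∀ (x y : Fin n × Bool), x.1 ≠ y.1 → XG Fr x (neg y) ≤ fixer F
      ((Fr.V0 : Set V) ∪ {v | ∃ z : Fin n × Bool, z.1 ≠ x.1 ∧ z.1 ≠ y.1 ∧ v = Fr.b z}) := by
    rintro x y h _ ⟨t, rfl⟩ v (hv | ⟨z, h1, h2, rfl⟩)
    · exact X_apply_V0 Fr (y := neg y) h hv t
    · refine X_apply_of_ne Fr (y := neg y) h (fun h' => h1 (by rw [h', neg_fst])) ?_ t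
      rw [WittFrame.neg_neg]
      intro h'; exact h2 (congrArg Prod.fst h')
  refine sup_le (key x y h) ((key y x h.symm).trans ?_)
  rintro g hg v (hv | ⟨z, h1, h2, rfl⟩)
  · exact hg v (Or.inl hv)
  · exact hg _ (Or.inr ⟨z, h2, h1, rfl⟩)

theorem lam_neg {g : V ≃ₗ[F] V} (hg : Mono Fr g id) (hi : H.IsIso g) (x : Fin n × Bool) :
    lam hg x * H.σ (lam hg (neg x)) = 1 := by
  have h1 := hi (Fr.b x) (Fr.b (neg x))
  rw [lam_apply hg, lam_apply hg, H.smul_left, H.smul_right] at h1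
  have h2 : H.h (Fr.b x) (Fr.b (neg x)) ≠ 0 := by rw [Fr.hb_self_neg]; exact Fr.η_ne _
  have h3 : (lam hg x * H.σ (lam hg (neg x)) - 1) * H.h (Fr.b x) (Fr.b (neg x)) = 0 := by
    linear_combination h1
  exact sub_eq_zero.1 ((mul_eq_zero.1 h3).resolve_right h2)

theorem lam_mul {x y : Fin n × Bool} (h : x.1 ≠ y.1) {g : V ≃ₗ[F] V} (hg : Mono Fr g id)
    (hL : g ∈ XG Fr x (neg y) ⊔ XG Fr y (neg x)) : lam hg x * lam hg y = 1 := by
  have h1 := LL_X_le h hL 1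
  have h2 : H.h (Fr.b x) (Fr.b (neg x)) ≠ 0 := by rw [Fr.hb_self_neg]; exact Fr.η_ne _
  have h3 : H.h (Fr.b y) (Fr.b (neg y)) ≠ 0 := by rw [Fr.hb_self_neg]; exact Fr.η_ne _
  have h4 : H.h (Fr.b x) (Fr.b (neg y)) = 0 := Fr.hb_of_ne (y := neg y) h
  have e1 : ∀ v : V, (1 : V ≃ₗ[F] V) v = v := fun _ => rfl
  simp only [D2, one_mul, lam_apply hg, H.smul_left, h4, mul_zero, zero_mul, sub_zero, e1] at h1
  have h5 : (lam hg x * lam hg y - 1) * (H.h (Fr.b x) (Fr.b (neg x)) * H.h (Fr.b y) (Fr.b (neg y))) = 0 := by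
    linear_combination h1
  exact sub_eq_zero.1 ((mul_eq_zero.1 h5).resolve_right (mul_ne_zero h2 h3))

include hA in
/-- An element of the torus of the rank one group of type `X` is determined by one scalar. -/
theorem eq_one_X {x y : Fin n × Bool} (h : x.1 ≠ y.1) {g : V ≃ₗ[F] V} (hg : g ∈ Tor Fr G0)
    (hL : g ∈ XG Fr x (neg y) ⊔ XG Fr y (neg x)) (h1 : g (Fr.b x) = Fr.b x) : g = 1 := by
  have hx : lam hg.2 x = 1 := by
    have h2 := lam_apply hg.2 x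
    rw [h1] at h2
    have h3 : (lam hg.2 x - 1) • Fr.b x = 0 := by rw [sub_smul, one_smul, ← h2, sub_self]
    exact sub_eq_zero.1 ((smul_eq_zero.1 h3).resolve_right (b_ne_zero _))
  have hy : lam hg.2 y = 1 := by
    have := lam_mul h hg.2 hL
    rwa [hx, one_mul] at this
  have hn : ∀ z, lam hg.2 z = 1 → lam hg.2 (neg z) = 1 := by
    intro z hz
    have h2 := lam_neg hg.2 (hA.iso _ hg.1) z
    rw [hz, one_mul] at h2
    have := congrArg H.σ h2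
    rwa [H.σσ, map_one] at this
  have hfix := LL_X_fix h hL
  refine ext_frame hA ?_ ?_
  · intro z
    show g (Fr.b z) = Fr.b z
    by_cases hzx : z.1 = x.1
    · rw [lam_apply hg.2]
      rcases eq_or_ng hzx with rfl | rfl
      · rw [hx, one_smul]
      · rw [show lam hg.2 (ng x) = lam hg.2 (neg x) from rfl, hn x hx, one_smul]
    by_cases hzy : z.1 = y.1
    · rw [lam_apply hg.2]
      rcases eq_or_ng hzy with rfl | rfl
      · rw [hy, one_smul]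
      · rw [show lam hg.2 (ng y) = lam hg.2 (neg y) from rfl, hn y hy, one_smul]
    · exact hfix _ (Or.inr ⟨z, hzx, hzy, rfl⟩)
  · intro w hw
    exact hfix w (Or.inl hw)

/-! ### Roots of type `Z` -/

/-- `D(g)` for three columns -/
def D3 (Fr : Frame H (Fin n)) (d : V) (x : Fin n × Bool) (g : V ≃ₗ[F] V) : F :=
  H.h (g (Fr.b x)) (Fr.b (neg x)) * (H.h (g (Fr.b (neg x))) (Fr.b x) * H.h (g d) d -
      H.h (g (Fr.b (neg x))) d * H.h (g d) (Fr.b x)) -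
    H.h (g (Fr.b x)) (Fr.b x) * (H.h (g (Fr.b (neg x))) (Fr.b (neg x)) * H.h (g d) d -
      H.h (g (Fr.b (neg x))) d * H.h (g d) (Fr.b (neg x))) +
    H.h (g (Fr.b x)) d * (H.h (g (Fr.b (neg x))) (Fr.b (neg x)) * H.h (g d) (Fr.b x) -
      H.h (g (Fr.b (neg x))) (Fr.b x) * H.h (g d) (Fr.b (neg x)))

theorem D3_neg (d : V) (x : Fin n × Bool) : D3 Fr d (neg x) = D3 Fr d x := by
  funext g
  simp only [D3, WittFrame.neg_neg]
  ring

theorem D3_Z {d : V} (hdV : d ∈ Fr.V0) (hd : Fr.V0 ≤ Submodule.span F {d}) (x : Fin n × Bool) (p : Fr.Adm) :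
    Fr.Z x p ∈ stab (D3 Fr d x) := by
  intro g
  obtain ⟨r, hr⟩ := Submodule.mem_span_singleton.1 (hd (Fr.ok_mem p.ok))
  have h1 : Fr.Z x p (Fr.b x) = Fr.b x := Z_apply_of_ne Fr (ne_neg_self x) p
  have h2 := Z_apply_neg Fr x p
  have h3 := Z_apply_V0 Fr x p hdV
  rw [← hr] at h2
  simp only [D3, mul_apply', h1, h2, h3, map_add, map_smul, sub_eq_add_neg, ← neg_smul, H.add_left,
    H.smul_left]
  ring

theorem ZG_le {d : V} (hdV : d ∈ Fr.V0) (hd : Fr.V0 ≤ Submodule.span F {d}) (x : Fin n × Bool) :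
    ZG Fr x ⊔ ZG Fr (neg x) ≤ stab (D3 Fr d x) := by
  refine sup_le ?_ ?_
  · rintro _ ⟨t, rfl⟩; exact D3_Z hdV hd x t
  · rintro _ ⟨t, rfl⟩
    rw [← D3_neg]
    exact D3_Z hdV hd (neg x) t

theorem ZG_fix (x : Fin n × Bool) :
    ZG Fr x ⊔ ZG Fr (neg x) ≤ fixer F {v | ∃ z : Fin n × Bool, z.1 ≠ x.1 ∧ v = Fr.b z} := by
  refine sup_le ?_ ?_
  · rintro _ ⟨p, rfl⟩ _ ⟨z, h1, rfl⟩
    exact Z_apply_of_ne Fr (fun h' => h1 (by rw [h', neg_fst])) p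
  · rintro _ ⟨p, rfl⟩ _ ⟨z, h1, rfl⟩
    exact Z_apply_of_ne Fr (fun h' => h1 (by rw [h', neg_fst, neg_fst])) p

include hA in
/-- An element of the torus of the rank one group of type `Z` is determined by one scalar. -/
theorem eq_one_Z {d : V} (hd : Fr.V0 ≤ Submodule.span F {d}) {x : Fin n × Bool} {g : V ≃ₗ[F] V}
    (hg : g ∈ Tor Fr G0) (hL : g ∈ ZG Fr x ⊔ ZG Fr (neg x)) (h1 : g (Fr.b x) = Fr.b x) : g = 1 := by
  have hx : lam hg.2 x = 1 := by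
    have h2 := lam_apply hg.2 x
    rw [h1] at h2
    have h3 : (lam hg.2 x - 1) • Fr.b x = 0 := by rw [sub_smul, one_smul, ← h2, sub_self]
    exact sub_eq_zero.1 ((smul_eq_zero.1 h3).resolve_right (b_ne_zero _))
  have hnx : lam hg.2 (neg x) = 1 := by
    have h2 := lam_neg hg.2 (hA.iso _ hg.1) x
    rw [hx, one_mul] at h2
    have := congrArg H.σ h2
    rwa [H.σσ, map_one] at this
  have h1' : g (Fr.b (neg x)) = Fr.b (neg x) := by rw [lam_apply hg.2, hnx, one_smul]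
  have hfix := ZG_fix x hL
  refine ext_frame hA ?_ ?_
  · intro z
    show g (Fr.b z) = Fr.b z
    by_cases hzx : z.1 = x.1
    · rcases eq_or_ng hzx with rfl | rfl
      · exact h1
      · exact h1'
    · exact hfix _ ⟨z, hzx, rfl⟩
  · intro w hw
    show g w = w
    by_cases hw0 : w = 0
    · rw [hw0, map_zero]
    -- `V0` is spanned by `w`
    obtain ⟨a, ha⟩ := Submodule.mem_span_singleton.1 (hd hw)
    have ha0 : a ≠ 0 := by rintro rfl; apply hw0; rw [← ha, zero_smul]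
    have hdw : d = a⁻¹ • w := by rw [← ha, smul_smul, inv_mul_cancel₀ ha0, one_smul]
    have hd' : Fr.V0 ≤ Submodule.span F {w} := by
      intro v hv
      obtain ⟨b, hb⟩ := Submodule.mem_span_singleton.1 (hd hv)
      rw [← hb, hdw, smul_smul]
      exact Submodule.smul_mem _ _ (Submodule.mem_span_singleton_self w)
    obtain ⟨ν, hν⟩ := Submodule.mem_span_singleton.1 (hd' (hA.map_V0 hg.1 hg.2 (ρ := id) (fun _ => rfl) hw))
    have h2 := ZG_le hw hd' x hL 1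
    have e1 : ∀ v : V, (1 : V ≃ₗ[F] V) v = v := fun _ => rfl
    have hh : H.h w w ≠ 0 := fun h => hw0 (hA.aniso w hw h)
    have h3 : H.h (Fr.b x) (Fr.b (neg x)) ≠ 0 := by rw [Fr.hb_self_neg]; exact Fr.η_ne _
    have h4 : H.h (Fr.b (neg x)) (Fr.b x) ≠ 0 := by rw [Fr.hb_neg_self]; exact Fr.η_ne _
    simp only [D3, one_mul, h1, h1', ← hν, e1, H.smul_left, Fr.h0 _ _ hw, Fr.h0' _ hw, Fr.hb_self, mul_zero,
      zero_mul, sub_zero, add_zero] at h2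
    have h5 : (ν - 1) * (H.h (Fr.b x) (Fr.b (neg x)) * H.h (Fr.b (neg x)) (Fr.b x) * H.h w w) = 0 := by
      linear_combination h2
    have h6 : ν = 1 :=
      sub_eq_zero.1 ((mul_eq_zero.1 h5).resolve_right (mul_ne_zero (mul_ne_zero h3 h4) hh))
    rw [← hν, h6, one_smul]

/-! ### Simple roots -/

theorem LL_up {i : Fin n} (hi : (i : ℕ) + 1 < n) :
    rg Fr (sr i) ⊔ rg Fr (-sr i) =
      XG Fr (i, true) (neg (⟨i + 1, hi⟩, true)) ⊔ XG Fr (⟨i + 1, hi⟩, true) (neg (i, true)) := by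
  have hnx : nx i = (⟨i + 1, hi⟩, false) := by unfold nx; rw [dif_pos hi]
  have hne : ((i, true) : Fin n × Bool).1 ≠ (nx i).1 := by rw [hnx]; simp [Fin.ext_iff]
  rw [rg_sr, rg_neg_sr, PG_ne Fr hne, PG_ne Fr (a := ng (i, true)) (b := ng (nx i)) hne,
    XG_swap Fr (a := ng (i, true)) (b := ng (nx i)) hne, hnx]
  rfl

theorem LL_last {i : Fin n} (hi : ¬ (i : ℕ) + 1 < n) :
    rg Fr (sr i) ⊔ rg Fr (-sr i) = ZG Fr (i, true) ⊔ ZG Fr (neg (i, true)) := by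
  have hnx : nx i = (i, true) := by unfold nx; rw [dif_neg hi]
  rw [rg_sr, rg_neg_sr, hnx, PG_self, PG_self]
  rfl

include hA in
theorem eq_one_LL {d : V} (hd : Fr.V0 ≤ Submodule.span F {d}) (i : Fin n) {g : V ≃ₗ[F] V}
    (hg : g ∈ Tor Fr G0) (hL : g ∈ rg Fr (sr i) ⊔ rg Fr (-sr i)) (h1 : g (Fr.b (i, true)) = Fr.b (i, true)) :
    g = 1 := by
  by_cases hi : (i : ℕ) + 1 < n
  · rw [LL_up hi] at hL
    exact eq_one_X hA (by simp [Fin.ext_iff]) hg hL h1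
  · rw [LL_last hi] at hL
    exact eq_one_Z hA hd hg hL h1

/-- The rank one torus. -/
def TL (Fr : Frame H (Fin n)) (G0 : Subgroup (V ≃ₗ[F] V)) (i : Fin n) : Subgroup (V ≃ₗ[F] V) :=
  (rg Fr (sr i) ⊔ rg Fr (-sr i)) ⊓ Tor Fr G0

/-- the scalar as a homomorphism -/
noncomputable def scal (Fr : Frame H (Fin n)) (G0 : Subgroup (V ≃ₗ[F] V)) (i : Fin n) : ↥(TL Fr G0 i) →* F where
  toFun g := H.h (g.1 (Fr.b (i, true))) (Fr.b (neg (i, true))) * (H.h (Fr.b (i, true)) (Fr.b (neg (i, true))))⁻¹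
  map_one' := by
    have h3 : H.h (Fr.b (i, true)) (Fr.b (neg (i, true))) ≠ 0 := by rw [Fr.hb_self_neg]; exact Fr.η_ne _
    exact mul_inv_cancel₀ h3
  map_mul' g k := by
    have h3 : H.h (Fr.b (i, true)) (Fr.b (neg (i, true))) ≠ 0 := by rw [Fr.hb_self_neg]; exact Fr.η_ne _
    have e : (g * k).1 (Fr.b (i, true)) = g.1 (k.1 (Fr.b (i, true))) := rfl
    rw [e, lam_apply k.2.2.2, map_smul, lam_apply g.2.2.2, H.smul_left, H.smul_left, H.smul_left]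
    field_simp

include hA in
/-- **The rank one tori are cyclic.** -/
theorem isCyclic_TL [Finite V] {d : V} (hd : Fr.V0 ≤ Submodule.span F {d}) (i : Fin n) : IsCyclic ↥(TL Fr G0 i) := by
  have : Finite (V ≃ₗ[F] V) := Nodes.RGDAllP.finite_equiv
  refine isCyclic_of_injective_ringHom (scal Fr G0 i) ?_
  rw [injective_iff_map_eq_one]
  intro g hg
  have h3 : H.h (Fr.b (i, true)) (Fr.b (neg (i, true))) ≠ 0 := by rw [Fr.hb_self_neg]; exact Fr.η_ne _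
  apply Subtype.ext
  refine eq_one_LL hA hd i g.2.2 g.2.1 ?_
  have h4 : H.h (g.1 (Fr.b (i, true))) (Fr.b (neg (i, true))) * (H.h (Fr.b (i, true)) (Fr.b (neg (i, true))))⁻¹ = 1 := hg
  rw [lam_apply g.2.2.2, H.smul_left, mul_inv_cancel_right₀ h3] at h4
  rw [lam_apply g.2.2.2, h4, one_smul]

include hA in
/-- **The Weyl element of a root of type `X` inverts the torus of the rank one group.** -/
theorem nn_inv {d : V} (hd : Fr.V0 ≤ Submodule.span F {d}) {p0 : Fr.Adm} (hp0 : p0.c ≠ 0) {i : Fin n}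
    (hi : (i : ℕ) + 1 < n) {g : V ≃ₗ[F] V} (hg : g ∈ TL Fr G0 i) :
    Nodes.WittRGD.nn Fr p0 i * g * (Nodes.WittRGD.nn Fr p0 i)⁻¹ * g = 1 := by
  have hT : Nodes.WittRGD.nn Fr p0 i * g * (Nodes.WittRGD.nn Fr p0 i)⁻¹ ∈ Tor Fr G0 :=
    (Subgroup.mem_normalizer_iff.1 ((Nodes.WittRGD.nsys hA hp0).norm i) g).1 hg.2
  have hL : Nodes.WittRGD.nn Fr p0 i * g * (Nodes.WittRGD.nn Fr p0 i)⁻¹ ∈ rg Fr (sr i) ⊔ rg Fr (-sr i) :=
    mul_mem (mul_mem (nn_mem_sup p0 i) hg.1) (inv_mem (nn_mem_sup p0 i))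
  refine eq_one_LL hA hd i (mul_mem hT hg.2) (mul_mem hL hg.1) ?_
  have hne : ((i, true) : Fin n × Bool).1 ≠ (⟨i + 1, hi⟩, true).1 := by simp [Fin.ext_iff]
  have hnx : nx i = neg (⟨i + 1, hi⟩, true) := by unfold nx; rw [dif_pos hi]; rfl
  have hnn : Nodes.WittRGD.nn Fr p0 i = nX Fr (i, true) (neg (⟨i + 1, hi⟩, true)) 1 := by
    unfold Nodes.WittRGD.nn; rw [if_pos hi, hnx]
  have h1 : Nodes.WittRGD.nn Fr p0 i (Fr.b (⟨i + 1, hi⟩, true)) = Fr.b (i, true) := by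
    have := nX_apply_neg Fr (x := (i, true)) (y := neg (⟨i + 1, hi⟩, true)) hne (t := 1) one_ne_zero
    rwa [WittFrame.neg_neg, one_smul, ← hnn] at this
  have h2 : (Nodes.WittRGD.nn Fr p0 i)⁻¹ (Fr.b (i, true)) = Fr.b (⟨i + 1, hi⟩, true) := by
    rw [← h1, ← mul_apply', inv_mul_cancel]; rfl
  have hL' := hg.1
  rw [LL_up hi] at hL'
  have h3 := lam_mul hne hg.2.2 hL'
  rw [mul_apply', lam_apply hg.2.2, map_smul, mul_apply', mul_apply', h2, lam_apply hg.2.2, map_smul, h1, smul_smul,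
    h3, one_smul]

/-! ### The model -/

section Model

variable {K : Type*} [Group K] (M : Model Fr K)

theorem ker_scalar {g : V ≃ₗ[F] V} (hg : g ∈ M.I) (h : M.φ ⟨g, hg⟩ = 1) (v : V) : ∃ m : F, g v = m • v :=
  M.ker v ⟨g, hg⟩ h

theorem tor_of_ker {g : V ≃ₗ[F] V} (hg : g ∈ M.I) (h : M.φ ⟨g, hg⟩ = 1) : g ∈ Tor Fr M.I := by
  refine ⟨hg, fun x => ?_⟩
  obtain ⟨m, hm⟩ := ker_scalar M hg h (Fr.b x)
  refine ⟨m, ?_, hm⟩
  rintro rfl
  rw [zero_smul] at hm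
  exact b_ne_zero x (g.map_eq_zero_iff.1 hm)

theorem mem_T_of {g : V ≃ₗ[F] V} (hg : g ∈ Tor Fr M.I) : M.φ ⟨g, hg.1⟩ ∈ Nodes.WittModel.T M :=
  Subgroup.mem_map_of_mem _ (Subgroup.mem_subgroupOf.2 hg)

theorem mem_T {k : K} : k ∈ Nodes.WittModel.T M ↔ ∃ (g : V ≃ₗ[F] V) (hg : g ∈ Tor Fr M.I), k = M.φ ⟨g, hg.1⟩ := by
  constructor
  · rintro ⟨⟨g, hg⟩, h, rfl⟩
    exact ⟨g, h, rfl⟩
  · rintro ⟨g, hg, rfl⟩
    exact mem_T_of M hg

theorem tor_of_T {g : V ≃ₗ[F] V} (hg : g ∈ M.I) (h : M.φ ⟨g, hg⟩ ∈ Nodes.WittModel.T M) : g ∈ Tor Fr M.I := by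
  obtain ⟨t, ht, e⟩ := (mem_T M).1 h
  have h1 : M.φ ⟨t⁻¹ * g, mul_mem (inv_mem ht.1) hg⟩ = 1 := by
    have : (⟨t⁻¹ * g, mul_mem (inv_mem ht.1) hg⟩ : M.I) = (⟨t, ht.1⟩ : M.I)⁻¹ * ⟨g, hg⟩ := rfl
    rw [this, map_mul, map_inv, e, inv_mul_cancel]
  have h2 := mul_mem ht (tor_of_ker M _ h1)
  rwa [mul_inv_cancel_left] at h2

variable (hM : Amb Fr M.I)

include hM

/-- **The torus of the model is abelian.** -/
theorem T_comm {d : V} (hd : Fr.V0 ≤ Submodule.span F {d}) :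
    ∀ x ∈ Nodes.WittModel.T M, ∀ y ∈ Nodes.WittModel.T M, x * y = y * x := by
  intro x hx y hy
  obtain ⟨g, hg, rfl⟩ := (mem_T M).1 hx
  obtain ⟨k, hk, rfl⟩ := (mem_T M).1 hy
  rw [← map_mul, ← map_mul]
  congr 1
  exact Subtype.ext (tor_comm hM hd hg hk)

theorem mem_LL {i : Fin n} {x : K} (hx : x ∈ Nodes.WittModel.X M (sr i) ⊔ Nodes.WittModel.X M (-sr i)) :
    ∃ (g : V ≃ₗ[F] V) (hg : g ∈ M.I), g ∈ rg Fr (sr i) ⊔ rg Fr (-sr i) ∧ x = M.φ ⟨g, hg⟩ := by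
  unfold Nodes.WittModel.X at hx
  rw [← Subgroup.map_sup, ← Subgroup.subgroupOf_sup (hM.rg_le _) (hM.rg_le _)] at hx
  obtain ⟨⟨g, hg⟩, h, rfl⟩ := hx
  exact ⟨g, hg, h, rfl⟩

theorem mem_TL {i : Fin n} {x : K} (hx : x ∈ Nodes.WittModel.X M (sr i) ⊔ Nodes.WittModel.X M (-sr i))
    (hT : x ∈ Nodes.WittModel.T M) : ∃ (g : V ≃ₗ[F] V) (hg : g ∈ TL Fr M.I i), x = M.φ ⟨g, hg.2.1⟩ := by
  obtain ⟨g, hg, h1, rfl⟩ := mem_LL M hM hx
  exact ⟨g, ⟨h1, tor_of_T M hg hT⟩, rfl⟩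

theorem LL_of {i : Fin n} {g : V ≃ₗ[F] V} (hg : g ∈ M.I) (h : g ∈ rg Fr (sr i) ⊔ rg Fr (-sr i)) :
    M.φ ⟨g, hg⟩ ∈ Nodes.WittModel.X M (sr i) ⊔ Nodes.WittModel.X M (-sr i) := by
  unfold Nodes.WittModel.X
  rw [← Subgroup.map_sup, ← Subgroup.subgroupOf_sup (hM.rg_le _) (hM.rg_le _)]
  exact Subgroup.mem_map_of_mem _ (Subgroup.mem_subgroupOf.2 h)

/-- **The rank one tori of the model are cyclic.** -/
theorem cyc [Finite V] {d : V} (hd : Fr.V0 ≤ Submodule.span F {d}) (i : Fin n) :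
    ∃ c ∈ Nodes.WittModel.X M (sr i) ⊔ Nodes.WittModel.X M (-sr i), c ∈ Nodes.WittModel.T M ∧
      ∀ x ∈ Nodes.WittModel.X M (sr i) ⊔ Nodes.WittModel.X M (-sr i), x ∈ Nodes.WittModel.T M → ∃ k : ℤ, x = c ^ k := by
  have := isCyclic_TL hM hd i
  obtain ⟨c, hc⟩ := IsCyclic.exists_generator (α := ↥(TL Fr M.I i))
  refine ⟨M.φ ⟨c.1, c.2.2.1⟩, LL_of M hM _ c.2.1, mem_T_of M c.2.2, ?_⟩
  intro x hx hT
  obtain ⟨g, hg, rfl⟩ := mem_TL M hM hx hT
  obtain ⟨k, hk⟩ := Subgroup.mem_zpowers_iff.1 (hc ⟨g, hg⟩)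
  refine ⟨k, ?_⟩
  rw [← map_zpow]
  congr 1
  apply Subtype.ext
  have := congrArg Subtype.val hk
  rw [Subgroup.coe_zpow] at this
  rw [Subgroup.coe_zpow]
  exact this.symm

theorem isCyclic_T [Finite V] {d : V} (hd : Fr.V0 ≤ Submodule.span F {d}) (i : Fin n) :
    IsCyclic ↥(Nodes.WittModel.T M ⊓ Nodes.FreeTorus.LL (Nodes.WittModel.X M) (sr i)) := by
  obtain ⟨c, h1, h2, h3⟩ := cyc M hM hd i
  refine ⟨⟨⟨c, h2, h1⟩, ?_⟩⟩
  rintro ⟨x, hT, hL⟩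
  obtain ⟨k, hk⟩ := h3 x hL hT
  exact ⟨k, Subtype.ext (by rw [Subgroup.coe_zpow]; exact hk.symm)⟩

/-- **The Weyl element of a root of type `X` inverts the rank one torus.** -/
theorem nw_inv {d : V} (hd : Fr.V0 ≤ Submodule.span F {d}) {p0 : Fr.Adm} (hp0 : p0.c ≠ 0) {i : Fin n}
    (hi : (i : ℕ) + 1 < n) : ∀ x ∈ Nodes.WittModel.X M (sr i) ⊔ Nodes.WittModel.X M (-sr i), x ∈ Nodes.WittModel.T M →
      Nodes.WittModel.nw M hM p0 i * x * (Nodes.WittModel.nw M hM p0 i)⁻¹ * x = 1 := by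
  intro x hx hT
  obtain ⟨g, hg, rfl⟩ := mem_TL M hM hx hT
  unfold Nodes.WittModel.nw
  rw [← map_mul, ← map_inv, ← map_mul, ← map_mul]
  rw [show ((⟨Nodes.WittRGD.nn Fr p0 i, nn_mem hM p0 i⟩ : M.I) * ⟨g, hg.2.1⟩ * (⟨Nodes.WittRGD.nn Fr p0 i, nn_mem hM p0 i⟩ : M.I)⁻¹ *
    ⟨g, hg.2.1⟩) = 1 from Subtype.ext (nn_inv hM hd hp0 hi hg), map_one]

theorem fix_of {i : Fin n} {g : V ≃ₗ[F] V} (hg : g ∈ Tor Fr M.I)
    (h : ∀ u ∈ rg Fr (sr i), g * u * g⁻¹ = u → u = 1) :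
    ∀ x ∈ Nodes.WittModel.X M (sr i), M.φ ⟨g, hg.1⟩ * x * (M.φ ⟨g, hg.1⟩)⁻¹ = x → x = 1 := by
  intro x hx he
  obtain ⟨u, hu, hur, rfl⟩ := (Nodes.WittModel.mem_X M).1 hx
  have hc : g * u * g⁻¹ * u⁻¹ ∈ M.I := mul_mem (mul_mem (mul_mem hg.1 hu) (inv_mem hg.1)) (inv_mem hu)
  have h1 : M.φ ⟨g * u * g⁻¹ * u⁻¹, hc⟩ = 1 := by
    have : (⟨g * u * g⁻¹ * u⁻¹, hc⟩ : M.I) = ⟨g, hg.1⟩ * ⟨u, hu⟩ * (⟨g, hg.1⟩ : M.I)⁻¹ * (⟨u, hu⟩ : M.I)⁻¹ := rfl
    rw [this, map_mul, map_mul, map_mul, map_inv, map_inv, he, mul_inv_cancel]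
  have h2 : g * u * g⁻¹ * u⁻¹ ∈ rg Fr (sr i) := by
    refine mul_mem ?_ (inv_mem hur)
    rw [rg_sr] at hur ⊢
    rw [← hM.cj_id hg.1 hg.2 (ok_nx i)]
    exact conj_mem_cj.2 hur
  have h3 : g * u * g⁻¹ * u⁻¹ = 1 := by
    rw [rg_sr] at h2
    exact eq_one_of_scalar hM (ok_nx i) h2 (ker_scalar M hc h1)
  have h4 := h u hur (mul_inv_eq_one.1 h3)
  subst h4
  exact map_one M.φ

/-- a torus element fixed-point-free on `X_{α_i}`, `i` not the last node -/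
theorem exists_fpf {p0 : Fr.Adm} (hc : p0.c ≠ 0) {μ : F} (hμ : μ ≠ 0) (h1 : μ * H.σ μ ≠ 1) {i : Fin n}
    (hi : (i : ℕ) + 1 < n) :
    ∃ a ∈ Nodes.WittModel.T M, ∀ x ∈ Nodes.WittModel.X M (sr i), a * x * a⁻¹ = x → x = 1 := by
  refine ⟨_, mem_T_of M (hz_mem_Tor hM hc hμ (i, true)), fix_of M hM (hz_mem_Tor hM hc hμ (i, true)) ?_⟩
  intro u hu h
  rw [rg_sr] at hu
  have hne : ((i, true) : Fin n × Bool).1 ≠ (nx i).1 := by unfold nx; rw [dif_pos hi]; simp [Fin.ext_iff]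
  exact fpf_X hM hc hμ h1 hne hu h

/-- a torus element which centralises `X_{α_i}` and is fixed-point-free on `X_{α_j}`, `j` the last node, `i` the last
but one -/
theorem exists_sep {p0 : Fr.Adm} (hw : p0.w = 0) (hc : p0.c ≠ 0) {μ : F} (hμ : μ ≠ 0) (h1 : μ * H.σ μ ≠ 1)
    (h1' : μ * H.σ μ ≠ -1) {i j : Fin n} (hi : (i : ℕ) + 1 = j) (hj : ¬ (j : ℕ) + 1 < n) :
    ∃ a ∈ Nodes.WittModel.T M, (∀ x ∈ Nodes.WittModel.X M (sr i), a * x * a⁻¹ = x) ∧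
      ∀ x ∈ Nodes.WittModel.X M (sr j), a * x * a⁻¹ = x → x = 1 := by
  have hi' : (i : ℕ) + 1 < n := by rw [hi]; exact j.2
  have hne : ((i, true) : Fin n × Bool).1 ≠ ((j, true) : Fin n × Bool).1 := by
    simp only [ne_eq, Fin.ext_iff]; omega
  have hnxi : nx i = ng (j, true) := by
    unfold nx; rw [dif_pos hi']
    exact Prod.ext (Fin.ext hi) rfl
  have hnxj : nx j = (j, true) := by unfold nx; rw [dif_neg hj]
  have hT := mul_mem (hz_mem_Tor hM hc hμ (i, true)) (hz_mem_Tor hM hc hμ (j, true))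
  refine ⟨_, mem_T_of M hT, ?_, fix_of M hM hT ?_⟩
  · intro x hx
    obtain ⟨u, hu, hur, rfl⟩ := (Nodes.WittModel.mem_X M).1 hx
    rw [rg_sr, hnxi] at hur
    rw [← map_inv, ← map_mul, ← map_mul]
    congr 1
    exact Subtype.ext (cent_X hM hc hμ hne hur)
  · intro u hu h
    rw [rg_sr, hnxj] at hu
    exact fpf_Z hM hw hc hμ h1 h1' hne hu h

end Model

end Cfsg.Agent.ParSys.Fam.WittTor
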