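import Cfsg.Agent.ParSys.Fam.Witt
import Cfsg.Agent.ParSys.Fam.WittTor

/-!
# THEOREM PAR: the facts on `U₄(q)`, `U₅(q)`, `q ≥ 4` even

`hasKPairSep_model`: models over Witt frames of index two; `hasKPairSep_PSU`: `PSU 4`, `PSU 5`.
-/

set_option autoImplicit false
set_option linter.unusedSectionVars false

namespace Cfsg.Agent.ParSys.Fam.Unitary

open Cfsg Cfsg.Agent.LieClassical.HermBasic
open Cfsg.Agent.ChevalleyStructure.CoxeterGeom Cfsg.Agent.Tits.Roots Cfsg.Agent.Nodes.TypeC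
open Cfsg.Agent.Nodes.WittRoot Cfsg.Agent.Nodes.WittU
open Cfsg.Agent.TitsThree Cfsg.Agent.TitsThree.Siegel Cfsg.Agent.TitsThree.SiegelGen
  Cfsg.Agent.TitsThree.WittFrame Cfsg.Agent.TitsThree.WBridge
  Cfsg.Agent.TitsThree.FrameCN Cfsg.Agent.TitsThree.KSideU Cfsg.Agent.TitsThree.KSideUDesc

section Model

variable {F : Type*} [Field F] {V : Type*} [AddCommGroup V] [Module F V] {H : HForm F V} {Fr : Frame H (Fin 2)}
  {K : Type*} [Group K] (M : Model Fr K)

/-- **`HasKPairSep` for a model over a Witt frame of index two.** -/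
theorem hasKPairSep_model (hA : Amb Fr M.I) [Finite V] [Finite K] [IsSimpleGroup K] {p : ℕ} [Fact p.Prime] [CharP F p]
    (hDer : Witt.Der Fr) {d : V} (hd : Fr.V0 ≤ Submodule.span F {d}) {p0 : Fr.Adm} (hw : p0.w = 0) (hc : p0.c ≠ 0)
    {μ : F} (hμ : μ ≠ 0) (h1 : μ * H.σ μ ≠ 1) (h1' : μ * H.σ μ ≠ -1) : HasKPairSep p K :=
  Witt.hasKPairSep M hA hc hDer (WittTor.T_comm M hA hd) (WittTor.isCyclic_T M hA hd 0)
    (WittTor.isCyclic_T M hA hd 1) (Or.inl fun t hT hL => WittTor.nw_inv M hA hd hc (by decide) t hL hT)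
    (WittTor.exists_fpf M hA hc hμ h1 (by decide))
    (WittTor.exists_sep M hA hw hc hμ h1 h1' (by decide) (by decide))

end Model

section PSU

variable {F : Type*} [Field F] [Fintype F] {q : ℕ} (hF : Fintype.card F = q ^ 2)

include hF in
theorem exists_mu (hq : 3 ≤ q) : ∃ μ : F, μ ≠ 0 ∧ μ * μ ^ q ≠ 1 := by
  classical
  obtain ⟨g, hg⟩ := IsCyclic.exists_generator (α := Fˣ)
  refine ⟨g, g.ne_zero, fun h => ?_⟩
  have h1 : orderOf g = q ^ 2 - 1 := by
    rw [orderOf_eq_card_of_forall_mem_zpowers hg, Nat.card_eq_fintype_card, Fintype.card_units, hF]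
  have h2 : g ^ (q + 1) = 1 := by
    apply Units.ext
    rw [Units.val_pow_eq_pow_val, pow_succ', h, Units.val_one]
  have h3 := orderOf_dvd_of_pow_eq_one h2
  rw [h1] at h3
  have h4 := Nat.le_of_dvd (by omega) h3
  have h5 : q ^ 2 = q * q := sq q
  have h6 : 3 * q ≤ q * q := Nat.mul_le_mul_right q hq
  omega

theorem neg_one_eq [CharP F 2] : (-1 : F) = 1 := by
  have : CharP F 2 := inferInstance
  exact (CharTwo.neg_eq (1 : F))

theorem exists_tr (hF : Fintype.card F = q ^ 2) : ∃ l : F, l + l ^ q = 1 := exists_trace_eq hF (by rw [one_pow])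

include hF in
/-- **`U₄(q)` and `U₅(q)`**, `q ≥ 4` even -/
theorem hasKPairSep_PSU [CharP F 2] {N : ℕ} (hN : N = 4 ∨ N = 5) (hq : 3 ≤ q) : HasKPairSep 2 (PSU N F q) := by
  have hs : IsSimpleGroup (PSU N F q) := isSimple hF (by omega)
  have : Finite (PSU N F q) := inferInstance
  have : Fact (Nat.Prime 2) := ⟨Nat.prime_two⟩
  obtain ⟨μ, hμ, hμ1⟩ := exists_mu hF hq
  rcases hN with rfl | rfl
  · obtain ⟨W, hW⟩ := exists_wframe_even (N := 4) hF (m := 2) rfl
    obtain ⟨p0, hp0, hw0⟩ := exists_adm hF W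
    have hV0 : ∀ p : (toFrame W).Adm, p.w = 0 := by
      intro p
      have h := (toFrame W).ok_mem p.ok
      have h' : p.w ∈ W.V0 := h
      rw [hW] at h'
      exact (Submodule.mem_bot F).1 h'
    obtain ⟨l, hl⟩ := exists_tr hF
    refine hasKPairSep_model (KInstU.model hF (by norm_num) W) (amb_U hF W)
      (Witt.der_u4 hV0 ⟨l, hl⟩ ⟨p0, hp0⟩) (d := 0) ?_ hw0 hp0 hμ hμ1 (by rw [neg_one_eq]; exact hμ1)
    intro v hv
    have h' : v ∈ W.V0 := hv
    rw [hW] at h'
    rw [(Submodule.mem_bot F).1 h']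
    exact Submodule.zero_mem _
  · obtain ⟨W, d, hd, hW⟩ := exists_wframe_odd (N := 5) hF (m := 2) rfl
    obtain ⟨p0, hp0, hw0⟩ := exists_adm hF W
    have hdV : d ∈ W.V0 := by rw [hW]; exact Submodule.mem_span_singleton_self d
    obtain ⟨l, hl⟩ := exists_tr hF
    have hok : (toFrame W).ok d (-l) := by
      refine ⟨hdV, ?_⟩
      rw [ok_iff, hd]
      have : (-l) ^ q = -(l ^ q) := by
        have := map_neg (conj hF) l
        exact this
      rw [this]
      linear_combination -hl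
    refine hasKPairSep_model (KInstU.model hF (by norm_num) W) (amb_U hF W)
      (Witt.der_u5 ⟨⟨d, -l, hok⟩, ⟨d, -l, hok⟩, ?_⟩) (d := d) ?_ hw0 hp0 hμ hμ1 (by rw [neg_one_eq]; exact hμ1)
    · rw [HU_h, hd]
      exact one_ne_zero
    · show W.V0 ≤ _
      rw [hW]

end PSU

end Cfsg.Agent.ParSys.Fam.Unitary
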