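import Cfsg.Agent.ParSys.OfQuasi
import Cfsg.Agent.ParSys.Fam.L3
import Cfsg.Agent.ParSys.Fam.Sp4
import Cfsg.Agent.ParSys.Fam.Unitary

/-!
# THEOREM PAR: the fact (T4) for `L₃(q)`, `Sp₄(q)`, `U₄(q)`, `U₅(q)`, `q ≥ 4` even

`FpfR Q UF s t`: an element of the torus of the rank one group at `t` is fixed-point-free on `UF / V_s`.
`HasKPairF`: `KPair`, `KTor` and `FpfR` in both orders.
-/

set_option autoImplicit false
set_option maxHeartbeats 400000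
set_option linter.unusedSectionVars false

namespace Cfsg.Agent.ParSys.Fam

open CoxeterSystem Cfsg.Agent.ChevalleyStructure.CoxeterGeom Cfsg.Agent.Tits.Roots Cfsg.Agent.Tits.Core
  Cfsg.Agent.Tits.RootComb Cfsg.Agent.Nodes.Comb Cfsg.Agent.Nodes.Reps Cfsg.Agent.Nodes.BNOf Cfsg.Agent.Nodes.BNOf.RGD
open Cfsg.Agent.Nodes.RGDLib Cfsg.Agent.Nodes.FreeTorus

section rgd

variable {I : Type*} [Fintype I] [DecidableEq I] {M : CoxeterMatrix I} {W : Type*} [Group W] [Finite W]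
  {cs : CoxeterSystem M W} {A : I → I → ℤ} {h : IsCartan M A} {Y : Type*} [Group Y] {p : ℕ} {T : Subgroup Y}
  {n : I → Y} {X : (I → ℤ) → Subgroup Y}

theorem kFpfR_of_rgd [Finite Y] (R : RGD cs h p T n X) (hgen : B cs h T X ⊔ NN cs R.nsys = ⊤) (i j : I)
    (hf : ∃ a ∈ T, a ∈ LL X (sr j) ∧ ∀ x ∈ X (sr i), a * x * a⁻¹ = x → x = 1) :
    FpfR (R.bnPair hgen) (Sup X (Pos cs h)) (n i) (n j) := by
  obtain ⟨a, ha, haL, hfix⟩ := hf
  exact ⟨a, LL_le_Rone R j haL, T_le_BN R hgen ha, fpf_of_rgd R hgen i ha hfix⟩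

/-- **`HasKPairF`.** -/
theorem hasKPairF_of_rgd [Finite Y] [Fact p.Prime] [IsSimpleGroup Y] (R : RGD cs h p T n X) (hG : G1 cs h X = ⊤)
    {i j : I} (hij : i ≠ j) (hI : ∀ k, k = i ∨ k = j) (hM : M i j ≠ 2)
    (hX : ∀ z, IsRoot cs h z → 0 ≤ z → z ≠ sr i → z ≠ sr j →
      X z ≤ ⁅Sup X (Pos cs h), Sup X (Pos cs h)⁆)
    (hT : ∀ x ∈ T, ∀ y ∈ T, x * y = y * x)
    (hci : IsCyclic ↥(T ⊓ LL X (sr i))) (hcj : IsCyclic ↥(T ⊓ LL X (sr j)))
    (hinv : (∀ t ∈ T, t ∈ LL X (sr i) → n i * t * (n i)⁻¹ * t = 1) ∨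
      ∀ t ∈ T, t ∈ LL X (sr j) → n j * t * (n j)⁻¹ * t = 1)
    (hi : ∃ a ∈ T, a ∈ LL X (sr j) ∧ ∀ x ∈ X (sr i), a * x * a⁻¹ = x → x = 1)
    (hj : ∃ a ∈ T, a ∈ LL X (sr i) ∧ ∀ x ∈ X (sr j), a * x * a⁻¹ = x → x = 1) : HasKPairF p Y :=
  ⟨_, _, _, _, kPair_of_rgd R hG hij hI hM hX hT (by obtain ⟨a, h1, -, h2⟩ := hi; exact ⟨a, h1, h2⟩)
    (by obtain ⟨a, h1, -, h2⟩ := hj; exact ⟨a, h1, h2⟩), kTor_of_rgd R _ i j hci hcj hinv,
    kFpfR_of_rgd R _ i j hi, kFpfR_of_rgd R _ j i hj⟩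

end rgd

end Cfsg.Agent.ParSys.Fam

/-! ### `L₃(q)` -/

namespace Cfsg.Agent.ParSys.Fam.L3

open Matrix CoxeterSystem Cfsg.Agent.ChevalleyStructure.CoxeterGeom Cfsg.Agent.Tits.Roots Cfsg.Agent.Tits.Core
  Cfsg.Agent.Tits.RootComb Cfsg.Agent.Nodes.Comb Cfsg.Agent.Nodes.Reps Cfsg.Agent.Nodes.BNOf Cfsg.Agent.Nodes.BNOf.RGD
open Cfsg.Agent.Nodes.RGDLib Cfsg.Agent.Nodes.RootsA Cfsg.Agent.Nodes.RGDTypeA
open Cfsg.Agent.LieRecognition.BNCox (cA)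
open Cfsg.Agent.Nodes.FreeTorus
open Cfsg.Agent.TitsThree.KSideA (tv diag2n_eq)

variable {F : Type*} [Field F]

theorem diag2n_mem {a b : Fin 3} (h : a ≠ b) {t : F} (ht : t ≠ 0) :
    SpecialLinearGroup.diag2n h t ht ∈ XX F a b ⊔ XX F b a := by
  rw [diag2n_eq]
  have h1 : ∀ s : F, tv a b s ∈ XX F a b ⊔ XX F b a := fun s => Subgroup.mem_sup_left (tv_mem_XX _ _ _)
  have h2 : ∀ s : F, tv b a s ∈ XX F a b ⊔ XX F b a := fun s => Subgroup.mem_sup_right (tv_mem_XX _ _ _)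
  exact mul_mem (mul_mem (mul_mem (h1 _) (h2 _)) (h1 _)) (inv_mem (mul_mem (mul_mem (h1 _) (h2 _)) (h1 _)))

theorem exists_ne_one [Finite F] (hF : 4 ≤ Nat.card F) : ∃ a : F, a ≠ 0 ∧ a ≠ 1 := Sp4.exists_ne hF

/-- **`PSL₃(q)`, `q ≥ 4` even** -/
theorem hasKPairF [Finite F] [CharP F 2] (hF : 4 ≤ Nat.card F) :
    HasKPairF 2 (ProjectiveSpecialLinearGroup (Fin 3) F) := by
  classical
  have : Fact (Nat.Prime 2) := ⟨Nat.prime_two⟩
  have : Finite (cA 2).Group := finite_W (cA 2).toCoxeterSystem (isCartan 2)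
  have : Finite (ProjectiveSpecialLinearGroup (Fin 3) F) := Quotient.finite _
  have : IsSimpleGroup (ProjectiveSpecialLinearGroup (Fin 3) F) := TitsThree.KSideA.isSimpleGroup le_rfl
  have R := rgd_psl (F := F) (p := 2) (cA 2).toCoxeterSystem (isCartan 2)
  have hG := G1_psl_eq_top (F := F) (cA 2).toCoxeterSystem (isCartan 2)
  obtain ⟨a, ha, ha1⟩ := exists_ne_one hF
  have hne : a⁻¹ ≠ 1 := fun e => ha1 (inv_eq_one.1 e)
  refine hasKPairF_of_rgd R hG (i := 0) (j := 1) (by decide) hI hM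
    (fun z hz h0 h1 h2 => hX (cA 2).toCoxeterSystem z hz h0 h1 h2) hT hci hcj (Or.inl hinv)
    ⟨_, ⟨_, diag_mem_T (show (1 : Fin 3) ≠ 2 by decide) ha, rfl⟩, ?_, fun x hx he =>
      fpf (a := 0) (b := 1) (diag_mem_T (show (1 : Fin 3) ≠ 2 by decide) ha) (by decide) ?_ x
        (by rw [← X_zero]; exact hx) he⟩
    ⟨_, ⟨_, diag_mem_T (show (0 : Fin 3) ≠ 1 by decide) ha, rfl⟩, ?_, fun x hx he =>
      fpf (a := 1) (b := 2) (diag_mem_T (show (0 : Fin 3) ≠ 1 by decide) ha) (by decide) ?_ x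
        (by rw [← X_one]; exact hx) he⟩
  · rw [LL_map, LL_one]
    exact ⟨_, diag2n_mem _ ha, rfl⟩
  · rw [(val_diag' a ha).1, (val_diag' a ha).2.1]
    exact Ne.symm ha1
  · rw [LL_map, LL_zero]
    exact ⟨_, diag2n_mem _ ha, rfl⟩
  · rw [(val_diag a ha).2.1, (val_diag a ha).2.2]
    exact hne

end Cfsg.Agent.ParSys.Fam.L3

/-! ### `Sp₄(q)`, `U₄(q)`, `U₅(q)` -/

namespace Cfsg.Agent.ParSys.Fam.WittTor

open Cfsg.Agent.ChevalleyStructure.CoxeterGeom Cfsg.Agent.Tits.Roots Cfsg.Agent.Nodes.TypeC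
open Cfsg.Agent.Nodes.Comb Cfsg.Agent.Nodes.Reps Cfsg.Agent.Nodes.WittRoot Cfsg.Agent.Nodes.BNOf
open Cfsg.Agent.Nodes.WittRGD Cfsg.Agent.Nodes.RGDLib
open Cfsg.Agent.TitsThree Cfsg.Agent.TitsThree.Siegel Cfsg.Agent.TitsThree.WittFrame
  Cfsg.Agent.TitsThree.WittWeyl Cfsg.Agent.TitsThree.FrameCN
open Cfsg.Agent.Nodes.FreeTorus (LL)

variable {F : Type*} [Field F] {V : Type*} [AddCommGroup V] [Module F V] {H : HForm F V} {n : ℕ}
  {Fr : Frame H (Fin n)} {G0 : Subgroup (V ≃ₗ[F] V)} (hA : Amb Fr G0)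

/-- the torus element of the rank one group of `X_{x,y}` -/
noncomputable def hx (Fr : Frame H (Fin n)) (x y : Fin n × Bool) (μ : F) : V ≃ₗ[F] V :=
  nX Fr x y μ * (nX Fr x y 1)⁻¹

theorem inv_apply_of {g : V ≃ₗ[F] V} {v w : V} (h : g v = w) : g⁻¹ w = v := by
  rw [← h, ← mul_apply', inv_mul_cancel]; rfl

section hx

variable {x y : Fin n × Bool} (h : x.1 ≠ y.1) {μ : F} (hμ : μ ≠ 0)

include h hμ

theorem hx_x : hx Fr x y μ (Fr.b x) = μ • Fr.b x := by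
  have h1 := nX_apply_neg Fr h (t := (1 : F)) one_ne_zero
  rw [one_smul] at h1
  rw [hx, mul_apply', inv_apply_of h1, nX_apply_neg Fr h hμ]

theorem hx_neg_y : hx Fr x y μ (Fr.b (neg y)) = μ⁻¹ • Fr.b (neg y) := by
  have h1 := nX_apply_self Fr h (t := (1 : F)) one_ne_zero
  have h2 : nX Fr x y (1 : F) (-Fr.b x) = Fr.b (neg y) := by
    rw [map_neg, h1, inv_one, one_smul, _root_.neg_neg]
  rw [hx, mul_apply', inv_apply_of h2, map_neg, nX_apply_self Fr h hμ, _root_.neg_neg]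

theorem hx_y : hx Fr x y μ (Fr.b y) = H.σ μ • Fr.b y := by
  have h1 := nX_apply_neg' Fr h (t := (1 : F)) one_ne_zero
  have hc : H.ε⁻¹ * Fr.η x * Fr.η y ≠ 0 := mul_ne_zero (mul_ne_zero (inv_ne_zero H.ε_ne) (Fr.η_ne x)) (Fr.η_ne y)
  rw [map_one, mul_one] at h1
  have h2 : nX Fr x y (1 : F) (-((H.ε⁻¹ * Fr.η x * Fr.η y)⁻¹ • Fr.b (neg x))) = Fr.b y := by
    rw [map_neg, map_smul, h1, smul_neg, _root_.neg_neg, smul_smul, inv_mul_cancel₀ hc, one_smul]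
  rw [hx, mul_apply', inv_apply_of h2, map_neg, map_smul, nX_apply_neg' Fr h hμ, smul_neg, _root_.neg_neg, smul_smul,
    inv_mul_cancel_left₀ hc]

theorem hx_neg_x : hx Fr x y μ (Fr.b (neg x)) = (H.σ μ)⁻¹ • Fr.b (neg x) := by
  have h1 := nX_apply_self' Fr h (t := (1 : F)) one_ne_zero
  have hc : H.ε⁻¹ * Fr.η x * Fr.η y ≠ 0 := mul_ne_zero (mul_ne_zero (inv_ne_zero H.ε_ne) (Fr.η_ne x)) (Fr.η_ne y)
  rw [map_one, mul_one] at h1
  have h2 : nX Fr x y (1 : F) ((H.ε⁻¹ * Fr.η x * Fr.η y) • Fr.b y) = Fr.b (neg x) := by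
    rw [map_smul, h1, smul_smul, mul_inv_cancel₀ hc, one_smul]
  rw [hx, mul_apply', inv_apply_of h2, map_smul, nX_apply_self' Fr h hμ, smul_smul, mul_inv, mul_inv_cancel_left₀ hc]

omit hμ in
theorem hx_of_ne {z : Fin n × Bool} (h1 : z.1 ≠ x.1) (h2 : z.1 ≠ y.1) : hx Fr x y μ (Fr.b z) = Fr.b z := by
  rw [hx, mul_apply', inv_apply_of (nX_apply_of_ne Fr h h1 h2 1), nX_apply_of_ne Fr h h1 h2]

omit hμ in
theorem hx_V0 {v : V} (hv : v ∈ Fr.V0) : hx Fr x y μ v = v := by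
  rw [hx, mul_apply', inv_apply_of (nX_apply_V0 Fr h hv 1), nX_apply_V0 Fr h hv]

end hx

include hA in
theorem hx_mem_Tor {x y : Fin n × Bool} (h : x.1 ≠ y.1) {μ : F} (hμ : μ ≠ 0) : hx Fr x y μ ∈ Tor Fr G0 := by
  refine ⟨mul_mem (nX_mem hA _ _ _) (inv_mem (nX_mem hA _ _ _)), ?_⟩
  intro z
  have h0 : H.σ μ ≠ 0 := by simpa using hμ
  by_cases h1 : z.1 = x.1
  · rcases eq_or_ng h1 with rfl | rfl
    · exact ⟨_, hμ, hx_x h hμ⟩
    · exact ⟨_, inv_ne_zero h0, hx_neg_x h hμ⟩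
  · by_cases h2 : z.1 = y.1
    · rcases eq_or_ng h2 with rfl | rfl
      · exact ⟨_, h0, hx_y h hμ⟩
      · exact ⟨_, inv_ne_zero hμ, hx_neg_y h hμ⟩
    · exact ⟨1, one_ne_zero, by rw [one_smul]; exact hx_of_ne h h1 h2⟩

theorem nX_mem_sup {x y : Fin n × Bool} (h : x.1 ≠ y.1) (t : F) :
    nX Fr x y t ∈ PG Fr x y ⊔ PG Fr (ng x) (ng y) := by
  have h1 : ∀ s : F, Fr.X x y s ∈ PG Fr x y ⊔ PG Fr (ng x) (ng y) := fun s =>
    Subgroup.mem_sup_left (by rw [PG_ne Fr h]; exact ⟨s, rfl⟩)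
  have h2 : ∀ s : F, Fr.X (neg y) (neg x) s ∈ PG Fr x y ⊔ PG Fr (ng x) (ng y) := fun s =>
    Subgroup.mem_sup_right (by
      rw [PG_ne Fr (a := ng x) (b := ng y) h, XG_swap Fr (a := ng x) (b := ng y) h]
      exact ⟨s, rfl⟩)
  exact mul_mem (mul_mem (h1 _) (h2 _)) (h1 _)

theorem hx_mem_sup {x y : Fin n × Bool} (h : x.1 ≠ y.1) (μ : F) :
    hx Fr x y μ ∈ PG Fr x y ⊔ PG Fr (ng x) (ng y) :=
  mul_mem (nX_mem_sup h μ) (inv_mem (nX_mem_sup h 1))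

theorem nZ_mem_sup' (x : Fin n × Bool) (p : Fr.Adm) : nZ Fr x p ∈ PG Fr x x ⊔ PG Fr (ng x) (ng x) := by
  have h1 : ∀ q : Fr.Adm, Fr.Z x q ∈ PG Fr x x ⊔ PG Fr (ng x) (ng x) := fun q =>
    Subgroup.mem_sup_left (by rw [PG_self]; exact ⟨q, rfl⟩)
  have h2 : ∀ q : Fr.Adm, Fr.Z (neg x) q ∈ PG Fr x x ⊔ PG Fr (ng x) (ng x) := fun q =>
    Subgroup.mem_sup_right (by rw [PG_self]; exact ⟨q, rfl⟩)
  exact mul_mem (mul_mem (h1 _) (h2 _)) (h1 _)

theorem hz_mem_sup (x : Fin n × Bool) (p0 : Fr.Adm) (μ : F) : hz Fr x p0 μ ∈ PG Fr x x ⊔ PG Fr (ng x) (ng x) :=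
  mul_mem (nZ_mem_sup' x _) (inv_mem (nZ_mem_sup' x _))

section Model

variable {K : Type*} [Group K] (M : Model Fr K) (hM : Amb Fr M.I)

include hM

/-- an element of the rank one torus of the last node is fixed-point-free on the root group of the last but one -/
theorem exists_fpfR_last {p0 : Fr.Adm} (hc : p0.c ≠ 0) {μ : F} (hμ : μ ≠ 0) (h1 : μ * H.σ μ ≠ 1) {i j : Fin n}
    (hi : (i : ℕ) + 1 = j) (hj : ¬ (j : ℕ) + 1 < n) :
    ∃ a ∈ Nodes.WittModel.T M, a ∈ LL (Nodes.WittModel.X M) (sr j) ∧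
      ∀ x ∈ Nodes.WittModel.X M (sr i), a * x * a⁻¹ = x → x = 1 := by
  have hi' : (i : ℕ) + 1 < n := by rw [hi]; exact j.2
  have hne : ((i, true) : Fin n × Bool).1 ≠ ((j, true) : Fin n × Bool).1 := by
    simp only [ne_eq, Fin.ext_iff]; omega
  have hnxi : nx i = ng (j, true) := by
    unfold nx; rw [dif_pos hi']
    exact Prod.ext (Fin.ext hi) rfl
  have hnxj : nx j = (j, true) := by unfold nx; rw [dif_neg hj]
  have hT := hz_mem_Tor hM hc hμ ((j, true) : Fin n × Bool)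
  refine ⟨_, mem_T_of M hT, LL_of M hM hT.1 ?_, fix_of M hM hT ?_⟩
  · rw [rg_sr, rg_neg_sr, hnxj]
    exact hz_mem_sup _ _ _
  · intro u hu h
    rw [rg_sr, hnxi, PG_ne Fr (b := ng (j, true)) hne] at hu
    obtain ⟨t, rfl⟩ := hu
    have ha : hz Fr (j, true) p0 μ (Fr.b (i, true)) = (1 : F) • Fr.b (i, true) := by
      rw [one_smul]; exact hz_of_ne _ hne
    have hb : hz Fr (j, true) p0 μ (Fr.b (ng (j, true))) = (μ * H.σ μ)⁻¹ • Fr.b (ng (j, true)) := hz_neg hc hμ _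
    rw [conj_X_tor (hM.iso _ hT.1) (y := ng (j, true)) hne ha hb] at h
    have h2 := X_inj (y := ng (j, true)) hne h
    have h0 : μ * H.σ μ ≠ 0 := mul_ne_zero hμ (by simpa using hμ)
    simp only [map_mul, map_inv₀, H.σσ, one_mul] at h2
    have h3 : (μ * H.σ μ - 1) * t = 0 := by
      have h4 : (H.σ μ * μ) * ((H.σ μ * μ)⁻¹ * t) = (H.σ μ * μ) * t := by rw [h2]
      rw [mul_inv_cancel_left₀ (by rw [mul_comm]; exact h0)] at h4
      linear_combination -h4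
    rw [(mul_eq_zero.1 h3).resolve_left (sub_ne_zero.2 h1), Fr.X_zero]

/-- an element of the rank one torus of the last but one node is fixed-point-free on the root group of the last node -/
theorem exists_fpfR_first {μ : F} (hμ : μ ≠ 0) (h1 : μ * H.σ μ ≠ 1) {i j : Fin n}
    (hi : (i : ℕ) + 1 = j) (hj : ¬ (j : ℕ) + 1 < n) :
    ∃ a ∈ Nodes.WittModel.T M, a ∈ LL (Nodes.WittModel.X M) (sr i) ∧
      ∀ x ∈ Nodes.WittModel.X M (sr j), a * x * a⁻¹ = x → x = 1 := by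
  have hi' : (i : ℕ) + 1 < n := by rw [hi]; exact j.2
  have hne : ((i, true) : Fin n × Bool).1 ≠ ((j, true) : Fin n × Bool).1 := by
    simp only [ne_eq, Fin.ext_iff]; omega
  have hnxi : nx i = ng (j, true) := by
    unfold nx; rw [dif_pos hi']
    exact Prod.ext (Fin.ext hi) rfl
  have hnxj : nx j = (j, true) := by unfold nx; rw [dif_neg hj]
  have hT := hx_mem_Tor hM (x := (i, true)) (y := ng (j, true)) hne hμ
  refine ⟨_, mem_T_of M hT, LL_of M hM hT.1 ?_, fix_of M hM hT ?_⟩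
  · rw [rg_sr, rg_neg_sr, hnxi]
    exact hx_mem_sup (x := (i, true)) (y := ng (j, true)) hne μ
  · intro u hu h
    rw [rg_sr, hnxj, PG_self] at hu
    obtain ⟨p, rfl⟩ := hu
    have hb : hx Fr (i, true) (ng (j, true)) μ (Fr.b (j, true)) = μ⁻¹ • Fr.b (j, true) := by
      have hb' := hx_neg_y (Fr := Fr) (x := (i, true)) (y := ng (j, true)) hne hμ
      have e : neg (ng ((j, true) : Fin n × Bool)) = (j, true) := rfl
      rw [e] at hb'
      exact hb'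
    have hpw : hx Fr (i, true) (ng (j, true)) μ p.w = p.w :=
      hx_V0 (Fr := Fr) (x := (i, true)) (y := ng (j, true)) (μ := μ) hne (Fr.ok_mem p.ok)
    rw [conj_Z Fr (hM.iso _ hT.1) hb p p hpw rfl] at h
    have h2 := Z_inj h
    rw [Frame.Adm.smul_c] at h2
    have h0 : μ * H.σ μ ≠ 0 := mul_ne_zero hμ (by simpa using hμ)
    have hσ : H.σ μ ≠ 0 := by simpa using hμ
    simp only [map_inv₀, H.σσ] at h2
    have h3 : (μ * H.σ μ - 1) * p.c = 0 := by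
      have h4 : (μ * H.σ μ) * ((H.σ μ)⁻¹ * μ⁻¹ * p.c) = (μ * H.σ μ) * p.c := by rw [h2]
      have h5 : (μ * H.σ μ) * ((H.σ μ)⁻¹ * μ⁻¹ * p.c) = p.c := by field_simp
      rw [h5] at h4
      linear_combination -h4
    have h4 : p.c = 0 := (mul_eq_zero.1 h3).resolve_left (sub_ne_zero.2 h1)
    have h5 : p.w = 0 := hM.ok_aniso _ (by have := p.ok; rwa [h4] at this)
    have h6 : p = 1 := Frame.Adm.ext h5 h4
    rw [h6, Fr.Z_one]

end Model

end Cfsg.Agent.ParSys.Fam.WittTor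

/-! ### Assembly -/

namespace Cfsg.Agent.ParSys.Fam.Unitary

open Cfsg CoxeterSystem Cfsg.Agent.LieClassical.HermBasic
open Cfsg.Agent.ChevalleyStructure.CoxeterGeom Cfsg.Agent.Tits.Roots Cfsg.Agent.Nodes.TypeC
open Cfsg.Agent.Nodes.Comb Cfsg.Agent.Nodes.Reps Cfsg.Agent.Nodes.BNOf Cfsg.Agent.Nodes.BNOf.RGD
open Cfsg.Agent.Nodes.WittRoot Cfsg.Agent.Nodes.WittU Cfsg.Agent.Nodes.WittRGD Cfsg.Agent.Nodes.RGDLib
open Cfsg.Agent.TitsThree Cfsg.Agent.TitsThree.Siegel Cfsg.Agent.TitsThree.SiegelGen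
  Cfsg.Agent.TitsThree.WittFrame Cfsg.Agent.TitsThree.WBridge
  Cfsg.Agent.TitsThree.FrameCN Cfsg.Agent.TitsThree.KSideU Cfsg.Agent.TitsThree.KSideUDesc

section Model

variable {F : Type*} [Field F] {V : Type*} [AddCommGroup V] [Module F V] {H : HForm F V} {Fr : Frame H (Fin 2)}
  {K : Type*} [Group K] (M : Model Fr K)

/-- **`HasKPairF` for a model over a Witt frame of index two.** -/
theorem hasKPairF_model (hA : Amb Fr M.I) [Finite V] [Finite K] [IsSimpleGroup K] {p : ℕ} [Fact p.Prime] [CharP F p]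
    (hDer : Witt.Der Fr) {d : V} (hd : Fr.V0 ≤ Submodule.span F {d}) {p0 : Fr.Adm} (hc : p0.c ≠ 0)
    {μ : F} (hμ : μ ≠ 0) (h1 : μ * H.σ μ ≠ 1) : HasKPairF p K := by
  have : Finite (CoxeterMatrix.B 2).Group := finite_W (CoxeterMatrix.B 2).toCoxeterSystem
  exact hasKPairF_of_rgd (Nodes.RGDAllP.rgd_model M hA hc (CoxeterMatrix.B 2).toCoxeterSystem)
    (Nodes.WittModel.G1_eq_top M (by omega) _) (i := 0) (j := 1) (by decide) Witt.hI Witt.hM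
    (fun z hz h0 h1 h2 => Witt.hX M hA hDer _ hz h0 h1 h2) (WittTor.T_comm M hA hd) (WittTor.isCyclic_T M hA hd 0)
    (WittTor.isCyclic_T M hA hd 1) (Or.inl fun t hT hL => WittTor.nw_inv M hA hd hc (by decide) t hL hT)
    (WittTor.exists_fpfR_last M hA hc hμ h1 (by decide) (by decide))
    (WittTor.exists_fpfR_first M hA hμ h1 (by decide) (by decide))

end Model

section PSU

variable {F : Type*} [Field F] [Fintype F] {q : ℕ} (hF : Fintype.card F = q ^ 2)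

include hF in
/-- **`U₄(q)` and `U₅(q)`**, `q ≥ 4` even -/
theorem hasKPairF_PSU [CharP F 2] {N : ℕ} (hN : N = 4 ∨ N = 5) (hq : 3 ≤ q) : HasKPairF 2 (PSU N F q) := by
  have hs : IsSimpleGroup (PSU N F q) := isSimple hF (by omega)
  have : Finite (PSU N F q) := inferInstance
  have : Fact (Nat.Prime 2) := ⟨Nat.prime_two⟩
  obtain ⟨μ, hμ, hμ1⟩ := exists_mu hF hq
  rcases hN with rfl | rfl
  · obtain ⟨W, hW⟩ := exists_wframe_even (N := 4) hF (m := 2) rfl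
    obtain ⟨p0, hp0, hw0⟩ := exists_adm hF W
    have hV0 : ∀ p : (toFrame W).Adm, p.w = 0 := by
      intro p
      have h := (toFrame W).ok_mem p.ok
      have h' : p.w ∈ W.V0 := h
      rw [hW] at h'
      exact (Submodule.mem_bot F).1 h'
    obtain ⟨l, hl⟩ := exists_tr hF
    refine hasKPairF_model (KInstU.model hF (by norm_num) W) (amb_U hF W)
      (Witt.der_u4 hV0 ⟨l, hl⟩ ⟨p0, hp0⟩) (d := 0) ?_ hp0 hμ hμ1
    intro v hv
    have h' : v ∈ W.V0 := hv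
    rw [hW] at h'
    rw [(Submodule.mem_bot F).1 h']
    exact Submodule.zero_mem _
  · obtain ⟨W, d, hd, hW⟩ := exists_wframe_odd (N := 5) hF (m := 2) rfl
    obtain ⟨p0, hp0, hw0⟩ := exists_adm hF W
    have hdV : d ∈ W.V0 := by rw [hW]; exact Submodule.mem_span_singleton_self d
    obtain ⟨l, hl⟩ := exists_tr hF
    have hok : (toFrame W).ok d (-l) := by
      refine ⟨hdV, ?_⟩
      rw [ok_iff, hd]
      have : (-l) ^ q = -(l ^ q) := by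
        have := map_neg (conj hF) l
        exact this
      rw [this]
      linear_combination -hl
    refine hasKPairF_model (KInstU.model hF (by norm_num) W) (amb_U hF W)
      (Witt.der_u5 ⟨⟨d, -l, hok⟩, ⟨d, -l, hok⟩, ?_⟩) (d := d) ?_ hp0 hμ hμ1
    · rw [HU_h, hd]
      exact one_ne_zero
    · show W.V0 ≤ _
      rw [hW]

end PSU

end Cfsg.Agent.ParSys.Fam.Unitary

namespace Cfsg.Agent.ParSys.Fam.Sp4

open Cfsg CoxeterSystem Cfsg.Agent.ChevalleyStructure.CoxeterGeom Cfsg.Agent.Tits.Roots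
open Cfsg.Agent.Nodes.Comb Cfsg.Agent.Nodes.Reps Cfsg.Agent.Nodes.BNOf Cfsg.Agent.Nodes.BNOf.RGD
open Cfsg.Agent.TitsThree Cfsg.Agent.TitsThree.Siegel Cfsg.Agent.TitsThree.WittFrame
  Cfsg.Agent.TitsThree.WittWeyl Cfsg.Agent.TitsThree.FrameCN Cfsg.Agent.TitsThree.SpIdent Cfsg.Agent.TitsThree.SpGen
open Cfsg.Agent.Nodes.TypeC Cfsg.Agent.Nodes.WittRoot Cfsg.Agent.Nodes.WittRGD Cfsg.Agent.Nodes.RGDLib
  Cfsg.Agent.Nodes.FreeTorus Cfsg.Agent.Nodes.WittU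

variable {F : Type*} [Field F]

/-- **`PSp₄(q)`, `q ≥ 4` even** -/
theorem hasKPairF [Finite F] [CharP F 2] (hF : 4 ≤ Nat.card F) : HasKPairF 2 (PSp 2 F) := by
  have : Fact (Nat.Prime 2) := ⟨Nat.prime_two⟩
  have : Finite (PSp 2 F) := Quotient.finite _
  have : IsSimpleGroup (PSp 2 F) := isSimple hF
  obtain ⟨a, ha0, ha1⟩ := exists_ne hF
  have h2 : (2 : F) = 0 := CharTwo.two_eq_zero
  have hsq : a * a ≠ 1 := by
    intro h
    apply ha1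
    have h3 : (a - 1) * (a - 1) = 0 := by linear_combination h - (a - 1) * h2
    exact sub_eq_zero.1 (mul_self_eq_zero.1 h3)
  refine Unitary.hasKPairF_model (KInstSp.model 2 F) amb_Sp (der ⟨a, ha0, ha1⟩) (d := 0) ?_
    (p0 := SpIdent.adm 1) (one_ne_zero : (1 : F) ≠ 0) (μ := a) ha0 hsq
  intro v hv
  have hv' : v = 0 := hv
  rw [hv']
  exact Submodule.zero_mem _

end Cfsg.Agent.ParSys.Fam.Sp4
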