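import Cfsg.Agent.ParSys.Fam.Rgd
import Cfsg.Agent.ParSys.Fam.ChevTor
import Cfsg.Agent.S1055

/-!
# THEOREM PAR: the facts on `G₂(q)`, `q ≥ 4` even
-/

set_option autoImplicit false
set_option linter.unusedSectionVars false

namespace Cfsg.Agent.ParSys.Fam.G2

open CoxeterSystem Cfsg.Agent.ChevalleyStructure.CoxeterGeom Cfsg.Agent.Tits.Roots Cfsg.Agent.Tits.Core
  Cfsg.Agent.Tits.RootComb Cfsg.Agent.Nodes.Comb Cfsg.Agent.Nodes.Reps Cfsg.Agent.Nodes.BNOf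
  Cfsg.Agent.Nodes.BNOf.RGD Cfsg.Agent.Nodes.RGDChev Cfsg.Agent.KFacts.RgdChevCoord
open Cfsg.Lie Cfsg.Agent.ChevalleyStructure Cfsg.Agent.ChevalleyStructure.Elts
open scoped commutatorElement

universe u

variable {K : Type u} [Field K]

theorem hp : IsType chevG2 2 CoxeterMatrix.G₂ := by
  simp only [IsType, typeList, List.mem_cons, true_or]

/-- the Coxeter system -/
abbrev cs : CoxeterSystem CoxeterMatrix.G₂ CoxeterMatrix.G₂.Group := CoxeterMatrix.G₂.toCoxeterSystem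

/-- the root elements -/
def xe (K : Type u) [Field K] (r : ℕ) (a : K) : ↥(chevG2.group K) :=
  ⟨xG hp.inList r a, xG_mem_group hp.inList r a⟩

theorem xe_mul (r : ℕ) (a b : K) : xe K r a * xe K r b = xe K r (a + b) :=
  Subtype.ext (xG_add hp.inList r a b)

theorem xe_zero (r : ℕ) : xe K r 0 = 1 := Subtype.ext (xG_zero hp.inList r)

theorem xe_inv (r : ℕ) (a : K) : (xe K r a)⁻¹ = xe K r (-a) := by
  rw [inv_eq_iff_mul_eq_one, xe_mul, add_neg_cancel, xe_zero]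

theorem mem_XX {r : ℕ} (hr : r < chevG2.nroots) {g : ↥(chevG2.group K)} :
    g ∈ XX chevG2 2 K (vec chevG2 2 r) ↔ ∃ a, g = xe K r a := by
  rw [Subgroup.mem_subgroupOf, XV_vec hp K hr, mem_rootSubgroup_iff hp.inList]
  constructor
  · rintro ⟨a, ha⟩
    exact ⟨a, Subtype.ext ha⟩
  · rintro ⟨a, rfl⟩
    exact ⟨a, rfl⟩

theorem comm_xe {r s : ℕ} (hr : r < chevG2.nroots) (hs : s < chevG2.nroots) (hrs : s ≠ r) (hneg : s ≠ chevG2.neg r)
    (t u : K) : ((⁅(xe K s u)⁻¹, (xe K r t)⁻¹⁆ : ↥(chevG2.group K)) : GL chevG2.Idx K) =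
      wordG hp.inList (chevG2.commWord K r s t u) := by
  rw [← comm_xG hp hr hs hrs hneg]
  rfl

theorem nroots : chevG2.nroots = 12 := by decide +kernel

theorem ct1 : chevG2.commTerms 6 10 = [(11,1,1,1)] := by decide +kernel
theorem ct2 : chevG2.commTerms 9 7 = [(10,-3,1,1)] := by decide +kernel
theorem ct3 : chevG2.commTerms 7 6 = [(8,-1,1,1),(9,1,2,1),(10,1,3,1),(11,1,3,2)] := by decide +kernel

theorem negs : chevG2.neg 6 = 5 ∧ chevG2.neg 7 = 4 ∧ chevG2.neg 9 = 2 := by decide +kernel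

theorem simples : chevG2.simple 0 = 7 ∧ chevG2.simple 1 = 6 := by decide +kernel

/-- the positive roots -/
theorem pos_cases : ∀ r < 12, (∀ i : Fin 2, 0 ≤ vec chevG2 2 r i) →
    r = 6 ∨ r = 7 ∨ r = 8 ∨ r = 9 ∨ r = 10 ∨ r = 11 := by decide +kernel

theorem pos_vec : ∀ r, 6 ≤ r → r < 12 → ∀ i : Fin 2, 0 ≤ vec chevG2 2 r i := by
  intro r h1 h2
  interval_cases r <;> decide +kernel

theorem vec_sr0 : vec chevG2 2 7 = sr (0 : Fin 2) := by
  have := vec_simple hp (0 : Fin 2)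
  rwa [show chevG2.simple ((0 : Fin 2) : ℕ) = 7 from simples.1] at this

theorem vec_sr1 : vec chevG2 2 6 = sr (1 : Fin 2) := by
  have := vec_simple hp (1 : Fin 2)
  rwa [show chevG2.simple ((1 : Fin 2) : ℕ) = 6 from simples.2] at this

/-- the unipotent group -/
abbrev UU (K : Type u) [Field K] : Subgroup ↥(chevG2.group K) := Sup (XX chevG2 2 K) (Pos cs hp.isCartan)

theorem xe_mem_UU {r : ℕ} (h1 : 6 ≤ r) (h2 : r < 12) (a : K) : xe K r a ∈ UU K :=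
  le_Sup (S := Pos cs hp.isCartan) ⟨isRoot_vec hp cs (by rw [nroots]; exact h2), pos_vec r h1 h2⟩
    ((mem_XX (by rw [nroots]; exact h2)).2 ⟨a, rfl⟩)

theorem comm_mem' {r s : ℕ} (hr : 6 ≤ r) (hs : 6 ≤ s) (hr' : r < 12) (hs' : s < 12) (t u : K) :
    ⁅(xe K s u)⁻¹, (xe K r t)⁻¹⁆ ∈ ⁅UU K, UU K⁆ :=
  Subgroup.commutator_mem_commutator (inv_mem (xe_mem_UU hs hs' u)) (inv_mem (xe_mem_UU hr hr' t))

theorem c11 (a : K) : xe K 11 a ∈ ⁅UU K, UU K⁆ := by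
  have h1 := comm_mem' (K := K) (r := 6) (s := 10) (by norm_num) (by norm_num) (by norm_num) (by norm_num) (-1) a
  have h2 : ⁅(xe K 10 a)⁻¹, (xe K 6 (-1))⁻¹⁆ = xe K 11 a := by
    apply Subtype.ext
    rw [comm_xe (by rw [nroots]; norm_num) (by rw [nroots]; norm_num) (by norm_num) (by rw [negs.1]; norm_num)]
    simp only [ChevalleyDatum.commWord, ct1, List.map_cons, List.map_nil, wordG_cons, wordG_nil, mul_one]
    congr 1
    norm_num
  rwa [h2] at h1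

theorem c10 [CharP K 2] (a : K) : xe K 10 a ∈ ⁅UU K, UU K⁆ := by
  have h1 := comm_mem' (K := K) (r := 9) (s := 7) (by norm_num) (by norm_num) (by norm_num) (by norm_num) 1 a
  have h2 : ⁅(xe K 7 a)⁻¹, (xe K 9 1)⁻¹⁆ = xe K 10 a := by
    apply Subtype.ext
    rw [comm_xe (by rw [nroots]; norm_num) (by rw [nroots]; norm_num) (by norm_num) (by rw [negs.2.2]; norm_num)]
    simp only [ChevalleyDatum.commWord, ct2, List.map_cons, List.map_nil, wordG_cons, wordG_nil, mul_one]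
    congr 1
    have e2 : (2 : K) = 0 := by exact_mod_cast CharP.cast_eq_zero K 2
    push_cast
    linear_combination a * e2
  rwa [h2] at h1

theorem c89 [CharP K 2] (t u : K) : xe K 8 (t * u) * xe K 9 (t * t * u) ∈ ⁅UU K, UU K⁆ := by
  have h1 := comm_mem' (K := K) (r := 7) (s := 6) (by norm_num) (by norm_num) (by norm_num) (by norm_num) t u
  have h2 : ⁅(xe K 6 u)⁻¹, (xe K 7 t)⁻¹⁆ =
      xe K 8 (t * u) * xe K 9 (t * t * u) * (xe K 10 ((-t) ^ 3 * u) * xe K 11 ((-t) ^ 3 * u ^ 2)) := by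
    apply Subtype.ext
    rw [comm_xe (by rw [nroots]; norm_num) (by rw [nroots]; norm_num) (by norm_num) (by rw [negs.2.1]; norm_num)]
    simp only [ChevalleyDatum.commWord, ct3, List.map_cons, List.map_nil, wordG_cons, wordG_nil, mul_one]
    have e1 : ((-1 : ℤ) : K) * (-t) ^ 1 * u ^ 1 = t * u := by push_cast; ring
    have e2 : ((1 : ℤ) : K) * (-t) ^ 2 * u ^ 1 = t * t * u := by push_cast; ring
    have e3 : ((1 : ℤ) : K) * (-t) ^ 3 * u ^ 1 = (-t) ^ 3 * u := by push_cast; ring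
    have e4 : ((1 : ℤ) : K) * (-t) ^ 3 * u ^ 2 = (-t) ^ 3 * u ^ 2 := by push_cast; ring
    rw [e1, e2, e3, e4, ← mul_assoc]
    rfl
  rw [h2] at h1
  have h3 := mul_mem h1 (inv_mem (mul_mem (c10 ((-t) ^ 3 * u)) (c11 ((-t) ^ 3 * u ^ 2))))
  rwa [mul_inv_cancel_right] at h3

variable [CharP K 2] (hK : ∃ t : K, t ≠ 0 ∧ t ≠ 1)

include hK in
theorem c9 (a : K) : xe K 9 a ∈ ⁅UU K, UU K⁆ := by
  obtain ⟨t, h0, h1⟩ := hK
  have h2 := c89 (K := K) 1 (a / (t - 1))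
  have h3 := c89 (K := K) t (a / (t - 1) / t)
  have ht : t - 1 ≠ 0 := sub_ne_zero.2 h1
  have e1 : t * (a / (t - 1) / t) = 1 * (a / (t - 1)) := by field_simp
  have e2 : t * t * (a / (t - 1) / t) = t * (a / (t - 1)) := by field_simp
  rw [e1, e2] at h3
  have h4 := mul_mem (inv_mem h2) h3
  have e3 : (xe K 8 (1 * (a / (t - 1))) * xe K 9 (1 * 1 * (a / (t - 1))))⁻¹ *
      (xe K 8 (1 * (a / (t - 1))) * xe K 9 (t * (a / (t - 1)))) = xe K 9 a := by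
    rw [mul_inv_rev, mul_assoc, inv_mul_cancel_left, xe_inv, xe_mul]
    congr 1
    field_simp
    ring
  rwa [e3] at h4

include hK in
theorem c8 (a : K) : xe K 8 a ∈ ⁅UU K, UU K⁆ := by
  have h1 := c89 (K := K) 1 a
  have h2 := mul_mem h1 (inv_mem (c9 hK (1 * 1 * a)))
  rwa [mul_inv_cancel_right, one_mul] at h2

include hK in
theorem hX (z : Fin 2 → ℤ) (hz : IsRoot cs hp.isCartan z) (h0 : 0 ≤ z) (hz0 : z ≠ sr 0) (hz1 : z ≠ sr 1) :
    XX chevG2 2 K z ≤ ⁅UU K, UU K⁆ := by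
  obtain ⟨r, hr, rfl⟩ := (isRoot_iff hp cs z).1 hz
  intro g hg
  obtain ⟨a, rfl⟩ := (mem_XX hr).1 hg
  rw [nroots] at hr
  rcases pos_cases r hr h0 with rfl | rfl | rfl | rfl | rfl | rfl
  · exact absurd vec_sr1 hz1
  · exact absurd vec_sr0 hz0
  · exact c8 hK a
  · exact c9 hK a
  · exact c10 a
  · exact c11 a

/-! ### The torus -/

theorem xc_eq {r : ℕ} (hr : r < chevG2.nroots) (a : K) : xc hp (vec chevG2 2 r) a = xe K r a :=
  Subtype.ext (coe_xc hp hr a)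

theorem xe_inj {r : ℕ} (hr : r < chevG2.nroots) {a b : K} (h : xe K r a = xe K r b) : a = b := by
  rw [← xc_eq hr, ← xc_eq hr] at h
  exact xc_inj hp hr h

theorem hc_xe (j : Fin 2) {a : K} (ha : a ≠ 0) {r : ℕ} (hr : r < chevG2.nroots) (b : K) :
    hc hp j a * xe K r b * (hc hp j a)⁻¹ = xe K r (a ^ chevG2.cartan j r * b) := by
  have h1 := (act hp hr (hc_mem (K := K) hp j ha)).2 b
  rwa [ch_hc hp j ha hr, xc_eq hr, xc_eq hr] at h1

theorem carts : chevG2.cartan 0 7 = 2 ∧ chevG2.cartan 1 7 = -1 ∧ chevG2.cartan 0 6 = -3 ∧ chevG2.cartan 1 6 = 2 := by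
  decide +kernel

include hK in
theorem tor0 : ∃ a ∈ TT chevG2 K, ∀ x ∈ XX chevG2 2 K (sr 0), a * x * a⁻¹ = x → x = 1 := by
  obtain ⟨t, h0, h1⟩ := hK
  refine ⟨hc hp 1 t, hc_mem hp 1 h0, fun x hx e => ?_⟩
  have hr : 7 < chevG2.nroots := by rw [nroots]; norm_num
  rw [← vec_sr0] at hx
  obtain ⟨b, rfl⟩ := (mem_XX hr).1 hx
  rw [hc_xe 1 h0 hr] at e
  have e1 := xe_inj hr e
  rw [show chevG2.cartan ((1 : Fin 2) : ℕ) 7 = -1 from carts.2.1, zpow_neg_one] at e1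
  have e2 : b = 0 := by
    by_contra hb
    have h3 : t⁻¹ = 1 := mul_right_cancel₀ hb (by rw [e1, one_mul])
    exact h1 (inv_eq_one.1 h3)
  rw [e2, xe_zero]

include hK in
theorem tor01 : ∃ a ∈ TT chevG2 K, (∀ x ∈ XX chevG2 2 K (sr 0), a * x * a⁻¹ = x) ∧
    ∀ x ∈ XX chevG2 2 K (sr 1), a * x * a⁻¹ = x → x = 1 := by
  obtain ⟨t, h0, h1⟩ := hK
  have h0' : t ^ 2 ≠ 0 := pow_ne_zero 2 h0
  have hr : 7 < chevG2.nroots := by rw [nroots]; norm_num
  have hs : 6 < chevG2.nroots := by rw [nroots]; norm_num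
  refine ⟨hc hp 0 t * hc hp 1 (t ^ 2), mul_mem (hc_mem hp 0 h0) (hc_mem hp 1 h0'), fun x hx => ?_, fun x hx e => ?_⟩
  · rw [← vec_sr0] at hx
    obtain ⟨b, rfl⟩ := (mem_XX hr).1 hx
    have e1 : hc hp 0 t * hc hp 1 (t ^ 2) * xe K 7 b * (hc hp 0 t * hc hp 1 (t ^ 2))⁻¹ =
        hc hp 0 t * (hc hp 1 (t ^ 2) * xe K 7 b * (hc hp 1 (t ^ 2))⁻¹) * (hc hp 0 t)⁻¹ := by group
    rw [e1, hc_xe 1 h0' hr, hc_xe 0 h0 hr, show chevG2.cartan ((1 : Fin 2) : ℕ) 7 = -1 from carts.2.1,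
      show chevG2.cartan ((0 : Fin 2) : ℕ) 7 = 2 from carts.1]
    congr 1
    rw [zpow_neg_one, ← mul_assoc, show (2 : ℤ) = ((2 : ℕ) : ℤ) from rfl, zpow_natCast, mul_inv_cancel₀ h0', one_mul]
  · rw [← vec_sr1] at hx
    obtain ⟨b, rfl⟩ := (mem_XX hs).1 hx
    have e1 : hc hp 0 t * hc hp 1 (t ^ 2) * xe K 6 b * (hc hp 0 t * hc hp 1 (t ^ 2))⁻¹ =
        hc hp 0 t * (hc hp 1 (t ^ 2) * xe K 6 b * (hc hp 1 (t ^ 2))⁻¹) * (hc hp 0 t)⁻¹ := by group
    rw [e1, hc_xe 1 h0' hs, hc_xe 0 h0 hs, show chevG2.cartan ((1 : Fin 2) : ℕ) 6 = 2 from carts.2.2.2,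
      show chevG2.cartan ((0 : Fin 2) : ℕ) 6 = -3 from carts.2.2.1] at e
    have e2 := xe_inj hs e
    have e3 : t ^ (-3 : ℤ) * ((t ^ 2) ^ (2 : ℤ) * b) = t * b := by
      rw [show (2 : ℤ) = ((2 : ℕ) : ℤ) from rfl, zpow_natCast, zpow_neg, show (3 : ℤ) = ((3 : ℕ) : ℤ) from rfl,
        zpow_natCast]
      field_simp
    rw [e3] at e2
    have e4 : b = 0 := by
      by_contra hb
      exact h1 (mul_right_cancel₀ hb (by rw [e2, one_mul]))
    rw [e4, xe_zero]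

end Cfsg.Agent.ParSys.Fam.G2

namespace Cfsg.Agent.ParSys.Fam

open Cfsg.Lie Cfsg.Agent.Nodes.RGDChev Cfsg.Agent.Nodes.FreeTorus Cfsg.Agent.KFacts.RgdChevCoord
open Cfsg.Agent.Tits.Roots Cfsg.Agent.Tits.Core Cfsg.Agent.Tits.RootComb

/-- an element other than `0`, `1` -/
theorem exists_ne_zero_one {K : Type*} [Field K] (h4 : 4 ≤ Nat.card K) : ∃ t : K, t ≠ 0 ∧ t ≠ 1 := by
  by_contra hcon
  push Not at hcon
  have h1 : Nat.card K ≤ Nat.card Bool := by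
    classical
    refine Nat.card_le_card_of_injective (fun t : K => decide (t = 0)) ?_
    intro a b hab
    simp only [decide_eq_decide] at hab
    by_cases ha : a = 0
    · rw [ha, hab.1 ha]
    · rw [hcon a ha, hcon b fun hb => ha (hab.2 hb)]
  rw [Nat.card_eq_fintype_card (α := Bool), Fintype.card_bool] at h1
  omega

/-- **`G₂(q)`, `q ≥ 4` even.** -/
theorem hasKPairSep_G2 {K : Type*} [Field K] [Finite K] [CharP K 2] (h4 : 4 ≤ Nat.card K) :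
    HasKPairSep 2 ↥(chevG2.group K) := by
  have : Fact (Nat.Prime 2) := ⟨Nat.prime_two⟩
  have hK := exists_ne_zero_one h4
  have : IsSimpleGroup ↥(chevG2.group K) := (Cfsg.Agent.S1055.result hK).1
  have := finite_W G2.hp G2.cs
  refine hasKPairSep_of_rgd (rgd (K := K) G2.hp G2.cs 2) (G1_eq_top G2.hp G2.cs) (i := 0) (j := 1) (by decide)
    (fun k => ?_) ?_ (fun z hz h0 hz0 hz1 => G2.hX hK z hz h0 hz0 hz1) (ChevTor.TT_comm G2.hp)
    (isCyclic_of_exists (ChevTor.cyc G2.hp G2.cs 2 0)) (isCyclic_of_exists (ChevTor.cyc G2.hp G2.cs 2 1))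
    (Or.inl fun t ht ht' => ChevTor.inv G2.hp G2.cs 2 0 t ⟨ht, ht'⟩) (G2.tor0 hK) (G2.tor01 hK)
  · fin_cases k
    · exact Or.inl rfl
    · exact Or.inr rfl
  · decide

end Cfsg.Agent.ParSys.Fam
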