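import Cfsg.Agent.ParSys.Fam.Rgd
import Cfsg.Agent.Nodes.RGDAllP

/-!
# THEOREM PAR: the classical groups of Witt index two: `Sp₄(q)`, `U₄(q)`, `U₅(q)`

`hX`: the root groups of the non-simple positive roots are in the commutator subgroup of `U`, if the frame has the property
`Der`, which is `der_sp` for `Sp₄(q)`, `q > 2`, `der_u4` for `U₄(q)`, `der_u5` for `U₅(q)`.

`hasKPair`, `hasKPairSep`: the assembly, from the facts about the torus.
-/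

set_option autoImplicit false
set_option linter.unusedSectionVars false

namespace Cfsg.Agent.ParSys.Fam.Witt

open CoxeterSystem Cfsg.Agent.ChevalleyStructure.CoxeterGeom Cfsg.Agent.Tits.Roots Cfsg.Agent.Tits.Core
  Cfsg.Agent.Tits.RootComb
open Cfsg.Agent.Nodes.Comb Cfsg.Agent.Nodes.Reps Cfsg.Agent.Nodes.BNOf Cfsg.Agent.Nodes.BNOf.RGD
open Cfsg.Agent.TitsThree Cfsg.Agent.TitsThree.Siegel Cfsg.Agent.TitsThree.WittFrame
  Cfsg.Agent.TitsThree.WittWeyl Cfsg.Agent.TitsThree.FrameCN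
open Cfsg.Agent.Nodes.TypeC Cfsg.Agent.Nodes.WittRoot Cfsg.Agent.Nodes.WittRGD Cfsg.Agent.Nodes.RGDLib
  Cfsg.Agent.Nodes.FreeTorus
open Cfsg.Agent.TitsThree.WittFrame.Frame
open scoped commutatorElement

variable {F : Type*} [Field F] {V : Type*} [AddCommGroup V] [Module F V] {H : HForm F V}

/-- The commutators of the two simple root groups, and the others, generate the other positive root groups. -/
def Der (Fr : Frame H (Fin 2)) : Prop :=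
  ∀ D : Subgroup (V ≃ₗ[F] V),
    (∀ (t : F) (p : Fr.Adm), Fr.Z (0, true) (Adm.smul (H.σ t) p) *
      Fr.X (0, true) (1, true) (-(H.ε⁻¹ * Fr.η ((1 : Fin 2), true) * H.σ p.c * t)) ∈ D) →
    (∀ m : F, Fr.Z (0, true) (Adm.tr m) ∈ D) →
    (∀ p q : Fr.Adm, Fr.X (0, true) (1, true) (-(Fr.η ((1 : Fin 2), true) * H.σ (H.h p.w q.w))) ∈ D) →
    (∀ t, Fr.X (0, true) (1, true) t ∈ D) ∧ ∀ p, Fr.Z (0, true) p ∈ D

/-- `Sp₄(q)`, `q > 2` -/
theorem der_sp {Fr : Frame H (Fin 2)} (hσ : ∀ a, H.σ a = a) (hw : ∀ p : Fr.Adm, p.w = 0) (hok : ∀ c, Fr.ok 0 c)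
    (hF : ∃ a : F, a ≠ 0 ∧ a ≠ 1) : Der Fr := by
  intro D h4 h3 h5
  have hη : Fr.η ((1 : Fin 2), true) ≠ 0 := Fr.η_ne _
  have hε := H.ε_ne
  have key : ∀ s t : F, t ≠ 0 → Fr.Z (0, true) ⟨0, s, hok s⟩ *
      Fr.X (0, true) (1, true) (-(H.ε⁻¹ * Fr.η ((1 : Fin 2), true) * s * t⁻¹)) ∈ D := by
    intro s t ht
    have := h4 t ⟨0, s * (t * t)⁻¹, hok _⟩
    have e1 : Adm.smul (H.σ t) (⟨0, s * (t * t)⁻¹, hok _⟩ : Fr.Adm) = ⟨0, s, hok s⟩ := by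
      ext
      · simp
      · simp only [Adm.smul_c, hσ]
        field_simp
    have e2 : -(H.ε⁻¹ * Fr.η ((1 : Fin 2), true) * H.σ (s * (t * t)⁻¹) * t) =
        -(H.ε⁻¹ * Fr.η ((1 : Fin 2), true) * s * t⁻¹) := by
      rw [hσ]
      field_simp
    rw [e1, e2] at this
    exact this
  obtain ⟨a, ha0, ha1⟩ := hF
  have hX : ∀ t, Fr.X (0, true) (1, true) t ∈ D := by
    intro r
    have hne : -(H.ε⁻¹ * Fr.η ((1 : Fin 2), true)) * (a⁻¹ - 1) ≠ 0 := by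
      refine mul_ne_zero (neg_ne_zero.2 (mul_ne_zero (inv_ne_zero hε) hη)) (sub_ne_zero.2 ?_)
      intro h
      exact ha1 (inv_eq_one.1 h)
    obtain ⟨s, hs⟩ : ∃ s, s * (-(H.ε⁻¹ * Fr.η ((1 : Fin 2), true)) * (a⁻¹ - 1)) = r :=
      ⟨r * (-(H.ε⁻¹ * Fr.η ((1 : Fin 2), true)) * (a⁻¹ - 1))⁻¹, inv_mul_cancel_right₀ hne r⟩
    have h6 := mul_mem (inv_mem (key s 1 one_ne_zero)) (key s a ha0)
    rw [mul_inv_rev, mul_assoc, inv_mul_cancel_left, ← X_neg, ← X_add] at h6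
    convert h6 using 2
    rw [← hs, inv_one]
    ring
  refine ⟨hX, fun p => ?_⟩
  have e : p = ⟨0, p.c, hok _⟩ := by
    ext
    · exact hw p
    · rfl
  rw [e]
  have h6 := mul_mem (key p.c 1 one_ne_zero) (inv_mem (hX (-(H.ε⁻¹ * Fr.η ((1 : Fin 2), true) * p.c * 1⁻¹))))
  rwa [mul_inv_cancel_right] at h6

/-- `U₄(q)` -/
theorem der_u4 {Fr : Frame H (Fin 2)} (hw : ∀ p : Fr.Adm, p.w = 0) (hl : ∃ l : F, l + H.σ l = 1)
    (hp : ∃ p : Fr.Adm, p.c ≠ 0) : Der Fr := by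
  intro D h4 h3 h5
  obtain ⟨l, hl⟩ := hl
  have hη : Fr.η ((1 : Fin 2), true) ≠ 0 := Fr.η_ne _
  have hε := H.ε_ne
  have hZ : ∀ p, Fr.Z (0, true) p ∈ D := by
    intro p
    have e : p = Adm.tr (l * p.c) := by
      ext
      · rw [hw, Adm.tr_w]
      · have h6 := p.herm
        rw [hw p, H.zero_left, neg_zero] at h6
        have h7 : H.σ p.c = -(H.ε * p.c) := by linear_combination h6
        rw [Adm.tr_c, map_mul, h7]
        field_simp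
        linear_combination (-p.c) * hl
    rw [e]
    exact h3 _
  refine ⟨fun t => ?_, hZ⟩
  obtain ⟨p, hp⟩ := hp
  have hσ : H.σ p.c ≠ 0 := (map_ne_zero H.σ).2 hp
  have h6 := mul_mem (inv_mem (hZ (Adm.smul (H.σ (-(H.ε⁻¹ * Fr.η ((1 : Fin 2), true) * H.σ p.c)⁻¹ * t)) p)))
    (h4 (-(H.ε⁻¹ * Fr.η ((1 : Fin 2), true) * H.σ p.c)⁻¹ * t) p)
  rw [inv_mul_cancel_left] at h6
  convert h6 using 2
  field_simp

/-- `U₅(q)` -/
theorem der_u5 {Fr : Frame H (Fin 2)} (hp : ∃ p q : Fr.Adm, H.h p.w q.w ≠ 0) : Der Fr := by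
  intro D h4 h3 h5
  obtain ⟨p, q, hpq⟩ := hp
  have hη : Fr.η ((1 : Fin 2), true) ≠ 0 := Fr.η_ne _
  have hX : ∀ t, Fr.X (0, true) (1, true) t ∈ D := by
    intro t
    have hσ : H.σ (H.h p.w q.w) ≠ 0 := (map_ne_zero H.σ).2 hpq
    have h6 := h5 p (Adm.smul (-(Fr.η ((1 : Fin 2), true))⁻¹ * t * (H.σ (H.h p.w q.w))⁻¹) q)
    rw [Adm.smul_w, H.smul_right, map_mul, H.σσ] at h6
    convert h6 using 2
    field_simp
  refine ⟨hX, fun p => ?_⟩
  have h6 := mul_mem (h4 1 p) (inv_mem (hX (-(H.ε⁻¹ * Fr.η ((1 : Fin 2), true) * H.σ p.c * 1))))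
  rw [mul_inv_cancel_right, map_one, Adm.one_smul] at h6
  exact h6

section Model

variable {Fr : Frame H (Fin 2)} {K : Type*} [Group K] (M : Model Fr K)

/-- the positive roots of the type `B₂` -/
theorem pos_cases {z : Fin 2 → ℤ} {a b : Fin 2 × Bool} (e : ee z = wt a + wt b) (h0 : 0 ≤ z) (h1 : z ≠ sr 0)
    (h2 : z ≠ sr 1) (hab : Ok a b) :
    (a = (0, true) ∧ b = (1, true)) ∨ (a = (1, true) ∧ b = (0, true)) ∨ (a = (0, true) ∧ b = (0, true)) := by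
  have e0 : z 0 = (wt a + wt b) 0 := by
    rw [← e, ee, Fin.sum_univ_two, Pi.add_apply, Pi.smul_apply, Pi.smul_apply, bt_apply, bt_apply]
    simp
  have e1 : 2 * z 1 = (wt a + wt b) 0 + (wt a + wt b) 1 := by
    rw [← e, ee, Fin.sum_univ_two, Pi.add_apply, Pi.smul_apply, Pi.smul_apply, Pi.add_apply, Pi.smul_apply,
      Pi.smul_apply, bt_apply, bt_apply, bt_apply, bt_apply]
    simp
    ring
  have p0 : 0 ≤ z 0 := h0 0
  have p1 : 0 ≤ z 1 := h0 1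
  have n0 : ¬ (z 0 = 1 ∧ z 1 = 0) := by
    rintro ⟨h, h'⟩
    apply h1
    ext k
    fin_cases k
    · simpa [sr] using h
    · simpa [sr] using h'
  have n1 : ¬ (z 0 = 0 ∧ z 1 = 1) := by
    rintro ⟨h, h'⟩
    apply h2
    ext k
    fin_cases k
    · simpa [sr] using h
    · simpa [sr] using h'
  rw [Pi.add_apply, wt_apply, wt_apply] at e0 e1
  rw [Pi.add_apply, wt_apply, wt_apply] at e1
  obtain ⟨a, s⟩ := a
  obtain ⟨b, t⟩ := b
  fin_cases a <;> fin_cases b <;> cases s <;> cases t <;> simp [Ok] at e0 e1 hab ⊢ <;> omega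

variable (hA : Amb Fr M.I)

include hA

theorem hX (hDer : Der Fr) {W : Type*} [Group W] (cs : CoxeterSystem (CoxeterMatrix.B 2) W) {z : Fin 2 → ℤ}
    (hz : IsRoot cs (isCartan 2) z) (h0 : 0 ≤ z) (h1 : z ≠ sr 0) (h2 : z ≠ sr 1) :
    Nodes.WittModel.X M z ≤ ⁅Sup (Nodes.WittModel.X M) (Pos cs (isCartan 2)), Sup (Nodes.WittModel.X M) (Pos cs (isCartan 2))⁆ := by
  set U := Sup (Nodes.WittModel.X M) (Pos cs (isCartan 2)) with hU
  set D : Subgroup (V ≃ₗ[F] V) := (⁅U, U⁆.comap M.φ).map M.I.subtype with hD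
  have hDmem : ∀ g, g ∈ D → ∀ hg : g ∈ M.I, M.φ ⟨g, hg⟩ ∈ ⁅U, U⁆ := by
    rintro _ ⟨g, hg, rfl⟩ hg'
    exact hg
  have hcomm : ∀ a b : V ≃ₗ[F] V, ∀ (ha : a ∈ M.I) (hb : b ∈ M.I), M.φ ⟨a, ha⟩ ∈ U → M.φ ⟨b, hb⟩ ∈ U →
      ⁅a, b⁆ ∈ D := by
    intro a b ha hb haU hbU
    refine ⟨⁅(⟨a, ha⟩ : ↥M.I), ⟨b, hb⟩⁆, ?_, rfl⟩
    show M.φ ⁅(⟨a, ha⟩ : ↥M.I), ⟨b, hb⟩⁆ ∈ ⁅U, U⁆
    rw [map_commutatorElement]
    exact Subgroup.commutator_mem_commutator haU hbU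
  have hle : ∀ x, IsRoot cs (isCartan 2) x → 0 ≤ x → ∀ g ∈ rg Fr x, ∀ hg : g ∈ M.I, M.φ ⟨g, hg⟩ ∈ U := by
    intro x hx hx0 g hg hgI
    exact le_Sup (X := Nodes.WittModel.X M) (S := Pos cs (isCartan 2)) ⟨hx, hx0⟩ (Nodes.WittModel.mem_X_of M hgI hg)
  -- the root groups
  have hx : ∀ t, M.φ ⟨Fr.X (0, true) (1, false) t, M.hX _ _ _⟩ ∈ U := fun t =>
    hle _ (isRoot_sr cs _ 0) (sr_nonneg 0) _ (by
      rw [rg_sr]
      have hnx : nx (0 : Fin 2) = (1, false) := by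
        unfold nx; rw [dif_pos (by decide)]
        rfl
      rw [PG_ne Fr (by rw [hnx]; decide), hnx]
      exact ⟨t, rfl⟩) _
  have hz' : ∀ p, M.φ ⟨Fr.Z (1, true) p, M.hZ _ _⟩ ∈ U := fun p =>
    hle _ (isRoot_sr cs _ 1) (sr_nonneg 1) _ (by
      rw [rg_sr]
      have hnx : nx (1 : Fin 2) = (1, true) := by
        unfold nx; rw [dif_neg (by decide)]
      rw [hnx, PG_self]
      exact ⟨p, rfl⟩) _
  have hroot : ∀ a b, Ok a b → 0 ≤ wt a + wt b → ∀ g ∈ PG Fr a b, ∀ hg : g ∈ M.I, M.φ ⟨g, hg⟩ ∈ U := by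
    intro a b hab hpos g hg hgI
    obtain ⟨x, hx, e⟩ := rt_of_ok (cs := cs) hab
    refine hle x hx ?_ g (by rw [rg_eq Fr hab e]; exact hg) hgI
    have e0 : x 0 = (wt a + wt b) 0 := by
      rw [← e, ee, Fin.sum_univ_two, Pi.add_apply, Pi.smul_apply, Pi.smul_apply, bt_apply, bt_apply]
      simp
    have e1 : 2 * x 1 = (wt a + wt b) 0 + (wt a + wt b) 1 := by
      rw [← e, ee, Fin.sum_univ_two, Pi.add_apply, Pi.smul_apply, Pi.smul_apply, Pi.add_apply, Pi.smul_apply,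
        Pi.smul_apply, bt_apply, bt_apply, bt_apply, bt_apply]
      simp
      ring
    have p0 : 0 ≤ (wt a + wt b) 0 := hpos 0
    have p1 : 0 ≤ (wt a + wt b) 1 := hpos 1
    intro k
    show 0 ≤ x k
    fin_cases k
    · show 0 ≤ x 0
      omega
    · show 0 ≤ x 1
      omega
  have hy : ∀ t, M.φ ⟨Fr.X (0, true) (1, true) t, M.hX _ _ _⟩ ∈ U := fun t =>
    hroot (0, true) (1, true) (Or.inl (by decide)) (by intro k; fin_cases k <;> simp [wt_apply]) _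
      (by rw [PG_ne Fr (by decide)]; exact ⟨t, rfl⟩) _
  have hzx : ∀ p, M.φ ⟨Fr.Z (0, true) p, M.hZ _ _⟩ ∈ U := fun p =>
    hroot (0, true) (0, true) (Or.inr rfl) (by intro k; fin_cases k <;> simp [wt_apply]) _
      (by rw [PG_self]; exact ⟨p, rfl⟩) _
  have hXZ : (∀ t, Fr.X (0, true) (1, true) t ∈ D) ∧ ∀ p, Fr.Z (0, true) p ∈ D := by
    refine hDer D ?_ ?_ ?_
    · intro t p
      have h3 := Fr.conj_X_Z (x := ((0 : Fin 2), true)) (y := (1, true)) (by decide) t p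
      have e1 : Fr.Z (0, true) (Adm.smul (H.σ t) p) *
          Fr.X (0, true) (1, true) (-(H.ε⁻¹ * Fr.η ((1 : Fin 2), true) * H.σ p.c * t)) =
          ⁅Fr.X (0, true) (1, false) t, Fr.Z (1, true) p⁆ := by
        rw [commutatorElement_def]
        exact (eq_mul_inv_iff_mul_eq.2 h3.symm)
      rw [e1]
      exact hcomm _ _ (M.hX _ _ _) (M.hZ _ _) (hx t) (hz' p)
    · intro m
      have h3 := Fr.X_mul_X_same (x := ((0 : Fin 2), true)) (y := (1, true)) (by decide) 1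
        (m * Fr.η (neg ((1 : Fin 2), true)))
      have e1 : Fr.Z (0, true) (Adm.tr m) =
          ⁅Fr.X (0, true) (1, true) 1, Fr.X (0, true) (1, false) (m * Fr.η (neg ((1 : Fin 2), true)))⁆ := by
        rw [map_one, one_mul, mul_inv_cancel_right₀ (Fr.η_ne _)] at h3
        rw [commutatorElement_def, eq_mul_inv_iff_mul_eq, eq_mul_inv_iff_mul_eq, mul_assoc]
        exact h3.symm
      rw [e1]
      exact hcomm _ _ (M.hX _ _ _) (M.hX _ _ _) (hy 1) (hx _)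
    · intro p q
      have h3 := Fr.Z_mul_Z (x := ((0 : Fin 2), true)) (y := (1, true)) (by decide) p q
      have e1 : Fr.X (0, true) (1, true) (-(Fr.η ((1 : Fin 2), true) * H.σ (H.h p.w q.w))) =
          ⁅Fr.Z (0, true) p, Fr.Z (1, true) q⁆ := by
        rw [commutatorElement_def, eq_mul_inv_iff_mul_eq, eq_mul_inv_iff_mul_eq, mul_assoc]
        exact h3.symm
      rw [e1]
      exact hcomm _ _ (M.hZ _ _) (M.hZ _ _) (hzx p) (hz' q)
  obtain ⟨hX, hZ⟩ := hXZ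
  obtain ⟨a, b, hab, e⟩ := exists_of_isRoot cs hz
  have key : PG Fr a b ≤ D := by
    rcases pos_cases e h0 h1 h2 hab with ⟨rfl, rfl⟩ | ⟨rfl, rfl⟩ | ⟨rfl, rfl⟩
    · rw [PG_ne Fr (by decide)]
      rintro _ ⟨t, rfl⟩
      exact hX t
    · rw [PG_ne Fr (by decide), XG_swap Fr (by decide)]
      rintro _ ⟨t, rfl⟩
      exact hX t
    · rw [PG_self]
      rintro _ ⟨p, rfl⟩
      exact hZ p
  intro k hk
  obtain ⟨g, hg, hgr, rfl⟩ := (Nodes.WittModel.mem_X M).1 hk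
  rw [rg_eq Fr hab e] at hgr
  exact hDmem g (key hgr) hg

omit hA in
theorem hI (k : Fin 2) : k = 0 ∨ k = 1 := by fin_cases k <;> simp

omit hA in
theorem hM : (CoxeterMatrix.B 2) 0 1 ≠ 2 := by decide

/-- **Assembly**, from the facts about the torus. -/
theorem hasKPair [Finite V] [Finite K] [IsSimpleGroup K] {p : ℕ} [Fact p.Prime] [CharP F p] {p0 : Fr.Adm}
    (hp0 : p0.c ≠ 0) (hDer : Der Fr)
    (hT : ∀ x ∈ Nodes.WittModel.T M, ∀ y ∈ Nodes.WittModel.T M, x * y = y * x)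
    (hci : IsCyclic ↥(Nodes.WittModel.T M ⊓ LL (Nodes.WittModel.X M) (sr 0)))
    (hcj : IsCyclic ↥(Nodes.WittModel.T M ⊓ LL (Nodes.WittModel.X M) (sr 1)))
    (hinv : (∀ t ∈ Nodes.WittModel.T M, t ∈ LL (Nodes.WittModel.X M) (sr 0) →
        Nodes.WittModel.nw M hA p0 0 * t * (Nodes.WittModel.nw M hA p0 0)⁻¹ * t = 1) ∨
      ∀ t ∈ Nodes.WittModel.T M, t ∈ LL (Nodes.WittModel.X M) (sr 1) →
        Nodes.WittModel.nw M hA p0 1 * t * (Nodes.WittModel.nw M hA p0 1)⁻¹ * t = 1)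
    (hi : ∃ a ∈ Nodes.WittModel.T M, ∀ x ∈ Nodes.WittModel.X M (sr 0), a * x * a⁻¹ = x → x = 1)
    (hj : ∃ a ∈ Nodes.WittModel.T M, ∀ x ∈ Nodes.WittModel.X M (sr 1), a * x * a⁻¹ = x → x = 1) : HasKPair p K := by
  have : Finite (CoxeterMatrix.B 2).Group := finite_W (CoxeterMatrix.B 2).toCoxeterSystem
  exact hasKPair_of_rgd (Nodes.RGDAllP.rgd_model M hA hp0 (CoxeterMatrix.B 2).toCoxeterSystem)
    (Nodes.WittModel.G1_eq_top M (by omega) _) (i := 0) (j := 1) (by decide) hI hM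
    (fun z hz h0 h1 h2 => hX M hA hDer _ hz h0 h1 h2) hT hci hcj hinv hi hj

/-- **Assembly**, from the facts about the torus. -/
theorem hasKPairSep [Finite V] [Finite K] [IsSimpleGroup K] {p : ℕ} [Fact p.Prime] [CharP F p] {p0 : Fr.Adm}
    (hp0 : p0.c ≠ 0) (hDer : Der Fr)
    (hT : ∀ x ∈ Nodes.WittModel.T M, ∀ y ∈ Nodes.WittModel.T M, x * y = y * x)
    (hci : IsCyclic ↥(Nodes.WittModel.T M ⊓ LL (Nodes.WittModel.X M) (sr 0)))
    (hcj : IsCyclic ↥(Nodes.WittModel.T M ⊓ LL (Nodes.WittModel.X M) (sr 1)))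
    (hinv : (∀ t ∈ Nodes.WittModel.T M, t ∈ LL (Nodes.WittModel.X M) (sr 0) →
        Nodes.WittModel.nw M hA p0 0 * t * (Nodes.WittModel.nw M hA p0 0)⁻¹ * t = 1) ∨
      ∀ t ∈ Nodes.WittModel.T M, t ∈ LL (Nodes.WittModel.X M) (sr 1) →
        Nodes.WittModel.nw M hA p0 1 * t * (Nodes.WittModel.nw M hA p0 1)⁻¹ * t = 1)
    (hi : ∃ a ∈ Nodes.WittModel.T M, ∀ x ∈ Nodes.WittModel.X M (sr 0), a * x * a⁻¹ = x → x = 1)
    (hs : ∃ a ∈ Nodes.WittModel.T M, (∀ x ∈ Nodes.WittModel.X M (sr 0), a * x * a⁻¹ = x) ∧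
      ∀ x ∈ Nodes.WittModel.X M (sr 1), a * x * a⁻¹ = x → x = 1) : HasKPairSep p K := by
  have : Finite (CoxeterMatrix.B 2).Group := finite_W (CoxeterMatrix.B 2).toCoxeterSystem
  exact hasKPairSep_of_rgd (Nodes.RGDAllP.rgd_model M hA hp0 (CoxeterMatrix.B 2).toCoxeterSystem)
    (Nodes.WittModel.G1_eq_top M (by omega) _) (i := 0) (j := 1) (by decide) hI hM
    (fun z hz h0 h1 h2 => hX M hA hDer _ hz h0 h1 h2) hT hci hcj hinv hi hs

end Model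

end Cfsg.Agent.ParSys.Fam.Witt
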